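import Mathlib.RingTheory.Etale.Kaehler
import Mathlib.RingTheory.Derivation.MapCoeffs
import Mathlib.RingTheory.Valuation.ValuationSubring
import Mathlib.RingTheory.UniqueFactorizationDomain.Basic
import Mathlib.RingTheory.PrincipalIdealDomain

/-!
# Derivations of localisations and local rings of the rational function field

`exists_extend`: derivations extend to localisations.  `loc ev P`: the valuation ring of a prime of `K[X]`
inside a field `F` of which `ev : K[X] → F` exhibits a field of fractions; stability under derivations and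
compatibility with evaluation at a rational point.
-/

set_option autoImplicit false
set_option linter.style.haveILetI false

universe u

open Polynomial

namespace Groth.Agent.AlmostR6

/-- A derivation into a localisation extends to the localisation. -/
theorem exists_extend {k R T : Type u} [CommRing k] [CommRing R] [CommRing T] [Algebra k R] [Algebra R T]
    [Algebra k T] [IsScalarTower k R T] (M : Submonoid R) [IsLocalization M T] (d : Derivation k R T) :
    ∃ d' : Derivation k T T, ∀ r, d' (algebraMap R T r) = d r := by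
  let L := IsLocalizedModule.lift M (KaehlerDifferential.map k k R T) d.liftKaehlerDifferential
    (IsLocalizedModule.map_units (Algebra.linearMap R T))
  refine ⟨(L.extendScalarsOfIsLocalization M T).compDer (KaehlerDifferential.D k T), fun r => ?_⟩
  show L (KaehlerDifferential.D k T (algebraMap R T r)) = _
  rw [← KaehlerDifferential.map_D k k R T r, IsLocalizedModule.lift_apply]
  exact Derivation.liftKaehlerDifferential_comp_D d r

section Loc

variable {k K F : Type u} [Field k] [Field K] [Field F] (ev : K[X] →+* F)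

/-- Every element of `F` is a quotient of two polynomials. -/
def IsFrac : Prop :=
  Function.Injective ev ∧ ∀ x : F, ∃ a b, b ≠ 0 ∧ x * ev b = ev a

variable {ev}

theorem IsFrac.exists_coprime (h : IsFrac ev) (x : F) :
    ∃ a b, b ≠ 0 ∧ IsCoprime a b ∧ x * ev b = ev a := by
  obtain ⟨a, b, hb, hx⟩ := h.2 x
  obtain ⟨a', b', c, hr, ha, hb'⟩ := UniqueFactorizationMonoid.exists_reduced_factors' a b hb
  subst ha hb'
  have hc : ev c ≠ 0 := (map_ne_zero_iff ev h.1).2 (left_ne_zero_of_mul hb)
  refine ⟨a', b', right_ne_zero_of_mul hb, hr.isCoprime, mul_left_cancel₀ hc ?_⟩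
  rw [map_mul, map_mul] at hx
  linear_combination hx

variable (h : IsFrac ev) (P : Ideal K[X]) [hP : P.IsPrime]

theorem ev_ne_zero {ev : K[X] →+* F} (h : IsFrac ev) {P : Ideal K[X]} {b : K[X]} (hb : b ∉ P) : ev b ≠ 0 :=
  (map_ne_zero_iff ev h.1).2 fun e => hb (e ▸ P.zero_mem)

/-- The valuation ring of a prime of `K[X]` in `F`. -/
noncomputable def loc : ValuationSubring F where
  carrier := {x | ∃ a b, b ∉ P ∧ x * ev b = ev a}
  mul_mem' := by
    rintro x y ⟨a, b, hb, hx⟩ ⟨c, d, hd, hy⟩
    refine ⟨a * c, b * d, fun hm => (hP.mem_or_mem hm).elim hb hd, ?_⟩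
    rw [map_mul, map_mul, ← hx, ← hy]
    ring
  one_mem' := ⟨1, 1, hP.one_notMem, one_mul _⟩
  add_mem' := by
    rintro x y ⟨a, b, hb, hx⟩ ⟨c, d, hd, hy⟩
    refine ⟨a * d + c * b, b * d, fun hm => (hP.mem_or_mem hm).elim hb hd, ?_⟩
    rw [map_mul, map_add, map_mul, map_mul, ← hx, ← hy]
    ring
  zero_mem' := ⟨0, 1, hP.one_notMem, by simp⟩
  neg_mem' := by
    rintro x ⟨a, b, hb, hx⟩
    exact ⟨-a, b, hb, by rw [map_neg, ← hx, neg_mul]⟩
  mem_or_inv_mem' := by
    intro x
    obtain ⟨a, b, hb, hab, hx⟩ := h.exists_coprime x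
    by_cases hbP : b ∈ P
    · have haP : a ∉ P := by
        intro haP
        obtain ⟨u, v, huv⟩ := hab
        exact hP.one_notMem (huv ▸ P.add_mem (P.mul_mem_left u haP) (P.mul_mem_left v hbP))
      refine Or.inr ⟨b, a, haP, ?_⟩
      rcases eq_or_ne x 0 with rfl | hx0
      · have ha0 : a = 0 := (map_eq_zero_iff ev h.1).1 (by simpa using hx.symm)
        exact absurd (ha0 ▸ P.zero_mem) haP
      · rw [← hx, inv_mul_cancel_left₀ hx0]
    · exact Or.inl ⟨a, b, hbP, hx⟩

theorem mem_loc {x : F} : x ∈ loc h P ↔ ∃ a b, b ∉ P ∧ x * ev b = ev a := Iff.rfl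

theorem ev_mem_loc (p : K[X]) : ev p ∈ loc h P := ⟨p, 1, hP.one_notMem, by simp⟩

variable [Algebra k K] [Algebra k F]

/-- Stability of the valuation ring under a derivation. -/
theorem der_mem_loc (D : Derivation k F F) (hC : ∀ c, D (ev (C c)) ∈ loc h P) (hX : D (ev X) ∈ loc h P)
    {x : F} (hx : x ∈ loc h P) : D x ∈ loc h P := by
  have hpoly : ∀ p : K[X], D (ev p) ∈ loc h P := by
    intro p
    induction p using Polynomial.induction_on with
    | C c => exact hC c
    | add p q hp hq => rw [map_add, map_add]; exact add_mem hp hq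
    | monomial n c hn =>
      rw [pow_succ, ← mul_assoc, map_mul ev (C c * X ^ n) X, Derivation.leibniz, smul_eq_mul, smul_eq_mul]
      exact add_mem (mul_mem (ev_mem_loc h P _) hX) (mul_mem (ev_mem_loc h P _) hn)
  obtain ⟨a, b, hb, hxab⟩ := hx
  have hb0 := ev_ne_zero h hb
  have hinv : (ev b)⁻¹ ∈ loc h P := ⟨1, b, hb, by rw [map_one, inv_mul_cancel₀ hb0]⟩
  have hl : x * D (ev b) + ev b * D x = D (ev a) := by
    rw [← hxab, Derivation.leibniz, smul_eq_mul, smul_eq_mul]
  have : D x = (D (ev a) - x * D (ev b)) * (ev b)⁻¹ := by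
    field_simp
    linear_combination hl
  rw [this]
  exact mul_mem (sub_mem (hpoly a) (mul_mem ⟨a, b, hb, hxab⟩ (hpoly b))) hinv

/-- The restriction of a derivation to the valuation ring. -/
noncomputable def derLoc [Algebra k ↥(loc h P)] (halg : ∀ c : k, ((algebraMap k ↥(loc h P) c : ↥(loc h P)) : F) = algebraMap k F c)
    (D : Derivation k F F) (hD : ∀ x ∈ loc h P, D x ∈ loc h P) : Derivation k ↥(loc h P) ↥(loc h P) :=
  Derivation.mk'
    { toFun := fun x => ⟨D x, hD x x.2⟩
      map_add' := fun x y => Subtype.ext (by simp)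
      map_smul' := fun c x => Subtype.ext (by
        show D ((c • x : ↥(loc h P)) : F) = ((c • (⟨D x, hD x x.2⟩ : ↥(loc h P)) : ↥(loc h P)) : F)
        rw [Algebra.smul_def, Algebra.smul_def]
        show D ((algebraMap k ↥(loc h P) c : F) * (x : F)) = (algebraMap k ↥(loc h P) c : F) * D x
        rw [halg, Derivation.leibniz, Derivation.map_algebraMap, smul_zero, add_zero, smul_eq_mul]) }
    fun x y => Subtype.ext (by
      show D ((x : F) * y) = (x : F) * D y + (y : F) * D x
      rw [Derivation.leibniz, smul_eq_mul, smul_eq_mul])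

end Loc

section Residue

variable {k K F : Type u} [Field k] [Field K] [Field F] {ev : K[X] →+* F} (h : IsFrac ev) (α : K)

/-- The ideal of a rational point. -/
noncomputable abbrev ptIdeal : Ideal K[X] := RingHom.ker (evalRingHom α)

instance : (ptIdeal α).IsPrime := RingHom.ker_isPrime _

/-- The residue map at a rational point. -/
theorem exists_res : ∃ r : ↥(loc h (ptIdeal α)) →+* K,
    ∀ (x : ↥(loc h (ptIdeal α))) a b, eval α b ≠ 0 → (x : F) * ev b = ev a → r x * eval α b = eval α a := by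
  have key : ∀ x : ↥(loc h (ptIdeal α)), ∃ r : K, ∀ a b, eval α b ≠ 0 → (x : F) * ev b = ev a →
      r * eval α b = eval α a := by
    rintro ⟨x, a, b, hb, hx⟩
    have hb' : eval α b ≠ 0 := hb
    refine ⟨eval α a / eval α b, fun a' b' hb'' hx' => ?_⟩
    have e : a * b' = a' * b := h.1 (by rw [map_mul, map_mul, ← hx, ← hx']; ring)
    have e' : eval α a * eval α b' = eval α a' * eval α b := by rw [← eval_mul, e, eval_mul]
    field_simp
    linear_combination e'
  choose r hr using key
  refine ⟨{ toFun := r, map_one' := ?_, map_mul' := ?_, map_zero' := ?_, map_add' := ?_ }, hr⟩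
  · simpa using hr 1 1 1 (by simp) (by simp)
  · intro x y
    obtain ⟨x, a, b, hb, hx⟩ := x
    obtain ⟨y, c, d, hd, hy⟩ := y
    have hb' : eval α b ≠ 0 := hb
    have hd' : eval α d ≠ 0 := hd
    have e1 := hr ⟨x, a, b, hb, hx⟩ a b hb' hx
    have e2 := hr ⟨y, c, d, hd, hy⟩ c d hd' hy
    have e3 := hr (⟨x, a, b, hb, hx⟩ * ⟨y, c, d, hd, hy⟩) (a * c) (b * d) (by simp [hb', hd'])
      (by show x * y * ev (b * d) = _; rw [map_mul, map_mul, ← hx, ← hy]; ring)
    rw [eval_mul, eval_mul] at e3
    refine mul_right_cancel₀ (mul_ne_zero hb' hd') ?_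
    rw [e3, ← e1, ← e2]
    ring
  · simpa using hr 0 0 1 (by simp) (by simp)
  · intro x y
    obtain ⟨x, a, b, hb, hx⟩ := x
    obtain ⟨y, c, d, hd, hy⟩ := y
    have hb' : eval α b ≠ 0 := hb
    have hd' : eval α d ≠ 0 := hd
    have e1 := hr ⟨x, a, b, hb, hx⟩ a b hb' hx
    have e2 := hr ⟨y, c, d, hd, hy⟩ c d hd' hy
    have e3 := hr (⟨x, a, b, hb, hx⟩ + ⟨y, c, d, hd, hy⟩) (a * d + c * b) (b * d) (by simp [hb', hd'])
      (by show (x + y) * ev (b * d) = _; rw [map_mul, map_add, map_mul, map_mul, ← hx, ← hy]; ring)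
    rw [eval_mul, eval_add, eval_mul, eval_mul] at e3
    refine mul_right_cancel₀ (mul_ne_zero hb' hd') ?_
    rw [e3, ← e1, ← e2]
    ring

theorem res_ev {r : ↥(loc h (ptIdeal α)) →+* K}
    (hr : ∀ (x : ↥(loc h (ptIdeal α))) a b, eval α b ≠ 0 → (x : F) * ev b = ev a → r x * eval α b = eval α a)
    (p : K[X]) : r ⟨ev p, ev_mem_loc h _ p⟩ = eval α p := by
  simpa using hr ⟨ev p, ev_mem_loc h _ p⟩ p 1 (by simp) (by simp)

variable [Algebra k K] [Algebra k F]

/-- A derivation of `F` extending `d` and moving the point along commutes with the residue map. -/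
theorem res_der {r : ↥(loc h (ptIdeal α)) →+* K}
    (hr : ∀ (x : ↥(loc h (ptIdeal α))) a b, eval α b ≠ 0 → (x : F) * ev b = ev a → r x * eval α b = eval α a)
    (D : Derivation k F F) (hD : ∀ x ∈ loc h (ptIdeal α), D x ∈ loc h (ptIdeal α)) (d : Derivation k K K)
    (hC : ∀ c, D (ev (C c)) = ev (C (d c))) (hX : D (ev X) = ev (C (d α)))
    (x : ↥(loc h (ptIdeal α))) : r ⟨D x, hD x x.2⟩ = d (r x) := by
  have hpoly : ∀ p : K[X], ∃ q : K[X], D (ev p) = ev q ∧ eval α q = d (eval α p) := by
    intro p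
    induction p using Polynomial.induction_on with
    | C c => exact ⟨C (d c), hC c, by simp⟩
    | add p q hp hq =>
      obtain ⟨p', hp1, hp2⟩ := hp
      obtain ⟨q', hq1, hq2⟩ := hq
      exact ⟨p' + q', by simp [hp1, hq1], by simp [hp2, hq2]⟩
    | monomial n c hn =>
      obtain ⟨q, hq1, hq2⟩ := hn
      refine ⟨C c * X ^ n * C (d α) + X * q, ?_, ?_⟩
      · rw [pow_succ, ← mul_assoc, map_mul ev (C c * X ^ n) X, Derivation.leibniz, smul_eq_mul, smul_eq_mul,
          hX, hq1, map_add, map_mul ev (C c * X ^ n) (C (d α)), map_mul ev X q]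
      · rw [pow_succ, ← mul_assoc, eval_mul (p := C c * X ^ n) (q := X), eval_X, Derivation.leibniz,
          smul_eq_mul, smul_eq_mul, eval_add, eval_mul (p := C c * X ^ n), eval_C, eval_mul (p := X), eval_X, hq2]
  obtain ⟨x, a, b, hb, hx⟩ := x
  have hb' : eval α b ≠ 0 := hb
  obtain ⟨a', ha1, ha2⟩ := hpoly a
  obtain ⟨b', hb1, hb2⟩ := hpoly b
  have hl : x * D (ev b) + ev b * D x = D (ev a) := by
    rw [← hx, Derivation.leibniz, smul_eq_mul, smul_eq_mul]
  have e1 := hr ⟨x, a, b, hb, hx⟩ a b hb' hx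
  have e2 := hr ⟨D x, hD x ⟨a, b, hb, hx⟩⟩ (a' * b - a * b') (b * b) (by simp [hb'])
    (by show D x * ev (b * b) = _
        rw [map_mul, map_sub, map_mul, map_mul, ← ha1, ← hb1, ← hl, ← hx]; ring)
  have e3 : d (r ⟨x, a, b, hb, hx⟩) * eval α b + r ⟨x, a, b, hb, hx⟩ * d (eval α b) = d (eval α a) := by
    rw [← e1, Derivation.leibniz, smul_eq_mul, smul_eq_mul]; ring
  rw [eval_mul, eval_sub, eval_mul, eval_mul, ha2, hb2] at e2
  refine mul_right_cancel₀ (mul_ne_zero hb' hb') ?_
  rw [e2, ← e1]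
  rw [← e1] at e3
  linear_combination (eval α b) * -e3

end Residue

section Global

variable {K F : Type u} [Field K] [Field F] {ev : K[X] →+* F}

/-- An element in the valuation ring of every maximal ideal is a polynomial. -/
theorem exists_poly_of_forall_mem (h : IsFrac ev) {x : F}
    (hx : ∀ (P : Ideal K[X]) [P.IsPrime], P ≠ ⊥ → x ∈ loc h P) : ∃ p, ev p = x := by
  obtain ⟨a, b, hb, hab, hxb⟩ := h.exists_coprime x
  by_cases hu : IsUnit b
  · obtain ⟨u, rfl⟩ := hu
    refine ⟨a * ↑u⁻¹, ?_⟩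
    rw [map_mul, ← hxb, mul_assoc, ← map_mul, u.mul_inv, map_one, mul_one]
  · obtain ⟨m, hm, hbm⟩ := Ideal.exists_le_maximal (Ideal.span {b}) (by simpa [Ideal.span_singleton_eq_top] using hu)
    have hbm' : b ∈ m := hbm (Ideal.subset_span rfl)
    haveI := hm.isPrime
    obtain ⟨c, d, hd, hxd⟩ := (mem_loc h m).1 (hx m fun e => hb (Ideal.mem_bot.1 (e ▸ hbm')))
    have e : a * d = c * b := h.1 (by rw [map_mul, map_mul, ← hxb, ← hxd]; ring)
    have ha : a ∈ m := (hm.isPrime.mem_or_mem (e ▸ m.mul_mem_left c hbm')).resolve_right hd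
    obtain ⟨v, w, hvw⟩ := hab
    exact absurd (hvw ▸ m.add_mem (m.mul_mem_left v ha) (m.mul_mem_left w hbm')) hm.isPrime.one_notMem

/-- A polynomial in `t` times `t ^ n` regular at infinity. -/
theorem eq_zero_or_const_of_mem_infty {ev' : K[X] →+* F} (h' : IsFrac ev') (hC : ∀ c, ev' (C c) = ev (C c))
    (hts : ev X * ev' X = 1) (p : K[X]) (n : ℕ)
    (hp : ev p * ev X ^ n ∈ loc h' (ptIdeal (0 : K))) : p = 0 ∨ (n = 0 ∧ p.natDegree = 0) := by
  by_contra hcon
  push Not at hcon
  obtain ⟨hp0, hpd⟩ := hcon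
  have hpos : 0 < p.natDegree + n := by
    rcases eq_or_ne n 0 with hn | hn
    · have := hpd hn; omega
    · omega
  obtain ⟨a, b, hb, hab⟩ := (mem_loc h' _).1 hp
  have hb' : eval 0 b ≠ 0 := hb
  have hext : ∀ g : K[X] →+* F, ∀ q, g q = eval₂ (g.comp C) (g X) q := by
    intro g q
    refine RingHom.congr_fun (Polynomial.ringHom_ext (g := eval₂RingHom (g.comp C) (g X)) (fun c => ?_) ?_) q <;> simp
  have hrev : ev' p.reverse = ev p * ev' X ^ p.natDegree := by
    letI : Invertible (ev X) := ⟨ev' X, by rw [mul_comm]; exact hts, hts⟩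
    have e := eval₂_reverse_mul_pow (ev.comp C) (ev X) p
    have hC' : ev'.comp C = ev.comp C := RingHom.ext hC
    rw [← hext ev p, ← hC', show (⅟(ev X)) = ev' X from rfl, ← hext ev' p.reverse] at e
    rw [← e, mul_assoc, ← mul_pow, hts, one_pow, mul_one]
  have key : ev' (b * p.reverse) = ev' (a * X ^ (p.natDegree + n)) := by
    rw [map_mul, map_mul, map_pow, hrev, ← hab, pow_add]
    have : ev X ^ n * ev' X ^ n = 1 := by rw [← mul_pow, hts, one_pow]
    linear_combination (-(ev p * ev' b * ev' X ^ p.natDegree)) * this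
  have := congrArg (eval (0 : K)) (h'.1 key)
  rw [eval_mul, eval_mul, eval_pow, eval_X, zero_pow hpos.ne', mul_zero, ← coeff_zero_eq_eval_zero p.reverse,
    coeff_zero_reverse] at this
  exact mul_ne_zero hb' (leadingCoeff_ne_zero.2 hp0) this

end Global

end Groth.Agent.AlmostR6
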