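import Groth.Agent.Lib.AlmostR6.Local

/-!
# Tensor forms killed by enough tangent fields along a proper curve

`eq_zero_of_fields`: let `g : C → X` be a morphism of varieties over an algebraically closed field, `δ` a finite
family of sections of `g^* T_X` spanning at the points of a nonempty open of `C`, and suppose that in each
admissible product of members of the family one factor vanishes at a fixed point.  Then, if the only global
functions on `C` are constant, a global section of `(Ω^i)^{⊗ m}` on `X` vanishes: to every order along `C`.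
-/

set_option autoImplicit false
set_option backward.isDefEq.respectTransparency false
set_option backward.isDefEq.respectTransparency.types false
set_option linter.style.haveILetI false

universe u

open CategoryTheory AlgebraicGeometry Opposite TopologicalSpace IsLocalRing

noncomputable section

namespace Groth.Agent.AlmostR6

variable {k : Type u} [Field k]

/-- A field of tangent vectors along a morphism. -/
structure VField {X C : Scheme.{u}} (f : X ⟶ Spec (CommRingCat.of k)) (g : C ⟶ X) where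
  d : ∀ W : X.Opens, Γ(X, W) →+ Γ(C, g ⁻¹ᵁ W)
  leibniz : ∀ (W : X.Opens) (a b : Γ(X, W)), d W (a * b) = g.app W a * d W b + g.app W b * d W a
  res : ∀ (W W' : X.Opens) (h : W' ≤ W) (a : Γ(X, W)),
    d W' (X.presheaf.map (homOfLE h).op a) = C.presheaf.map (homOfLE (g.preimage_mono h)).op (d W a)
  const : ∀ (W : X.Opens) (c : Γ(Spec (CommRingCat.of k), ⊤)), d W (f.appLE ⊤ W le_top c) = 0

variable {X : Scheme.{u}} {f : X ⟶ Spec (CommRingCat.of k)} [QuasiSeparated f] {i : ℕ} {L : X.Modules}
  (hL : ExtPow.IsExtPow i (Omega.sheaf f) L)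

section Alt

theorem L1_eq_zero_of_eq {p : X} {O : Type u} [CommRing O] [Algebra k O] {ψ : X.presheaf.stalk p →+* O}
    (hψ : IsOver f ψ) (D : Fin i → Derivation k O O) {b b' : Fin i} (hb : b ≠ b') (h : D b = D b')
    (a : L.presheaf.stalk p) : L1 hL hψ D a = 0 := by
  refine (DFunLike.congr_fun (L1_ext hL hψ D 0 (fun c a => by simp) fun U hU hp e => ?_) a).symm
  rw [L1_germ hL hψ D hU hp, lamExt_wedge]
  exact (Matrix.det_zero_of_column_eq hb fun l => by simp [h]).symm

theorem Lam_eq_zero_of_eq {p : X} {O : Type u} [CommRing O] [Algebra k O] {ψ : X.presheaf.stalk p →+* O}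
    (hψ : IsOver f ψ) : ∀ (n : ℕ) (D : Fin n × Fin i → Derivation k O O) (a : Fin n) {b b' : Fin i}
      (_ : b ≠ b') (_ : D (a, b) = D (a, b')) (z : (CohB1.tensorPow L n).presheaf.stalk p), Lam hL hψ n D z = 0
  | 0, _, a, _, _, _, _, _ => a.elim0
  | n + 1, D, a, b, b', hb, h, z => by
    revert z
    refine pow_induction n ?_ ?_ (fun x y => ?_)
    · simp
    · intro u v hu hv; rw [map_add, hu, hv, add_zero]
    · rw [Lam_pure]
      revert h
      refine Fin.lastCases (fun h => ?_) (fun j h => ?_) a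
      · rw [L1_eq_zero_of_eq hL hψ (lastD D) hb h, mul_zero]
      · rw [Lam_eq_zero_of_eq hψ n (initD D) j hb h x, zero_mul]

end Alt

section Expand

variable {p : X} {O : Type u} [CommRing O] [Algebra k O] {ψ : X.presheaf.stalk p →+* O}
  (hψ : IsOver f ψ) {m : ℕ} (z : (CohB1.tensorPow L m).presheaf.stalk p)

/-- The contraction as a multilinear map in the derivations. -/
def LamM : MultilinearMap O (fun _ : Fin m × Fin i => Derivation k O O) O where
  toFun D := Lam hL hψ m D z
  map_update_add' := fun {inst} D t a b => by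
    obtain rfl : inst = instDecidableEqProd := Subsingleton.elim _ _
    exact Lam_update_add hL hψ m D t a b z
  map_update_smul' := fun {inst} D t c a => by
    obtain rfl : inst = instDecidableEqProd := Subsingleton.elim _ _
    exact Lam_update_smul hL hψ m D t c a z

theorem Lam_sum {κ : Type u} [Fintype κ] (c : Fin m × Fin i → κ → O) (D : κ → Derivation k O O) :
    Lam hL hψ m (fun t => ∑ a, c t a • D a) z =
      ∑ α : Fin m × Fin i → κ, (∏ t, c t (α t)) * Lam hL hψ m (fun t => D (α t)) z := by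
  classical
  show LamM hL hψ z (fun t => ∑ a, c t a • D a) = _
  rw [MultilinearMap.map_sum]
  exact Finset.sum_congr rfl fun α _ => MultilinearMap.map_smul_univ _ _ _

end Expand

variable {C : Scheme.{u}} {fC : C ⟶ Spec (CommRingCat.of k)} {g : C ⟶ X} (hg : g ≫ f = fC)
  {m : ℕ} (s : Γ(CohB1.tensorPow L m, ⊤)) {ι : Type u} (δ : ι → VField f g)

/-- The value of a Leibniz map along a point. -/
abbrev pv (e : Spec (CommRingCat.of k) ⟶ C) {W : X.Opens} (hW : (e ≫ g) (closedPoint k) ∈ W) (v : VField f g)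
    (r : Γ(X, W)) : k :=
  evalAt e (show e (closedPoint k) ∈ g ⁻¹ᵁ W from hW) (v.d W r)

theorem pv_res (e : Spec (CommRingCat.of k) ⟶ C) {W W' : X.Opens} (h : W' ≤ W) (hW : (e ≫ g) (closedPoint k) ∈ W')
    (v : VField f g) (r : Γ(X, W)) : pv e hW v (X.presheaf.map (homOfLE h).op r) = pv e (h hW) v r := by
  show evalAt e _ (v.d W' _) = _
  rw [v.res W W' h r]
  exact evalAt_res e _ _ _

/-- The algebra map at a point. -/
def evA (e : Spec (CommRingCat.of k) ⟶ C) (he : IsPt f (e ≫ g)) :
    letI := stalkAlgebra f ((e ≫ g) (closedPoint k))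
    X.presheaf.stalk ((e ≫ g) (closedPoint k)) →ₐ[k] k :=
  letI := stalkAlgebra f ((e ≫ g) (closedPoint k))
  { clMap (e ≫ g) with
    commutes' := fun c => by
      refine Eq.trans ?_ (evalAt_algebraMap he (V := ⊤) trivial c)
      show clMap (e ≫ g) (X.presheaf.germ ⊤ _ trivial (f.appTop _)) = _
      exact congrArg (fun z => clMap (e ≫ g) (X.presheaf.germ ⊤ ((e ≫ g) (closedPoint k)) trivial z))
        (ConcreteCategory.congr_hom (Scheme.Hom.appLE_eq_app (f := f) (U := ⊤))
          ((Scheme.ΓSpecIso (CommRingCat.of k)).inv c)).symm }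

/-- Leading coefficients of the components are all zero up to the order `r`. -/
def OrderGE (T : C.Opens) (r : ℕ) : Prop :=
  ∀ e : Spec (CommRingCat.of k) ⟶ C, ∀ he : IsPt f (e ≫ g), IsPt fC e → e (closedPoint k) ∈ T →
    letI := stalkAlgebra f ((e ≫ g) (closedPoint k))
    ∀ D : Fin m × Fin i → Derivation k (X.presheaf.stalk ((e ≫ g) (closedPoint k)))
        (X.presheaf.stalk ((e ≫ g) (closedPoint k))),
      Lam hL (isOver_id _) m D ((CohB1.tensorPow L m).presheaf.germ ⊤ _ trivial s) ∈
        RingHom.ker (evA e he) ^ r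

/-- Data computing a leading coefficient at a point. -/
def IsLead [Fintype ι] (r : ℕ) (lam₀ : ι → k) (w : Fin m × Fin i → ι) (e : Spec (CommRingCat.of k) ⟶ C)
    (he : IsPt f (e ≫ g)) (x : k) : Prop :=
  letI := stalkAlgebra f ((e ≫ g) (closedPoint k))
  ∃ (U : Fin m × Fin i → Derivation k (X.presheaf.stalk ((e ≫ g) (closedPoint k)))
        (X.presheaf.stalk ((e ≫ g) (closedPoint k))))
    (θ : X.presheaf.stalk ((e ≫ g) (closedPoint k)) →ₐ[k] Jet r k),
    (∀ t, ∀ (W : X.Opens) (hW : (e ≫ g) (closedPoint k) ∈ W) (a : Γ(X, W)),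
      evA e he (U t (X.presheaf.germ W _ hW a)) = pv e hW (δ (w t)) a) ∧
    (∀ a, jev θ a = evA e he a) ∧
    (∀ (W : X.Opens) (hW : (e ≫ g) (closedPoint k) ∈ W) (a : Γ(X, W)),
      jtan θ (X.presheaf.germ W _ hW a) = ∑ l, lam₀ l * pv e hW (δ l) a) ∧
    x = jcoef r k ⟨r, by omega⟩ (θ (Lam hL (isOver_id _) m U ((CohB1.tensorPow L m).presheaf.germ ⊤ _ trivial s)))

variable (f) in
/-- The tangent vector of a field at a point. -/
theorem exists_tan (e : Spec (CommRingCat.of k) ⟶ C) (he : IsPt f (e ≫ g)) (v : VField f g) :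
    ∃ T : X.presheaf.stalk ((e ≫ g) (closedPoint k)) →+ k,
      (∀ a b, T (a * b) = evA e he a * T b + evA e he b * T a) ∧
      ∀ (W : X.Opens) (hW : (e ≫ g) (closedPoint k) ∈ W) (a : Γ(X, W)), T (X.presheaf.germ W _ hW a) = pv e hW v a := by
  classical
  choose W hW a ha using fun z : X.presheaf.stalk ((e ≫ g) (closedPoint k)) => X.presheaf.germ_exist z
  have key : ∀ (U : X.Opens) (hU : (e ≫ g) (closedPoint k) ∈ U) (b : Γ(X, U)),
      pv e (hW (X.presheaf.germ U _ hU b)) v (a (X.presheaf.germ U _ hU b)) = pv e hU v b := by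
    intro U hU b
    obtain ⟨V, hV, iU, iW, eV⟩ := X.presheaf.germ_eq _ hU (hW _) b (a (X.presheaf.germ U _ hU b)) (ha _).symm
    rw [show iU = homOfLE iU.le from Subsingleton.elim _ _, show iW = homOfLE iW.le from Subsingleton.elim _ _] at eV
    have := congrArg (pv e hV v) eV
    rw [pv_res e iU.le, pv_res e iW.le] at this
    exact this.symm
  have common : ∀ z z', ∃ (U : X.Opens) (hU : (e ≫ g) (closedPoint k) ∈ U) (x y : Γ(X, U)),
      X.presheaf.germ U _ hU x = z ∧ X.presheaf.germ U _ hU y = z' := fun z z' =>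
    ⟨W z ⊓ W z', ⟨hW z, hW z'⟩, X.presheaf.map (homOfLE inf_le_left).op (a z),
      X.presheaf.map (homOfLE inf_le_right).op (a z'), (TopCat.Presheaf.germ_res_apply _ _ _ _ _).trans (ha z),
      (TopCat.Presheaf.germ_res_apply _ _ _ _ _).trans (ha z')⟩
  refine ⟨AddMonoidHom.mk' (fun z => pv e (hW z) v (a z)) fun z z' => ?_, fun z z' => ?_, key⟩
  · obtain ⟨U, hU, x, y, rfl, rfl⟩ := common z z'
    rw [← map_add (X.presheaf.germ U _ hU).hom, key, key, key]
    show evalAt e _ (v.d U (x + y)) = _
    rw [map_add, map_add]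
  · obtain ⟨U, hU, x, y, rfl, rfl⟩ := common z z'
    show pv e (hW _) v (a _) = _ * pv e (hW _) v (a _) + _ * pv e (hW _) v (a _)
    rw [← map_mul (X.presheaf.germ U _ hU).hom, key, key, key]
    show evalAt e _ (v.d U (x * y)) = evalAt (e ≫ g) hU x * _ + evalAt (e ≫ g) hU y * _
    rw [v.leibniz, map_add, map_mul, map_mul, evalAt_app g e hU, evalAt_app g e hU]

/-- The combination of a frame with the contractions of a field lifts it. -/
theorem lift_spec (e : Spec (CommRingCat.of k) ⟶ C) (he : IsPt f (e ≫ g)) {W : X.Opens} (hW : IsAffineOpen W)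
    {κ : Type u} [Fintype κ] (b : Module.Basis κ Γ(X, W) Γ(Omega.sheaf f, W)) (hp : (e ≫ g) (closedPoint k) ∈ W)
    (v : VField f g) :
    letI := stalkAlgebra f ((e ≫ g) (closedPoint k))
    ∀ (D : κ → Derivation k (X.presheaf.stalk ((e ≫ g) (closedPoint k))) (X.presheaf.stalk ((e ≫ g) (closedPoint k))))
      (_ : ∀ l r, D l (X.presheaf.germ W _ hp r) = X.presheaf.germ W _ hp (b.coord l (OmegaSh.dSect f W r)))
      (con : Γ(Omega.sheaf f, W) →+ k) (_ : ∀ r x, con (r • x) = evA e he (X.presheaf.germ W _ hp r) * con x)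
      (_ : ∀ r, con (OmegaSh.dSect f W r) = pv e hp v r)
      (W' : X.Opens) (hW' : (e ≫ g) (closedPoint k) ∈ W') (a : Γ(X, W')),
      evA e he ((∑ l, algebraMap k (X.presheaf.stalk ((e ≫ g) (closedPoint k))) (con (b l)) • D l)
        (X.presheaf.germ W' _ hW' a)) = pv e hW' v a := by
  letI := stalkAlgebra f ((e ≫ g) (closedPoint k))
  intro D hD con hsmul hd W' hW' a
  obtain ⟨T, hT, hTg⟩ := exists_tan f e he v
  rw [← hTg W' hW' a]
  refine DFunLike.congr_fun (leibniz_ext hW hp (evA e he).toRingHom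
    ((evA e he).toRingHom.toAddMonoidHom.comp
      (∑ l, algebraMap k (X.presheaf.stalk ((e ≫ g) (closedPoint k))) (con (b l)) • D l).toLinearMap.toAddMonoidHom)
    T (fun a b => ?_) hT fun r => ?_) _
  · show evA e he (_ : X.presheaf.stalk ((e ≫ g) (closedPoint k))) = _
    rw [show ∀ (E : Derivation k (X.presheaf.stalk ((e ≫ g) (closedPoint k))) (X.presheaf.stalk ((e ≫ g) (closedPoint k)))),
      E.toLinearMap.toAddMonoidHom (a * b) = a * E b + b * E a from fun E => E.leibniz a b, map_add, map_mul, map_mul]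
    rfl
  · show evA e he ((∑ l, algebraMap k _ (con (b l)) • D l) (X.presheaf.germ W _ hp r)) = T (X.presheaf.germ W _ hp r)
    rw [hTg, ← hd, semilinear_basis_expand b ((evA e he).toRingHom.comp (X.presheaf.germ W _ hp).hom) con hsmul,
      ← Derivation.coeFnAddMonoidHom_apply, map_sum, Finset.sum_apply, map_sum]
    refine Finset.sum_congr rfl fun l _ => ?_
    show evA e he (algebraMap k _ (con (b l)) * D l (X.presheaf.germ W _ hp r)) = _
    rw [hD, map_mul, AlgHom.commutes]
    exact mul_comm _ _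

theorem jev_eq_of_germ {p : X} {W : X.Opens} (hW : IsAffineOpen W) (hp : p ∈ W) :
    letI := stalkAlgebra f p
    ∀ {N : ℕ} (θ : X.presheaf.stalk p →ₐ[k] Jet N k) (ev : X.presheaf.stalk p →ₐ[k] k)
      (_ : ∀ y, jev θ (X.presheaf.germ W p hp y) = ev (X.presheaf.germ W p hp y)) (a : X.presheaf.stalk p),
      jev θ a = ev a := by
  letI := stalkAlgebra f p
  intro N θ ev h a
  letI : Algebra Γ(X, W) (X.presheaf.stalk p) := X.presheaf.algebra_section_stalk ⟨p, hp⟩
  haveI := hW.isLocalization_stalk ⟨p, hp⟩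
  let J0 : X.presheaf.stalk p →+* k :=
    { toFun := jev θ
      map_one' := by rw [jev, map_one]; exact Polynomial.coeff_one_zero
      map_mul' := jev_mul θ
      map_zero' := by rw [jev, map_zero, map_zero]
      map_add' := fun a b => by simp only [jev, map_add] }
  exact RingHom.congr_fun (IsLocalization.ringHom_ext (hW.primeIdealOf ⟨p, hp⟩).asIdeal.primeCompl
    (j := J0) (k := ev.toRingHom) (RingHom.ext h)) a

variable [Smooth f]

/-- Changing the derivations without changing their values. -/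
theorem Lam_sub_mem (e : Spec (CommRingCat.of k) ⟶ C) (he : IsPt f (e ≫ g)) (r : ℕ) :
    letI := stalkAlgebra f ((e ≫ g) (closedPoint k))
    ∀ (_ : ∀ D, Lam hL (isOver_id _) m D ((CohB1.tensorPow L m).presheaf.germ ⊤ ((e ≫ g) (closedPoint k)) trivial s) ∈
        RingHom.ker (evA e he) ^ r)
      (U U' : Fin m × Fin i → Derivation k (X.presheaf.stalk ((e ≫ g) (closedPoint k)))
        (X.presheaf.stalk ((e ≫ g) (closedPoint k))))
      (_ : ∀ t, ∀ (W : X.Opens) (hW : (e ≫ g) (closedPoint k) ∈ W) (a : Γ(X, W)),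
        evA e he (U t (X.presheaf.germ W _ hW a)) = evA e he (U' t (X.presheaf.germ W _ hW a))),
      Lam hL (isOver_id _) m U ((CohB1.tensorPow L m).presheaf.germ ⊤ _ trivial s) -
        Lam hL (isOver_id _) m U' ((CohB1.tensorPow L m).presheaf.germ ⊤ _ trivial s) ∈
          RingHom.ker (evA e he) ^ (r + 1) := by
  letI := stalkAlgebra f ((e ≫ g) (closedPoint k))
  intro hord U U' hUU'
  classical
  obtain ⟨W, hW, hpW, κ, hκ, ⟨b⟩⟩ := exists_forms_basis (f := f) ((e ≫ g) (closedPoint k))
  haveI := Fintype.ofFinite κ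
  obtain ⟨D, hD⟩ := exists_dual_ders hW b hpW
  have hc : ∀ t a, evA e he (lam (isOver_id _) (U t) hW hpW (b a)) = evA e he (lam (isOver_id _) (U' t) hW hpW (b a)) := by
    intro t a
    refine DFunLike.congr_fun (ext_forms hW ((evA e he).toRingHom.comp (onOpen (RingHom.id _) hpW))
      ((evA e he).toRingHom.toAddMonoidHom.comp (lam (isOver_id _) (U t) hW hpW))
      ((evA e he).toRingHom.toAddMonoidHom.comp (lam (isOver_id _) (U' t) hW hpW))
      (fun r x => ?_) (fun r x => ?_) fun r => ?_) (b a)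
    · show evA e he (lam (isOver_id _) (U t) hW hpW (r • x)) = _
      rw [lam_smul, map_mul]; rfl
    · show evA e he (lam (isOver_id _) (U' t) hW hpW (r • x)) = _
      rw [lam_smul, map_mul]; rfl
    · show evA e he (lam (isOver_id _) (U t) hW hpW _) = evA e he (lam (isOver_id _) (U' t) hW hpW _)
      rw [lam_d, lam_d]
      exact hUU' t W hpW r
  rw [show U = fun t => ∑ a, lam (isOver_id _) (U t) hW hpW (b a) • D a from funext fun t => der_expand hW b hpW D hD (U t),
    show U' = fun t => ∑ a, lam (isOver_id _) (U' t) hW hpW (b a) • D a from funext fun t => der_expand hW b hpW D hD (U' t),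
    Lam_sum, Lam_sum, ← Finset.sum_sub_distrib]
  refine Ideal.sum_mem _ fun α _ => ?_
  rw [← sub_mul, pow_succ']
  refine Ideal.mul_mem_mul ?_ (hord _)
  rw [RingHom.mem_ker, map_sub, map_prod, map_prod]
  simp only [hc, sub_self]

/-- Leading coefficients do not depend on the data. -/
theorem IsLead.unique [Fintype ι] {T : C.Opens} {r : ℕ} (hord : OrderGE (fC := fC) hL s (g := g) T r) {lam₀ : ι → k}
    {w : Fin m × Fin i → ι} {e : Spec (CommRingCat.of k) ⟶ C} {he : IsPt f (e ≫ g)} (he' : IsPt fC e)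
    (heT : e (closedPoint k) ∈ T) {x x' : k} (h : IsLead hL s δ r lam₀ w e he x) (h' : IsLead hL s δ r lam₀ w e he x') :
    x = x' := by
  letI := stalkAlgebra f ((e ≫ g) (closedPoint k))
  obtain ⟨U, θ, hU, hθ0, hθ1, rfl⟩ := h
  obtain ⟨U', θ', hU', hθ0', hθ1', rfl⟩ := h'
  have hm : ∀ a ∈ RingHom.ker (evA e he), jev θ a = 0 := fun a ha => (hθ0 a).trans ha
  have hm' : ∀ a ∈ RingHom.ker (evA e he), jev θ' a = 0 := fun a ha => (hθ0' a).trans ha
  have h1 := jcoef_eq_zero_of_mem θ _ hm (r := r) (by omega)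
    (Lam_sub_mem hL s e he r (hord e he he' heT) U U' fun t W hW a => (hU t W hW a).trans (hU' t W hW a).symm)
  rw [map_sub, map_sub, sub_eq_zero] at h1
  rw [h1]
  obtain ⟨W, hW, hpW, -⟩ := exists_isAffineOpen_mem_and_subset (X := X) (x := (e ≫ g) (closedPoint k)) (U := ⊤) trivial
  have htan := leibniz_ext hW hpW (evA e he).toRingHom
    ((jcoef r k ⟨1, by omega⟩).toAddMonoidHom.comp θ.toRingHom.toAddMonoidHom)
    ((jcoef r k ⟨1, by omega⟩).toAddMonoidHom.comp θ'.toRingHom.toAddMonoidHom)
    (fun a b => (jtan_mul θ a b).trans (by rw [hθ0, hθ0]; rfl))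
    (fun a b => (jtan_mul θ' a b).trans (by rw [hθ0', hθ0']; rfl))
    (fun a => (hθ1 W hpW a).trans (hθ1' W hpW a).symm)
  exact jcoef_congr θ θ' _ hm hm' (fun a _ => DFunLike.congr_fun htan a) _ (hord e he he' heT U')
    ((hθ0 _).trans (hθ0' _).symm)

include hL hg in
/-- Leading coefficients are regular functions, vanishing where a factor does. -/
theorem exists_lead_local [IsIntegral X] [Fintype ι] (r : ℕ) (lam₀ : ι → k) (w : Fin m × Fin i → ι)
    (e₀ : Spec (CommRingCat.of k) ⟶ C) (he₀ : IsPt fC e₀) :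
    ∃ (V : C.Opens) (hV₀ : e₀ (closedPoint k) ∈ V) (a : Γ(C, V)),
      (∀ (e : Spec (CommRingCat.of k) ⟶ C) (he : IsPt f (e ≫ g)) (_ : IsPt fC e) (hV : e (closedPoint k) ∈ V),
        IsLead hL s δ r lam₀ w e he (evalAt e hV a)) ∧
      ((∃ t, ∀ (W : X.Opens) (hW : (e₀ ≫ g) (closedPoint k) ∈ W) (x : Γ(X, W)), pv e₀ hW (δ (w t)) x = 0) →
        evalAt e₀ hV₀ a = 0) := by
  classical
  obtain ⟨W₀, hW₀, hp₀, κ, hκ, ⟨b⟩⟩ := exists_forms_basis (f := f) ((e₀ ≫ g) (closedPoint k))
  haveI := Fintype.ofFinite κ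
  -- components near the image point
  have hG : ∀ α : Fin m × Fin i → κ, ∃ (U : X.Opens) (hU : (e₀ ≫ g) (closedPoint k) ∈ U) (G : Γ(X, U)),
      ∀ (y : X) (hy : y ∈ U) (hy₀ : y ∈ W₀),
        letI := stalkAlgebra f y
        ∀ (D : κ → Derivation k (X.presheaf.stalk y) (X.presheaf.stalk y))
          (_ : ∀ l a, D l (X.presheaf.germ W₀ y hy₀ a) = X.presheaf.germ W₀ y hy₀ (b.coord l (OmegaSh.dSect f W₀ a))),
          X.presheaf.germ U y hy G =
            Lam hL (isOver_id y) m (fun t => D (α t)) ((CohB1.tensorPow L m).presheaf.germ ⊤ y trivial s) := by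
    intro α
    letI := stalkAlgebra f ((e₀ ≫ g) (closedPoint k))
    obtain ⟨D₀, hD₀⟩ := exists_dual_ders hW₀ b hp₀
    obtain ⟨U, hU, G, hG⟩ := X.presheaf.germ_exist
      (Lam hL (isOver_id _) m (fun t => D₀ (α t))
        ((CohB1.tensorPow L m).presheaf.germ ⊤ ((e₀ ≫ g) (closedPoint k)) trivial s))
    refine ⟨U, hU, G, fun y hy hy₀ => ?_⟩
    letI := stalkAlgebra f y
    intro D hD
    letI := stalkAlgebra f (genericPoint X)
    have hη : ∀ z : X, genericPoint X ⤳ z := fun z => (genericPoint_spec X).specializes trivial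
    have hηW : genericPoint X ∈ W₀ := (hη _).mem_open W₀.2 hp₀
    obtain ⟨Dη, hDη⟩ := exists_dual_ders hW₀ b hηW
    have key : ∀ (z : X) (hz : z ∈ W₀),
        letI := stalkAlgebra f z
        ∀ (Dz : κ → Derivation k (X.presheaf.stalk z) (X.presheaf.stalk z))
          (_ : ∀ l a, Dz l (X.presheaf.germ W₀ z hz a) = X.presheaf.germ W₀ z hz (b.coord l (OmegaSh.dSect f W₀ a))),
          X.presheaf.stalkSpecializes (hη z)
              (Lam hL (isOver_id z) m (fun t => Dz (α t)) ((CohB1.tensorPow L m).presheaf.germ ⊤ z trivial s)) =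
            Lam hL (isOver_id (genericPoint X)) m (fun t => Dη (α t))
              ((CohB1.tensorPow L m).presheaf.germ ⊤ (genericPoint X) trivial s) := by
      intro z hz
      letI := stalkAlgebra f z
      intro Dz hDz
      have hcomm : ∀ l a, Dη l (X.presheaf.stalkSpecializes (hη z) a) = X.presheaf.stalkSpecializes (hη z) (Dz l a) := by
        intro l
        refine DFunLike.congr_fun (leibniz_ext hW₀ hz (X.presheaf.stalkSpecializes (hη z)).hom
          ((Dη l).toLinearMap.toAddMonoidHom.comp (X.presheaf.stalkSpecializes (hη z)).hom.toAddMonoidHom)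
          ((X.presheaf.stalkSpecializes (hη z)).hom.toAddMonoidHom.comp (Dz l).toLinearMap.toAddMonoidHom)
          (fun a b => ?_) (fun a b => ?_) fun a => ?_)
        · show Dη l ((X.presheaf.stalkSpecializes (hη z)).hom (a * b)) = _
          rw [map_mul, Derivation.leibniz]; rfl
        · show (X.presheaf.stalkSpecializes (hη z)).hom (Dz l (a * b)) = _
          rw [Derivation.leibniz, smul_eq_mul, smul_eq_mul, map_add, map_mul, map_mul]; rfl
        · show Dη l (X.presheaf.stalkSpecializes (hη z) (X.presheaf.germ W₀ z hz a)) =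
            X.presheaf.stalkSpecializes (hη z) (Dz l (X.presheaf.germ W₀ z hz a))
          rw [hDz, TopCat.Presheaf.germ_stalkSpecializes_apply, TopCat.Presheaf.germ_stalkSpecializes_apply, hDη]
      rw [← Lam_comp hL (isOver_id z) (X.presheaf.stalkSpecializes (hη z)).hom (hη z) (isOver_id (genericPoint X)) rfl m
          (fun t => Dz (α t)) (fun t => Dη (α t)) (fun t a => hcomm _ a),
        TopCat.Presheaf.germ_stalkSpecializes_apply]
    refine IsFractionRing.injective (X.presheaf.stalk y) X.functionField ?_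
    show X.presheaf.stalkSpecializes (hη y) _ = X.presheaf.stalkSpecializes (hη y) _
    rw [key y hy₀ D hD, TopCat.Presheaf.germ_stalkSpecializes_apply, ← key _ hp₀ D₀ hD₀, ← hG,
      TopCat.Presheaf.germ_stalkSpecializes_apply]
  choose U₁ hU₁ G hG using hG
  let U₂ : X.Opens := ⟨(W₀ : Set X) ∩ ⋂ α, (U₁ α : Set X), W₀.2.inter (isOpen_iInter_of_finite fun α => (U₁ α).2)⟩
  obtain ⟨W₁, hW₁, hp₁, hW₁le⟩ := exists_isAffineOpen_mem_and_subset (X := X) (x := (e₀ ≫ g) (closedPoint k))
    (U := U₂) ⟨hp₀, Set.mem_iInter.2 hU₁⟩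
  have h10 : W₁ ≤ W₀ := fun y hy => (hW₁le hy).1
  have h1U : ∀ α, W₁ ≤ U₁ α := fun α y hy => Set.mem_iInter.1 (hW₁le hy).2 α
  obtain ⟨V, hV, hV₀, hVle⟩ := exists_isAffineOpen_mem_and_subset (X := C) (x := e₀ (closedPoint k)) (U := g ⁻¹ᵁ W₁) hp₁
  have hVle : V ≤ g ⁻¹ᵁ W₁ := hVle
  have hVle₀ : V ≤ g ⁻¹ᵁ W₀ := hVle.trans (g.preimage_mono h10)
  -- contractions of the fields on the frame
  have hcon : ∀ l, ∃ c : Γ(Omega.sheaf f, W₀) →+ Γ(C, V),
      (∀ a x, c (a • x) = g.appLE W₀ V hVle₀ a * c x) ∧
      ∀ a, c (OmegaSh.dSect f W₀ a) = C.presheaf.map (homOfLE hVle₀).op ((δ l).d W₀ a) := fun l =>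
    exists_contract hW₀ (g.appLE W₀ V hVle₀).hom
      ((C.presheaf.map (homOfLE hVle₀).op).hom.toAddMonoidHom.comp ((δ l).d W₀))
      (fun a b => by
        show C.presheaf.map (homOfLE hVle₀).op ((δ l).d W₀ (a * b)) = _
        rw [(δ l).leibniz, map_add, map_mul, map_mul]; rfl)
      (fun c => by
        show C.presheaf.map (homOfLE hVle₀).op ((δ l).d W₀ _) = 0
        rw [(δ l).const, map_zero])
  choose cV hcVsmul hcVd using hcon
  -- the arc
  letI : Algebra k Γ(C, V) := ((Scheme.ΓSpecIso (CommRingCat.of k)).inv ≫ fC.appLE ⊤ V le_top).hom.toAlgebra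
  letI : Algebra k Γ(X, W₁) := ((Scheme.ΓSpecIso (CommRingCat.of k)).inv ≫ f.appLE ⊤ W₁ le_top).hom.toAlgebra
  let ψ : Γ(X, W₁) →ₐ[k] Γ(C, V) :=
    { (g.appLE W₁ V hVle).hom with
      commutes' := fun c => by
        show g.appLE W₁ V hVle (f.appLE ⊤ W₁ le_top _) = fC.appLE ⊤ V le_top _
        rw [← CategoryTheory.comp_apply (f := f.appLE ⊤ W₁ le_top) (g := g.appLE W₁ V hVle),
          Scheme.Hom.appLE_comp_appLE]
        subst hg
        rfl }
  let dl : Γ(X, W₁) →ₗ[k] Γ(C, V) :=
    { toFun := fun a => ∑ l, algebraMap k Γ(C, V) (lam₀ l) * C.presheaf.map (homOfLE hVle).op ((δ l).d W₁ a)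
      map_add' := fun a b => by simp only [map_add, mul_add, Finset.sum_add_distrib]
      map_smul' := fun c a => by
        rw [Algebra.smul_def, RingHom.id_apply, Algebra.smul_def, Finset.mul_sum]
        refine Finset.sum_congr rfl fun l _ => ?_
        rw [(δ l).leibniz, show (δ l).d W₁ (algebraMap k Γ(X, W₁) c) = 0 from (δ l).const W₁ _, mul_zero, add_zero,
          map_mul, show C.presheaf.map (homOfLE hVle).op (g.app W₁ (algebraMap k Γ(X, W₁) c)) =
            algebraMap k Γ(C, V) c from ψ.commutes c]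
        ring }
  have hdl : ∀ a b, dl (a * b) = ψ a * dl b + ψ b * dl a := by
    intro a b
    show ∑ l, _ = ψ a * ∑ l, _ + ψ b * ∑ l, _
    rw [Finset.mul_sum, Finset.mul_sum, ← Finset.sum_add_distrib]
    refine Finset.sum_congr rfl fun l _ => ?_
    rw [(δ l).leibniz, map_add, map_mul, map_mul]
    show _ * (ψ a * _ + ψ b * _) = _
    ring
  haveI : Algebra.FormallySmooth k Γ(X, W₁) := by
    have h : (f.appLE ⊤ W₁ le_top).hom.Smooth :=
      HasRingHomProperty.appLE @Smooth f inferInstance ⟨⊤, isAffineOpen_top _⟩ ⟨W₁, hW₁⟩ le_top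
    have h2 : ((Scheme.ΓSpecIso (CommRingCat.of k)).inv ≫ f.appLE ⊤ W₁ le_top).hom.Smooth := by
      rw [CommRingCat.hom_comp]
      exact RingHom.Smooth.stableUnderComposition _ _ (RingHom.Smooth.respectsIso.2 (RingHom.id _)
        (Scheme.ΓSpecIso (CommRingCat.of k)).commRingCatIsoToRingEquiv.symm (RingHom.Smooth.id _)) h
    exact (show Algebra.Smooth k Γ(X, W₁) from h2).formallySmooth
  obtain ⟨θ, hθ0, hθ1⟩ := exists_jet r ψ dl hdl
  let a : Γ(C, V) := ∑ α : Fin m × Fin i → κ, (∏ t, cV (w t) (b (α t))) *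
    jcoef r Γ(C, V) ⟨r, by omega⟩ (θ (X.presheaf.map (homOfLE (h1U α)).op (G α)))
  refine ⟨V, hV₀, a, fun e he he' hVe => ?_, fun ⟨t, ht⟩ => ?_⟩
  swap
  · -- vanishing
    have hz : ∀ α, evalAt e₀ hV₀ (cV (w t) (b α)) = 0 := by
      intro α
      have := DFunLike.congr_fun (ext_forms hW₀ ((evalAt e₀ hV₀).comp (g.appLE W₀ V hVle₀).hom)
        ((evalAt e₀ hV₀).toAddMonoidHom.comp (cV (w t))) 0
        (fun a x => by
          show evalAt e₀ hV₀ (cV (w t) (a • x)) = _
          rw [hcVsmul, map_mul]; rfl)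
        (fun a x => by simp) fun x => by
          show evalAt e₀ hV₀ (cV (w t) _) = 0
          rw [hcVd, evalAt_res]
          exact ht W₀ hp₀ x) (b α)
      exact this
    rw [map_sum]
    refine Finset.sum_eq_zero fun α _ => ?_
    rw [map_mul, map_prod, Finset.prod_eq_zero (Finset.mem_univ t) (hz (α t)), zero_mul]
  -- the data at a point
  letI := stalkAlgebra f ((e ≫ g) (closedPoint k))
  have hp : (e ≫ g) (closedPoint k) ∈ W₁ := hVle hVe
  obtain ⟨D, hD⟩ := exists_dual_ders hW₀ b (h10 hp)
  let c : Fin m × Fin i → κ → k := fun t l => evalAt e hVe (cV (w t) (b l))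
  let U : Fin m × Fin i → Derivation k (X.presheaf.stalk ((e ≫ g) (closedPoint k)))
      (X.presheaf.stalk ((e ≫ g) (closedPoint k))) := fun t =>
    ∑ l, algebraMap k (X.presheaf.stalk ((e ≫ g) (closedPoint k))) (c t l) • D l
  have hev : ∀ {W : X.Opens} (hWV : V ≤ g ⁻¹ᵁ W) (hW : (e ≫ g) (closedPoint k) ∈ W) (x : Γ(X, W)),
      evalAt e hVe (g.appLE W V hWV x) = evA e he (X.presheaf.germ W _ hW x) := by
    intro W hWV hW x
    show _ = evalAt (e ≫ g) hW x
    rw [evalAt_app g e hW (hWV hVe), Scheme.Hom.appLE]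
    exact evalAt_res e hWV hVe _
  let evV : Γ(C, V) →ₐ[k] k :=
    { evalAt e hVe with commutes' := fun c => evalAt_algebraMap he' hVe c }
  let θe : Γ(X, W₁) →ₐ[k] Jet r k := (jmap r evV).comp θ
  have hθe : ∀ (j : Fin (r + 2)) x, jcoef r k j (θe x) = evalAt e hVe (jcoef r Γ(C, V) j (θ x)) := fun j x =>
    jcoef_jmap r evV j (θ x)
  letI : Algebra Γ(X, W₁) (X.presheaf.stalk ((e ≫ g) (closedPoint k))) :=
    X.presheaf.algebra_section_stalk ⟨_, hp⟩
  haveI := hW₁.isLocalization_stalk ⟨_, hp⟩
  haveI : IsScalarTower k Γ(X, W₁) (X.presheaf.stalk ((e ≫ g) (closedPoint k))) :=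
    IsScalarTower.of_algebraMap_eq fun c =>
      (TopCat.Presheaf.germ_res_apply X.presheaf (homOfLE (le_top : W₁ ≤ ⊤)) _ hp
        (f.appTop ((Scheme.ΓSpecIso (CommRingCat.of k)).inv c))).symm
  have hθe0 : ∀ x, jev θe x = evA e he (X.presheaf.germ W₁ _ hp x) := by
    intro x
    rw [jev, hθe, show jcoef r Γ(C, V) ⟨0, by omega⟩ (θ x) = ψ x from hθ0 x]
    exact hev hVle hp x
  have hunit : ∀ y : (hW₁.primeIdealOf ⟨_, hp⟩).asIdeal.primeCompl, IsUnit (θe y) := by
    intro y
    refine isUnit_jet _ ?_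
    rw [show jcoef r k ⟨0, by omega⟩ (θe y) = evA e he (X.presheaf.germ W₁ _ hp (y : Γ(X, W₁))) from hθe0 _]
    exact (IsLocalization.map_units (X.presheaf.stalk ((e ≫ g) (closedPoint k))) y).map (evA e he)
  let θp : X.presheaf.stalk ((e ≫ g) (closedPoint k)) →ₐ[k] Jet r k := IsLocalization.liftAlgHom (f := θe) hunit
  have hθp : ∀ x, θp (X.presheaf.germ W₁ _ hp x) = θe x := fun x => IsLocalization.lift_eq hunit x
  refine ⟨U, θp, fun t W hW x => ?_, jev_eq_of_germ hW₁ hp θp (evA e he) fun y => ?_, fun W hW x => ?_, ?_⟩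
  · -- values of the derivations
    exact lift_spec e he hW₀ b (h10 hp) (δ (w t)) D hD ((evalAt e hVe).toAddMonoidHom.comp (cV (w t)))
      (fun a z => by
        show evalAt e hVe (cV (w t) (a • z)) = _
        rw [hcVsmul, map_mul, hev hVle₀ (h10 hp)]; rfl)
      (fun y => by
        show evalAt e hVe (cV (w t) _) = _
        rw [hcVd, evalAt_res]) W hW x
  · rw [jev, hθp]
    exact hθe0 y
  · -- tangent vector
    have h1 : ∀ y, jtan θp (X.presheaf.germ W₁ _ hp y) = ∑ l, lam₀ l * pv e hp (δ l) y := by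
      intro y
      rw [jtan, hθp, hθe, show jcoef r Γ(C, V) ⟨1, by omega⟩ (θ y) = dl y from hθ1 y]
      show evalAt e hVe (∑ l, _) = _
      rw [map_sum]
      refine Finset.sum_congr rfl fun l _ => ?_
      rw [map_mul, evalAt_res]
      exact congrArg (· * _) (evV.commutes (lam₀ l))
    choose Tl hTl hTlg using fun l => exists_tan f e he (δ l)
    have hJ := jev_eq_of_germ hW₁ hp θp (evA e he) fun y => by rw [jev, hθp]; exact hθe0 y
    have heq := leibniz_ext hW₁ hp (evA e he).toRingHom
      ((jcoef r k ⟨1, by omega⟩).toAddMonoidHom.comp θp.toRingHom.toAddMonoidHom)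
      (∑ l, (AddMonoidHom.mulLeft (lam₀ l)).comp (Tl l))
      (fun a b => (jtan_mul θp a b).trans (by rw [hJ, hJ]; rfl))
      (fun a b => by
        simp only [AddMonoidHom.finsetSum_apply, AddMonoidHom.comp_apply, AddMonoidHom.coe_mulLeft, hTl]
        rw [Finset.mul_sum, Finset.mul_sum, ← Finset.sum_add_distrib]
        refine Finset.sum_congr rfl fun l _ => ?_
        show _ = evA e he a * _ + evA e he b * _
        ring)
      (fun y => (h1 y).trans (by
        simp only [AddMonoidHom.finsetSum_apply, AddMonoidHom.comp_apply, AddMonoidHom.coe_mulLeft, hTlg]))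
    refine (DFunLike.congr_fun heq (X.presheaf.germ W _ hW x)).trans ?_
    simp only [AddMonoidHom.finsetSum_apply, AddMonoidHom.comp_apply, AddMonoidHom.coe_mulLeft, hTlg]
  · -- the value
    rw [show U = fun t => ∑ l, algebraMap k (X.presheaf.stalk ((e ≫ g) (closedPoint k))) (c t l) • D l from rfl,
      Lam_sum, map_sum, map_sum, map_sum]
    refine Finset.sum_congr rfl fun α _ => ?_
    rw [← map_prod (algebraMap k (X.presheaf.stalk ((e ≫ g) (closedPoint k)))), ← Algebra.smul_def, map_smul θp,
      ← IsScalarTower.algebraMap_smul k (∏ t, c t (α t)), map_smul, ← hG α _ (h1U α hp) (h10 hp) D hD,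
      ← TopCat.Presheaf.germ_res_apply X.presheaf (homOfLE (h1U α)) _ hp (G α), hθp, hθe, map_mul, map_prod]
    rfl

include hL hg in
/-- The main statement. -/
theorem eq_zero_of_fields [IsAlgClosed k] [IsIntegral X] [IsIntegral C] [LocallyOfFiniteType fC] [Finite ι]
    (T : C.Opens) (hT : (T : Set C).Nonempty)
    (hspan : ∀ (e : Spec (CommRingCat.of k) ⟶ C) (he : IsPt f (e ≫ g)), IsPt fC e → e (closedPoint k) ∈ T →
      letI := stalkAlgebra f ((e ≫ g) (closedPoint k))
      ∀ v : X.presheaf.stalk ((e ≫ g) (closedPoint k)) →+ k,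
        (∀ a b, v (a * b) = evA e he a * v b + evA e he b * v a) →
        (∀ c, v (algebraMap k _ c) = 0) →
        ∃ lam₀ : ι → k, ∀ [Fintype ι] (W : X.Opens) (hW : (e ≫ g) (closedPoint k) ∈ W) (a : Γ(X, W)),
          v (X.presheaf.germ W _ hW a) = ∑ l, lam₀ l * pv e hW (δ l) a)
    (hconst : ∀ a : Γ(C, ⊤), ∃ c : k, a = fC.appTop ((Scheme.ΓSpecIso (CommRingCat.of k)).inv c))
    (einf : Spec (CommRingCat.of k) ⟶ C) (hinf : IsPt fC einf)
    (hword : ∀ w : Fin m × Fin i → ι, (∀ a, Function.Injective fun b => w (a, b)) →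
      ∃ t, ∀ (W : X.Opens) (hW : (einf ≫ g) (closedPoint k) ∈ W) (x : Γ(X, W)), pv einf hW (δ (w t)) x = 0) :
    s = 0 := by
  classical
  haveI := Fintype.ofFinite ι
  haveI : Infinite k := inferInstance
  haveI : IsLocallyNoetherian X := LocallyOfFiniteType.isLocallyNoetherian f
  have hord : ∀ r, OrderGE (fC := fC) hL s (g := g) T r := by
    intro r
    induction r with
    | zero =>
      intro e he _ _
      letI := stalkAlgebra f ((e ≫ g) (closedPoint k))
      intro D
      rw [pow_zero, Ideal.one_eq_top]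
      trivial
    | succ r ih =>
      intro e he he' heT
      letI := stalkAlgebra f ((e ≫ g) (closedPoint k))
      obtain ⟨W, hW, hpW, κ, hκ, ⟨b⟩⟩ := exists_forms_basis (f := f) ((e ≫ g) (closedPoint k))
      haveI := Fintype.ofFinite κ
      obtain ⟨D, hD⟩ := exists_dual_ders hW b hpW
      -- combinations of the fields lifting the frame
      have hmu : ∀ l : κ, ∃ mu : ι → k, ∀ (W' : X.Opens) (hW' : (e ≫ g) (closedPoint k) ∈ W') (a : Γ(X, W')),
          evA e he (D l (X.presheaf.germ W' _ hW' a)) = ∑ j, mu j * pv e hW' (δ j) a := by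
        intro l
        obtain ⟨mu, hmu⟩ := hspan e he he' heT ((evA e he).toRingHom.toAddMonoidHom.comp (D l).toLinearMap.toAddMonoidHom)
          (fun a b => by
            show evA e he (D l (a * b)) = _
            rw [Derivation.leibniz, smul_eq_mul, smul_eq_mul, map_add, map_mul, map_mul]; rfl)
          (fun c => by show evA e he (D l (algebraMap k _ c)) = 0; rw [Derivation.map_algebraMap, map_zero])
        exact ⟨mu, fun W' hW' a => hmu W' hW' a⟩
      choose mu hmu using hmu
      -- lifts of the fields at the point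
      have hU : ∀ j, ∃ U : Derivation k (X.presheaf.stalk ((e ≫ g) (closedPoint k)))
          (X.presheaf.stalk ((e ≫ g) (closedPoint k))),
          ∀ (W' : X.Opens) (hW' : (e ≫ g) (closedPoint k) ∈ W') (a : Γ(X, W')),
            evA e he (U (X.presheaf.germ W' _ hW' a)) = pv e hW' (δ j) a := by
        intro j
        obtain ⟨con, hsmul, hd⟩ := exists_contract hW ((evA e he).toRingHom.comp (X.presheaf.germ W _ hpW).hom)
          ((evalAt e (show e (closedPoint k) ∈ g ⁻¹ᵁ W from hpW)).toAddMonoidHom.comp ((δ j).d W))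
          (fun a b => by
            show evalAt e _ ((δ j).d W (a * b)) = _
            rw [(δ j).leibniz, map_add, map_mul, map_mul, ← evalAt_app g e hpW, ← evalAt_app g e hpW]
            rfl)
          (fun c => by
            show evalAt e _ ((δ j).d W _) = 0
            rw [(δ j).const, map_zero])
        exact ⟨_, lift_spec e he hW b hpW (δ j) D hD con hsmul hd⟩
      choose U hU using hU
      have hUw : ∀ w : Fin m × Fin i → ι,
          Lam hL (isOver_id _) m (fun t => U (w t)) ((CohB1.tensorPow L m).presheaf.germ ⊤ _ trivial s) ∈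
            RingHom.ker (evA e he) ^ (r + 1) := by
        intro w
        by_cases hw : ∀ a, Function.Injective fun b => w (a, b)
        swap
        · simp only [not_forall, Function.Injective] at hw
          obtain ⟨a, b, b', hbb, hne⟩ := hw
          rw [Lam_eq_zero_of_eq hL (isOver_id _) m (fun t => U (w t)) a hne (by rw [hbb])]
          exact zero_mem _
        obtain ⟨tinf, htinf⟩ := hword w hw
        haveI : IsNoetherianRing (X.presheaf.stalk ((e ≫ g) (closedPoint k))) := inferInstance
        haveI : Algebra.FormallySmooth k (X.presheaf.stalk ((e ≫ g) (closedPoint k))) := by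
          letI : Algebra k Γ(X, W) := ((Scheme.ΓSpecIso (CommRingCat.of k)).inv ≫ f.appLE ⊤ W le_top).hom.toAlgebra
          letI : Algebra Γ(X, W) (X.presheaf.stalk ((e ≫ g) (closedPoint k))) := X.presheaf.algebra_section_stalk ⟨_, hpW⟩
          haveI := hW.isLocalization_stalk ⟨_, hpW⟩
          haveI : IsScalarTower k Γ(X, W) (X.presheaf.stalk ((e ≫ g) (closedPoint k))) :=
            IsScalarTower.of_algebraMap_eq fun c =>
              (TopCat.Presheaf.germ_res_apply X.presheaf (homOfLE (le_top : W ≤ ⊤)) _ hpW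
                (f.appTop ((Scheme.ΓSpecIso (CommRingCat.of k)).inv c))).symm
          haveI : Algebra.FormallySmooth k Γ(X, W) := by
            have h : (f.appLE ⊤ W le_top).hom.Smooth :=
              HasRingHomProperty.appLE @Smooth f inferInstance ⟨⊤, isAffineOpen_top _⟩ ⟨W, hW⟩ le_top
            have h2 : ((Scheme.ΓSpecIso (CommRingCat.of k)).inv ≫ f.appLE ⊤ W le_top).hom.Smooth := by
              rw [CommRingCat.hom_comp]
              exact RingHom.Smooth.stableUnderComposition _ _ (RingHom.Smooth.respectsIso.2 (RingHom.id _)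
                (Scheme.ΓSpecIso (CommRingCat.of k)).commRingCatIsoToRingEquiv.symm (RingHom.Smooth.id _)) h
            exact (show Algebra.Smooth k Γ(X, W) from h2).formallySmooth
          haveI : Algebra.FormallySmooth Γ(X, W) (X.presheaf.stalk ((e ≫ g) (closedPoint k))) :=
            Algebra.FormallySmooth.of_isLocalization (hW.primeIdealOf ⟨_, hpW⟩).asIdeal.primeCompl
          exact Algebra.FormallySmooth.comp k Γ(X, W) _
        refine mem_pow_succ_of_jcoef (N := r) (evA e he) (r := r) (by omega) (ih e he he' heT _) fun θ hθ => ?_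
        obtain ⟨lam₀, hlam⟩ := hspan e he he' heT
          ((jcoef r k ⟨1, by omega⟩).toAddMonoidHom.comp θ.toRingHom.toAddMonoidHom)
          (fun a b => (jtan_mul θ a b).trans (by rw [hθ, hθ]; rfl)) (fun c => jtan_algebraMap θ c)
        have hlead : IsLead hL s δ r lam₀ w e he (jcoef r k ⟨r, by omega⟩
            (θ (Lam hL (isOver_id _) m (fun t => U (w t)) ((CohB1.tensorPow L m).presheaf.germ ⊤ _ trivial s)))) :=
          ⟨fun t => U (w t), θ, fun t W' hW' a => hU (w t) W' hW' a, hθ, fun W' hW' a => hlam W' hW' a, rfl⟩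
        -- the leading coefficient is a global function
        have hloc : ∀ x : C, ∃ (V : C.Opens) (a : Γ(C, V)), x ∈ V ∧
            ∀ (e' : Spec (CommRingCat.of k) ⟶ C) (h : IsPt f (e' ≫ g)) (_ : IsPt fC e') (hV : e' (closedPoint k) ∈ V),
              IsLead hL s δ r lam₀ w e' h (evalAt e' hV a) := by
          intro x
          haveI : JacobsonSpace C := LocallyOfFiniteType.jacobsonSpace fC
          obtain ⟨y, hy, hyc⟩ := nonempty_inter_closedPoints (Z := closure ({x} : Set C))
            ⟨x, subset_closure rfl⟩ isClosed_closure.isLocallyClosed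
          obtain ⟨V, hV₀, a, ha, -⟩ := exists_lead_local hL hg s δ r lam₀ w (pointOfClosedPoint fC y hyc) (by
            show _ ≫ fC = Spec.map (CommRingCat.ofHom (algebraMap k k))
            rw [pointOfClosedPoint_comp]; exact (Spec.map_id _).symm)
          refine ⟨V, a, ?_, ha⟩
          rw [pointOfClosedPoint_apply] at hV₀
          exact (specializes_iff_mem_closure.2 hy).mem_open V.2 hV₀
        choose V a hxV ha using hloc
        have hcompat : TopCat.Presheaf.IsCompatible C.presheaf V a := by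
          intro x y
          refine eq_of_evalAt fC hT _ _ fun e' he'' heT' hVe => ?_
          rw [show Opens.infLELeft (V x) (V y) = homOfLE inf_le_left from rfl,
            show Opens.infLERight (V x) (V y) = homOfLE inf_le_right from rfl, evalAt_res, evalAt_res]
          exact IsLead.unique hL s δ ih he'' heT' (ha x e' (isPt_comp g hg he'') he'' hVe.1)
            (ha y e' (isPt_comp g hg he'') he'' hVe.2)
        obtain ⟨A, hA, -⟩ := (C.sheaf).existsUnique_gluing' V ⊤ (fun x => homOfLE le_top)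
          (fun x _ => Opens.mem_iSup.2 ⟨x, hxV x⟩) a hcompat
        obtain ⟨c, rfl⟩ := hconst A
        have hval : ∀ (e' : Spec (CommRingCat.of k) ⟶ C), IsPt fC e' → ∀ (x : C) (hV : e' (closedPoint k) ∈ V x),
            evalAt e' hV (a x) = c := by
          intro e' he'' x hV
          rw [← hA x]
          refine (evalAt_res e' le_top hV _).trans ?_
          refine Eq.trans ?_ (evalAt_algebraMap he'' (V := ⊤) trivial c)
          congr 1
          rw [Scheme.Hom.appLE, show homOfLE _ = 𝟙 _ from Subsingleton.elim _ _]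
          simp
        obtain ⟨V', hV', a', ha', hzero⟩ := exists_lead_local hL hg s δ r lam₀ w einf hinf
        have hc0 : c = 0 := by
          have hne : ((T ⊓ (V' ⊓ V (einf (closedPoint k))) : C.Opens) : Set C).Nonempty :=
            nonempty_preirreducible_inter T.2 (V' ⊓ V (einf (closedPoint k))).2 hT ⟨_, hV', hxV _⟩
          have haa : C.presheaf.map (homOfLE (inf_le_left : V' ⊓ V (einf (closedPoint k)) ≤ V')).op a' =
              C.presheaf.map (homOfLE (inf_le_right : V' ⊓ V (einf (closedPoint k)) ≤ V (einf (closedPoint k)))).op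
                (a (einf (closedPoint k))) := by
            refine eq_of_evalAt fC hT _ _ fun e' he'' heT' hVe => ?_
            rw [evalAt_res, evalAt_res]
            exact IsLead.unique hL s δ ih he'' heT' (ha' e' (isPt_comp g hg he'') he'' hVe.1)
              (ha _ e' (isPt_comp g hg he'') he'' hVe.2)
          have h1 := congrArg (evalAt einf (show einf (closedPoint k) ∈ V' ⊓ V (einf (closedPoint k)) from ⟨hV', hxV _⟩)) haa
          rw [evalAt_res, evalAt_res, hzero ⟨tinf, htinf⟩, hval einf hinf _ (hxV _)] at h1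
          exact h1.symm
        rw [← hc0, ← hval e he' _ (hxV _)]
        exact IsLead.unique hL s δ ih he' heT hlead (ha _ e he he' (hxV _))
      -- all tuples
      intro E
      set U' : Fin m × Fin i → Derivation k (X.presheaf.stalk ((e ≫ g) (closedPoint k)))
        (X.presheaf.stalk ((e ≫ g) (closedPoint k))) := fun t => ∑ j,
        (∑ l, lam (isOver_id _) (E t) hW hpW (b l) * algebraMap k _ (mu l j)) • U j with hU'def
      have hmem : Lam hL (isOver_id _) m U' ((CohB1.tensorPow L m).presheaf.germ ⊤ _ trivial s) ∈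
          RingHom.ker (evA e he) ^ (r + 1) := by
        rw [hU'def, Lam_sum]
        exact Ideal.sum_mem _ fun α _ => Ideal.mul_mem_left _ _ (hUw α)
      have hdiff := Lam_sub_mem hL s e he r (ih e he he' heT) E U' fun t W' hW' a => by
        conv_lhs => rw [der_expand hW b hpW D hD (E t)]
        simp only [hU'def, ← Derivation.coeFnAddMonoidHom_apply, map_sum, Finset.sum_apply]
        show ∑ l, evA e he (lam (isOver_id _) (E t) hW hpW (b l) * D l (X.presheaf.germ W' _ hW' a)) =
          ∑ j, evA e he ((∑ l, lam (isOver_id _) (E t) hW hpW (b l) * algebraMap k _ (mu l j)) *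
            U j (X.presheaf.germ W' _ hW' a))
        simp only [map_mul, map_sum, hmu, hU, AlgHom.commutes, Algebra.algebraMap_self_apply, Finset.mul_sum,
          Finset.sum_mul]
        rw [Finset.sum_comm]
        exact Finset.sum_congr rfl fun _ _ => Finset.sum_congr rfl fun _ _ => by ring
      have := Ideal.add_mem _ hdiff hmem
      rwa [sub_add_cancel] at this
  -- conclusion
  obtain ⟨e, he', heT⟩ := exists_pt_mem fC hT
  have he : IsPt f (e ≫ g) := isPt_comp g hg he'
  letI := stalkAlgebra f ((e ≫ g) (closedPoint k))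
  have hgerm : (CohB1.tensorPow L m).presheaf.germ ⊤ ((e ≫ g) (closedPoint k)) trivial s = 0 := by
    refine eq_zero_of_Lam hL _ m _ fun D => ?_
    have hne : RingHom.ker (evA e he) ≠ ⊤ := RingHom.ker_ne_top _
    haveI : IsNoetherianRing (X.presheaf.stalk ((e ≫ g) (closedPoint k))) := inferInstance
    have h : Lam hL (isOver_id _) m D ((CohB1.tensorPow L m).presheaf.germ ⊤ _ trivial s) ∈
        ⨅ r : ℕ, RingHom.ker (evA e he) ^ r := (Submodule.mem_iInf _).2 fun r => hord r e he he' heT D
    rw [Ideal.iInf_pow_eq_bot_of_isLocalRing _ hne] at h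
    exact h
  refine TopCat.Presheaf.section_ext ⟨(CohB1.tensorPow L m).presheaf, (CohB1.tensorPow L m).isSheaf⟩ ⊤ s 0
    fun p hp => ?_
  refine Eq.trans ?_ (map_zero _).symm
  letI := stalkAlgebra f p
  refine eq_zero_of_Lam hL p m _ fun D => ?_
  letI : Algebra k X.functionField := stalkAlgebra f (genericPoint X)
  have hspec : genericPoint X ⤳ p := (genericPoint_spec X).specializes trivial
  haveI : IsScalarTower k (X.presheaf.stalk p) X.functionField := IsScalarTower.of_algebraMap_eq fun c =>
    (stalkSpecializes_algebraMap (f := f) hspec c).symm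
  have hext : ∀ t, ∃ D' : Derivation k X.functionField X.functionField, ∀ a,
      D' (algebraMap (X.presheaf.stalk p) X.functionField a) = algebraMap (X.presheaf.stalk p) X.functionField (D t a) :=
    fun t => exists_extend (nonZeroDivisors (X.presheaf.stalk p))
      ((Algebra.linearMap (X.presheaf.stalk p) X.functionField).compDer (D t))
  choose D' hD' using hext
  have h1 := Lam_comp hL (isOver_id p) (algebraMap (X.presheaf.stalk p) X.functionField) hspec
    (isOver_id (genericPoint X)) rfl m D D' hD' ((CohB1.tensorPow L m).presheaf.germ ⊤ p trivial s)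
  have hηe : genericPoint X ⤳ (e ≫ g) (closedPoint k) := (genericPoint_spec X).specializes trivial
  have hη0 : (CohB1.tensorPow L m).presheaf.germ ⊤ (genericPoint X) trivial s = 0 := by
    rw [← TopCat.Presheaf.germ_stalkSpecializes_apply (CohB1.tensorPow L m).presheaf (U := ⊤) trivial hηe s, hgerm,
      map_zero]
  rw [TopCat.Presheaf.germ_stalkSpecializes_apply, hη0, map_zero] at h1
  exact (map_eq_zero_iff _ (IsFractionRing.injective (X.presheaf.stalk p) X.functionField)).1 h1.symm

end Groth.Agent.AlmostR6
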