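import Groth.Agent.Lib.AlmostR6.RatCurve
import Groth.Agent.Lib.Twist.Ample
import Groth.Agent.Lib.Twist.Tensor
import Groth.Agent.Lib.Twist.ProjSpace
import Groth.Agent.Lib.TensorMod.Basic
import Groth.Agent.Lib.CurveCoh17.Skyscraper
import Groth.Agent.Lib.Omega12.SmoothRank
import Groth.Agent.Lib.Omega12.Universal
import Groth.Agent.Lib.FiniteMor15.FibreDim
import Groth.Agent.Lib.TopDimLib.Basic
import Groth.Agent.Lib.RankFree12.Scheme

/-!
# Rank of the differentials; degrees of a splitting from vanishing of global sections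
-/

set_option autoImplicit false
set_option backward.isDefEq.respectTransparency false
set_option backward.isDefEq.respectTransparency.types false
set_option linter.style.haveILetI false

universe u

open CategoryTheory CategoryTheory.Limits AlgebraicGeometry Opposite TopologicalSpace

noncomputable section

namespace Groth.Agent.AlmostR6

variable {k : Type u} [Field k]

/-- The differentials of a smooth variety have rank the dimension. -/
theorem exists_rank {X : Scheme.{u}} (f : X ⟶ Spec (CommRingCat.of k)) [QuasiSeparated f] [IsIntegral X] [Smooth f] :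
    ∃ r : ℕ, FlatMod.IsFinLocFreeOfRank r (Omega.sheaf f) ∧ topologicalKrullDim X = (r : WithBot ℕ∞) := by
  have hQ : Coh.IsQCoh (Omega.sheaf f) := M2.isQCoh_of_isFinLocFree
    (Omega12.isFinLocFree_receptacle_of_smooth f (Omega12.isUniversal_dOmega f))
  haveI : Subsingleton (Spec (CommRingCat.of k)) := inferInstanceAs (Subsingleton (PrimeSpectrum k))
  have key : ∀ x : X, (∃ U : X.Opens, x ∈ U ∧ Nonempty ((Omega.sheaf f).restrict U.ι ≅
      FlatMod.freeMod (↑U) (RankFree12.rk (Omega.sheaf f) (genericPoint X)))) ∧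
      FlatMor.localDim X x = (RankFree12.rk (Omega.sheaf f) (genericPoint X) : WithBot ℕ∞) := by
    intro x
    obtain ⟨U, n, hxU, ⟨e⟩, hd⟩ := Omega12.exists_free_nbhd_smooth f (Omega12.isUniversal_dOmega f) x
    rw [RankFree12.rk_of_freeMod hQ e (((genericPoint_spec X).mem_open_set_iff U.2).2 ⟨x, trivial, hxU⟩)]
    exact ⟨⟨U, hxU, ⟨e⟩⟩, (FiniteMor15.fibreDimAt_of_subsingleton f x).symm.trans hd⟩
  refine ⟨_, fun x => (key x).1, ?_⟩
  rw [TopDimLib.dim_eq_iSup_localDim]
  refine le_antisymm (iSup_le fun x => (key x).2.le) ?_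
  exact (key (genericPoint X)).2.ge.trans (le_iSup (fun x => FlatMor.localDim X x) (genericPoint X))

variable (k) in
theorem hcov_P1 : (⨆ g : P1Split.gr k 1, Proj.basicOpen (P1Split.gr k) (g : MvPolynomial (Fin 2) k)) = ⊤ := by
  refine top_le_iff.1 ?_
  rw [← P1Split.iSup_U k]
  exact iSup_le fun i => le_iSup_of_le (⟨MvPolynomial.X i, ProjSpace.X_mem' 1 k i⟩ : P1Split.gr k 1) le_rfl

variable (k) in
theorem exists_section_ne_zero {d : ℤ} (hd : 0 ≤ d) :
    ∃ t : Γ(_root_.Twist.twist (P1Split.gr k) d, ⊤), t ≠ 0 := by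
  obtain ⟨n, rfl⟩ := Int.eq_ofNat_of_zero_le hd
  let fn : P1Split.gr k n := ⟨MvPolynomial.X 1 ^ n, by simpa using SetLike.pow_mem_graded n (ProjSpace.X_mem' 1 k 1)⟩
  refine ⟨Twist.gsec (P1Split.gr k) fn, fun h => ?_⟩
  have hle : P1Split.U k 1 ≤ Proj.basicOpen (P1Split.gr k) (fn : MvPolynomial (Fin 2) k) := fun x hx hmem =>
    hx (x.isPrime.mem_of_pow_mem n hmem)
  haveI := P1Split.nonempty_U k 1
  haveI : Nontrivial Γ(P1Split.P1 k, P1Split.U k 1) := Scheme.component_nontrivial _ _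
  refine zero_ne_one (α := Γ(P1Split.P1 k, P1Split.U k 1))
    ((Twist.bijective_smul_gsec (P1Split.gr k) fn (P1Split.U k 1) hle).injective ?_)
  show (0 : Γ(P1Split.P1 k, P1Split.U k 1)) • _ = (1 : Γ(P1Split.P1 k, P1Split.U k 1)) • _
  rw [h, map_zero, smul_zero, smul_zero]

theorem app_ne_zero_of_split {C : Scheme.{u}} {M N : C.Modules} (i : M ⟶ N) (p : N ⟶ M) (h : i ≫ p = 𝟙 M)
    {t : Γ(M, ⊤)} (ht : t ≠ 0) : i.app ⊤ t ≠ 0 := fun h0 => ht <| by
  have : (i ≫ p).app ⊤ t = t := by rw [h]; rfl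
  rw [← this]
  show p.app ⊤ (i.app ⊤ t) = 0
  rw [h0, map_zero]

variable {r : ℕ} {d : Fin r → ℤ} {E : (P1Split.P1 k).Modules}

/-- No global sections forces negative degrees. -/
theorem neg_of_subsingleton (Φ : E ≅ P1Split.splitMod k d)
    (h : Subsingleton (Coh.HH (P1Split.P1 k) E 0)) (a : Fin r) : d a < 0 := by
  by_contra hle
  obtain ⟨t, ht⟩ := exists_section_ne_zero k (not_lt.1 hle)
  haveI : Subsingleton Γ(E, ⊤) := (CurveCoh17.hh0 E).symm.injective.subsingleton
  refine app_ne_zero_of_split (Sigma.ι (fun a => _root_.Twist.twist (P1Split.gr k) (d a)) a ≫ Φ.inv)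
    (Φ.hom ≫ P1Split.proj _ a) ?_ ht (Subsingleton.elim _ _)
  rw [Category.assoc, Iso.inv_hom_id_assoc, P1Split.ι_proj_self]

/-- No global sections after twisting by `O(-1)` forces nonpositive degrees. -/
theorem nonpos_of_subsingleton (Φ : E ≅ P1Split.splitMod k d)
    (h : Subsingleton (Coh.HH (P1Split.P1 k) (CohB1.tensorMod E (_root_.Twist.twist (P1Split.gr k) (-1))) 0))
    (a : Fin r) : d a ≤ 0 := by
  by_contra hle
  obtain ⟨e⟩ := Twist.nonempty_tensor_iso (P1Split.gr k) (d a) (-1) (hcov_P1 k)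
  obtain ⟨t, ht⟩ := exists_section_ne_zero k (show 0 ≤ d a + -1 by omega)
  have ht' : e.inv.app ⊤ t ≠ 0 := app_ne_zero_of_split e.inv e.hom e.inv_hom_id ht
  haveI : Subsingleton Γ(CohB1.tensorMod E (_root_.Twist.twist (P1Split.gr k) (-1)), ⊤) :=
    (CurveCoh17.hh0 _).symm.injective.subsingleton
  refine app_ne_zero_of_split (M2.tensorMap (Sigma.ι (fun a => _root_.Twist.twist (P1Split.gr k) (d a)) a ≫ Φ.inv) (𝟙 _))
    (M2.tensorMap (Φ.hom ≫ P1Split.proj _ a) (𝟙 _)) ?_ ht' (Subsingleton.elim _ _)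
  rw [← M2.tensorMap_comp, Category.assoc, Iso.inv_hom_id_assoc, P1Split.ι_proj_self, Category.comp_id, M2.tensorMap_id]

end Groth.Agent.AlmostR6
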