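import Groth.Agent.Lib.Omega12.Universal
import Groth.Agent.Lib.TensorMod.Basic
import Groth.Agent.Lib.ModM1.Stalk
import Groth.Agent.Lib.RefHull26.Dual
import Groth.Prelude.Def_CohB1
import Groth.Prelude.Def_ExtPow2

/-!
# Evaluating tensor powers of forms on derivations

For a point `p` of a `k`-scheme, a ring map `ψ : O_p → O` over `k` and derivations `D` of `O`, `Lam` is the
semilinear functional on the stalk of `(Ω^i)^{⊗ m}` sending `⊗_a (dg_{a1} ∧ … ∧ dg_{ai})` to
`∏_a det (D_{ab} (ψ g_{ac}))`.
-/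

set_option autoImplicit false
set_option backward.isDefEq.respectTransparency false
set_option backward.isDefEq.respectTransparency.types false
set_option linter.style.haveILetI false

universe u

open CategoryTheory AlgebraicGeometry Opposite TopologicalSpace
open scoped TensorProduct

noncomputable section

namespace Groth.Agent.AlmostR6

variable {k : Type u} [Field k] {X : Scheme.{u}} (f : X ⟶ Spec (CommRingCat.of k))

/-- Scalars are respected. -/
def IsOver {p : X} {O : Type u} [CommRing O] [Algebra k O] (ψ : X.presheaf.stalk p →+* O) : Prop :=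
  ∀ c : Γ(Spec (CommRingCat.of k), ⊤), ψ (X.presheaf.germ ⊤ p trivial (f.appTop c)) ∈ Set.range (algebraMap k O)

variable {f} {p : X} {O : Type u} [CommRing O] [Algebra k O]

/-- The map on functions near the point. -/
abbrev onOpen (ψ : X.presheaf.stalk p →+* O) {U : X.Opens} (hp : p ∈ U) : Γ(X, U) →+* O :=
  ψ.comp (X.presheaf.germ U p hp).hom

theorem onOpen_res (ψ : X.presheaf.stalk p →+* O) {U V : X.Opens} (h : V ≤ U) (hp : p ∈ V) (r : Γ(X, U)) :
    onOpen ψ hp (X.presheaf.map (homOfLE h).op r) = onOpen ψ (h hp) r :=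
  congrArg ψ (TopCat.Presheaf.germ_res_apply X.presheaf (homOfLE h) p hp r)

section Kaehler

variable [QuasiSeparated f]

theorem exists_lam {ψ : X.presheaf.stalk p →+* O} (hψ : IsOver f ψ) (D : Derivation k O O) {U : X.Opens}
    (hU : IsAffineOpen U) (hp : p ∈ U) :
    ∃ l : Γ(Omega.sheaf f, U) →+ O, (∀ r x, l (r • x) = onOpen ψ hp r * l x) ∧
      ∀ b, l (OmegaSh.dSect f U b) = D (onOpen ψ hp b) := by
  have h : U ≤ f ⁻¹ᵁ (⊤ : (Spec (CommRingCat.of k)).Opens) := le_top
  let T := OmAff.toSect f ⊤ U h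
  haveI : IsIso T := (ConcreteCategory.isIso_iff_bijective T).2
    (Omega12.bijective_toSect f hU (isAffineOpen_top _) h)
  letI : Module Γ(X, U) O := Module.compHom O (onOpen ψ hp)
  let d : (ModuleCat.of Γ(X, U) O).Derivation (f.appLE ⊤ U h) :=
    ModuleCat.Derivation.mk (fun b => D (onOpen ψ hp b))
      (fun a b => by rw [map_add, map_add])
      (fun a b => by
        show D (onOpen ψ hp (a * b)) = onOpen ψ hp a • D (onOpen ψ hp b) + onOpen ψ hp b • D (onOpen ψ hp a)
        rw [map_mul, Derivation.leibniz])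
      (fun c => by
        show D (onOpen ψ hp (f.appLE ⊤ U h c)) = 0
        have e : onOpen ψ hp (f.appLE ⊤ U h c) = ψ (X.presheaf.germ ⊤ p trivial (f.appTop c)) :=
          onOpen_res ψ (le_top : U ≤ ⊤) hp (f.appTop c)
        obtain ⟨c', hc'⟩ := hψ c
        rw [e, ← hc', Derivation.map_algebraMap])
  refine ⟨(inv T ≫ d.desc).hom.toAddMonoidHom, fun r x => (inv T ≫ d.desc).hom.map_smul r x, fun b => ?_⟩
  show (inv T ≫ d.desc) (OmegaSh.dSect f U b) = _
  rw [← OmAff.toSect_d f ⊤ U h b, ← CategoryTheory.comp_apply, IsIso.hom_inv_id_assoc]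
  exact d.desc_d b

variable {ψ : X.presheaf.stalk p →+* O} (hψ : IsOver f ψ) (D : Derivation k O O) {U : X.Opens}
  (hU : IsAffineOpen U) (hp : p ∈ U)

/-- The contraction of one-forms with a derivation. -/
def lam : Γ(Omega.sheaf f, U) →+ O := (exists_lam hψ D hU hp).choose

theorem lam_smul (r : Γ(X, U)) (x : Γ(Omega.sheaf f, U)) :
    lam hψ D hU hp (r • x) = onOpen ψ hp r * lam hψ D hU hp x :=
  (exists_lam hψ D hU hp).choose_spec.1 r x

theorem lam_d (b : Γ(X, U)) : lam hψ D hU hp (OmegaSh.dSect f U b) = D (onOpen ψ hp b) :=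
  (exists_lam hψ D hU hp).choose_spec.2 b

include hU in
/-- Semilinear maps on one-forms agree when they agree on differentials. -/
theorem ext_forms {A : Type u} [CommRing A] (σ : Γ(X, U) →+* A) (l l' : Γ(Omega.sheaf f, U) →+ A)
    (hl : ∀ r x, l (r • x) = σ r * l x) (hl' : ∀ r x, l' (r • x) = σ r * l' x)
    (hd : ∀ b, l (OmegaSh.dSect f U b) = l' (OmegaSh.dSect f U b)) : l = l' :=
  Omega12.sect_ext f hU (isAffineOpen_top _) (le_top : U ≤ f ⁻¹ᵁ ⊤) σ l l' hl hl' hd

theorem lam_mres {V : X.Opens} (hV : IsAffineOpen V) (hle : V ≤ U) (hpV : p ∈ V) (x : Γ(Omega.sheaf f, U)) :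
    lam hψ D hV hpV (M1.mres (Omega.sheaf f) hle x) = lam hψ D hU (hle hpV) x := by
  refine DFunLike.congr_fun (ext_forms hU (onOpen ψ (hle hpV))
    ((lam hψ D hV hpV).comp (M1.mres (Omega.sheaf f) hle).hom) (lam hψ D hU (hle hpV))
    (fun r x => ?_) (fun r x => lam_smul hψ D hU _ r x) fun b => ?_) x
  · show lam hψ D hV hpV (M1.mres _ hle (r • x)) = _
    rw [M1.mres_smul, lam_smul]
    exact congrArg (· * _) (onOpen_res ψ hle hpV r)
  · show lam hψ D hV hpV (M1.mres _ hle (OmegaSh.dSect f U b)) = _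
    rw [show M1.mres (Omega.sheaf f) hle (OmegaSh.dSect f U b) =
      OmegaSh.dSect f V (X.presheaf.map (homOfLE hle).op b) from (OmegaSh.dSect_map f hle b).symm, lam_d, lam_d,
      onOpen_res]

theorem lam_add (D' : Derivation k O O) (x : Γ(Omega.sheaf f, U)) :
    lam hψ (D + D') hU hp x = lam hψ D hU hp x + lam hψ D' hU hp x :=
  DFunLike.congr_fun (ext_forms hU (onOpen ψ hp) (lam hψ (D + D') hU hp) (lam hψ D hU hp + lam hψ D' hU hp)
    (fun r x => lam_smul hψ _ hU hp r x)
    (fun r x => by simp only [AddMonoidHom.add_apply, lam_smul]; ring)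
    fun b => by simp only [AddMonoidHom.add_apply, lam_d, Derivation.add_apply]) x

theorem lam_smul_der (c : O) (x : Γ(Omega.sheaf f, U)) :
    lam hψ (c • D) hU hp x = c * lam hψ D hU hp x :=
  DFunLike.congr_fun (ext_forms hU (onOpen ψ hp) (lam hψ (c • D) hU hp)
    ((AddMonoidHom.mulLeft c).comp (lam hψ D hU hp)) (fun r x => lam_smul hψ _ hU hp r x)
    (fun r x => by
      show c * lam hψ D hU hp (r • x) = onOpen ψ hp r * (c * lam hψ D hU hp x)
      rw [lam_smul]; ring)
    fun b => by
      show _ = c * lam hψ D hU hp _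
      rw [lam_d, lam_d, Derivation.smul_apply, smul_eq_mul]) x

theorem lam_comp {O' : Type u} [CommRing O'] [Algebra k O'] (g : O →+* O') {q : X}
    {ψ' : X.presheaf.stalk q →+* O'} (hψ' : IsOver f ψ') (hq : q ∈ U)
    (hg : ∀ r, onOpen ψ' hq r = g (onOpen ψ hp r)) (D' : Derivation k O' O') (hD : ∀ a, D' (g a) = g (D a))
    (x : Γ(Omega.sheaf f, U)) : lam hψ' D' hU hq x = g (lam hψ D hU hp x) :=
  DFunLike.congr_fun (ext_forms hU (onOpen ψ' hq) (lam hψ' D' hU hq) (g.toAddMonoidHom.comp (lam hψ D hU hp))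
    (fun r x => lam_smul hψ' _ hU hq r x)
    (fun r x => by
      show g (lam hψ D hU hp (r • x)) = onOpen ψ' hq r * g (lam hψ D hU hp x)
      rw [lam_smul, map_mul, hg])
    fun b => by
      show _ = g (lam hψ D hU hp _)
      rw [lam_d, lam_d, hg, hD]) x

end Kaehler

section Ext

variable [QuasiSeparated f] {i : ℕ} {L : X.Modules} (hL : ExtPow.IsExtPow i (Omega.sheaf f) L)
variable {ψ : X.presheaf.stalk p →+* O} (hψ : IsOver f ψ) (D : Fin i → Derivation k O O)

/-- The decomposable section. -/
abbrev wedge {U : X.Opens} (hU : IsAffineOpen U) (e : Fin i → Γ(Omega.sheaf f, U)) : Γ(L, U) :=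
  (hL.choose ⟨U, hU⟩).symm (exteriorPower.ιMulti _ i e)

theorem mres_wedge {U V : X.Opens} (hU : IsAffineOpen U) (hV : IsAffineOpen V) (h : V ≤ U)
    (e : Fin i → Γ(Omega.sheaf f, U)) :
    M1.mres L h (wedge hL hU e) = wedge hL hV fun j => M1.mres (Omega.sheaf f) h (e j) :=
  hL.choose_spec ⟨U, hU⟩ ⟨V, hV⟩ h e

theorem ext_wedge {U : X.Opens} (hU : IsAffineOpen U) {A : Type u} [CommRing A] (σ : Γ(X, U) →+* A)
    (l l' : Γ(L, U) →+ A) (hl : ∀ r x, l (r • x) = σ r * l x) (hl' : ∀ r x, l' (r • x) = σ r * l' x)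
    (hd : ∀ e, l (wedge hL hU e) = l' (wedge hL hU e)) : l = l' := by
  refine AddMonoidHom.ext fun z => ?_
  obtain ⟨w, rfl⟩ := (hL.choose ⟨U, hU⟩).symm.surjective z
  have hw : w ∈ Submodule.span Γ(X, U) (Set.range (exteriorPower.ιMulti Γ(X, U) i)) := by
    rw [exteriorPower.ιMulti_span]; trivial
  induction hw using Submodule.span_induction with
  | mem y hy =>
    obtain ⟨e, rfl⟩ := hy
    exact hd e
  | zero => simp
  | add y z _ _ hy hz => simp only [map_add, hy, hz]
  | smul r y _ hy => rw [map_smul]; exact (hl r _).trans ((congrArg _ hy).trans (hl' r _).symm)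

variable {U : X.Opens} (hU : IsAffineOpen U) (hp : p ∈ U)

/-- The matrix of pairings. -/
abbrev pairMat (e : Fin i → Γ(Omega.sheaf f, U)) : Matrix (Fin i) (Fin i) O :=
  Matrix.of fun a b => lam hψ (D b) hU hp (e a)

theorem exists_lamExt : ∃ l : Γ(L, U) →+ O, (∀ r x, l (r • x) = onOpen ψ hp r * l x) ∧
    ∀ e, l (wedge hL hU e) = (pairMat hψ D hU hp e).det := by
  letI : Module Γ(X, U) O := Module.compHom O (onOpen ψ hp)
  let A : Γ(Omega.sheaf f, U) [⋀^Fin i]→ₗ[Γ(X, U)] O :=
    { toFun := fun e => (pairMat hψ D hU hp e).det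
      map_update_add' := fun {inst} e a x y => by
        obtain rfl : inst = instDecidableEqFin i := Subsingleton.elim _ _
        have hu : ∀ z, pairMat hψ D hU hp (Function.update e a z) =
            (pairMat hψ D hU hp e).updateRow a (fun b => lam hψ (D b) hU hp z) := by
          intro z; ext a' b
          rcases eq_or_ne a' a with rfl | ha
          · simp
          · simp [ha]
        simp only [hu]
        rw [show (fun b => lam hψ (D b) hU hp (x + y)) =
          (fun b => lam hψ (D b) hU hp x) + fun b => lam hψ (D b) hU hp y from funext fun b => map_add _ _ _]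
        exact Matrix.det_updateRow_add _ _ _ _
      map_update_smul' := fun {inst} e a r x => by
        obtain rfl : inst = instDecidableEqFin i := Subsingleton.elim _ _
        have hu : ∀ z, pairMat hψ D hU hp (Function.update e a z) =
            (pairMat hψ D hU hp e).updateRow a (fun b => lam hψ (D b) hU hp z) := by
          intro z; ext a' b
          rcases eq_or_ne a' a with rfl | ha
          · simp
          · simp [ha]
        simp only [hu]
        show _ = onOpen ψ hp r * _
        rw [show (fun b => lam hψ (D b) hU hp (r • x)) =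
          onOpen ψ hp r • fun b => lam hψ (D b) hU hp x from funext fun b => lam_smul hψ (D b) hU hp r x]
        exact Matrix.det_updateRow_smul _ _ _ _
      map_eq_zero_of_eq' := fun e a a' h ha => Matrix.det_zero_of_row_eq ha (funext fun b => by simp [h]) }
  refine ⟨((exteriorPower.alternatingMapLinearEquiv A).comp (hL.choose ⟨U, hU⟩).toLinearMap).toAddMonoidHom,
    fun r x => ((exteriorPower.alternatingMapLinearEquiv A).comp (hL.choose ⟨U, hU⟩).toLinearMap).map_smul r x,
    fun e => ?_⟩
  show exteriorPower.alternatingMapLinearEquiv A (hL.choose ⟨U, hU⟩ (wedge hL hU e)) = _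
  exact (congrArg _ (LinearEquiv.apply_symm_apply _ _)).trans
    (exteriorPower.alternatingMapLinearEquiv_apply_ιMulti A e)

/-- The contraction of `i`-forms with `i` derivations. -/
def lamExt : Γ(L, U) →+ O := (exists_lamExt hL hψ D hU hp).choose

theorem lamExt_smul (r : Γ(X, U)) (x : Γ(L, U)) :
    lamExt hL hψ D hU hp (r • x) = onOpen ψ hp r * lamExt hL hψ D hU hp x :=
  (exists_lamExt hL hψ D hU hp).choose_spec.1 r x

theorem lamExt_wedge (e : Fin i → Γ(Omega.sheaf f, U)) :
    lamExt hL hψ D hU hp (wedge hL hU e) = (pairMat hψ D hU hp e).det :=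
  (exists_lamExt hL hψ D hU hp).choose_spec.2 e

theorem lamExt_mres {V : X.Opens} (hV : IsAffineOpen V) (hle : V ≤ U) (hpV : p ∈ V) (z : Γ(L, U)) :
    lamExt hL hψ D hV hpV (M1.mres L hle z) = lamExt hL hψ D hU (hle hpV) z := by
  refine DFunLike.congr_fun (ext_wedge hL hU (onOpen ψ (hle hpV))
    ((lamExt hL hψ D hV hpV).comp (M1.mres L hle).hom) (lamExt hL hψ D hU (hle hpV))
    (fun r x => ?_) (fun r x => lamExt_smul hL hψ D hU _ r x) fun e => ?_) z
  · show lamExt hL hψ D hV hpV (M1.mres L hle (r • x)) = _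
    rw [M1.mres_smul, lamExt_smul]
    exact congrArg (· * _) (onOpen_res ψ hle hpV r)
  · show lamExt hL hψ D hV hpV (M1.mres L hle (wedge hL hU e)) = _
    rw [mres_wedge hL hU hV, lamExt_wedge, lamExt_wedge]
    congr 1
    ext a b
    exact lam_mres hψ (D b) hU hV hle hpV (e a)

end Ext

section Stalk

variable [QuasiSeparated f] {i : ℕ} {L : X.Modules} (hL : ExtPow.IsExtPow i (Omega.sheaf f) L)
variable {ψ : X.presheaf.stalk p →+* O} (hψ : IsOver f ψ)

theorem exists_affine_germ (M : X.Modules) (a : M.presheaf.stalk p) :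
    ∃ (U : X.Opens) (_ : IsAffineOpen U) (hp : p ∈ U) (z : Γ(M, U)), M.presheaf.germ U p hp z = a := by
  obtain ⟨V, hpV, z, rfl⟩ := M.presheaf.germ_exist a
  obtain ⟨U, hU, hpU, hUV⟩ := exists_isAffineOpen_mem_and_subset (X := X) (x := p) (U := V) hpV
  exact ⟨U, hU, hpU, M1.mres M hUV z, M1.germ_mres M hUV hpU z⟩

variable (D : Fin i → Derivation k O O)

/-- The value on a germ. -/
def L1fun (a : L.presheaf.stalk p) : O :=
  lamExt hL hψ D (exists_affine_germ L a).choose_spec.choose
    (exists_affine_germ L a).choose_spec.choose_spec.choose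
    (exists_affine_germ L a).choose_spec.choose_spec.choose_spec.choose

theorem L1fun_germ {U : X.Opens} (hU : IsAffineOpen U) (hp : p ∈ U) (z : Γ(L, U)) :
    L1fun hL hψ D (L.presheaf.germ U p hp z) = lamExt hL hψ D hU hp z := by
  obtain ⟨U', hU', hp', z', hz', e⟩ : ∃ (U' : X.Opens) (hU' : IsAffineOpen U') (hp' : p ∈ U') (z' : Γ(L, U')),
      L.presheaf.germ U' p hp' z' = L.presheaf.germ U p hp z ∧
      L1fun hL hψ D (L.presheaf.germ U p hp z) = lamExt hL hψ D hU' hp' z' :=
    ⟨_, _, _, _, (exists_affine_germ L (L.presheaf.germ U p hp z)).choose_spec.choose_spec.choose_spec.choose_spec, rfl⟩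
  obtain ⟨W, hpW, iU', iU, eW⟩ := L.presheaf.germ_eq p hp' hp z' z hz'
  obtain ⟨V, hV, hpV, hVW⟩ := exists_isAffineOpen_mem_and_subset (X := X) (x := p) (U := W) hpW
  have hVW : V ≤ W := hVW
  rw [e, ← lamExt_mres hL hψ D hU' hV (hVW.trans iU'.le) hpV, ← lamExt_mres hL hψ D hU hV (hVW.trans iU.le) hpV]
  refine congrArg _ ?_
  have h1 : ∀ {U₀ : X.Opens} (i₀ : W ⟶ U₀) (y : Γ(L, U₀)),
      M1.mres L hVW (L.presheaf.map i₀.op y) = M1.mres L (hVW.trans i₀.le) y := by
    intro U₀ i₀ y
    exact (ConcreteCategory.congr_hom (L.presheaf.map_comp i₀.op (homOfLE hVW).op) y).symm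
  rw [← h1 iU', ← h1 iU, eW]

/-- Two germs on a common affine open. -/
theorem exists_affine_germ₂ (M N : X.Modules) (a : M.presheaf.stalk p) (b : N.presheaf.stalk p) :
    ∃ (U : X.Opens) (_ : IsAffineOpen U) (hp : p ∈ U) (y : Γ(M, U)) (z : Γ(N, U)),
      M.presheaf.germ U p hp y = a ∧ N.presheaf.germ U p hp z = b := by
  obtain ⟨U, -, hpU, y, rfl⟩ := exists_affine_germ M a
  obtain ⟨V, -, hpV, z, rfl⟩ := exists_affine_germ N b
  obtain ⟨W, hW, hpW, hle⟩ := exists_isAffineOpen_mem_and_subset (X := X) (x := p) (U := U ⊓ V) ⟨hpU, hpV⟩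
  have hle : W ≤ U ⊓ V := hle
  exact ⟨W, hW, hpW, M1.mres M (hle.trans inf_le_left) y, M1.mres N (hle.trans inf_le_right) z,
    M1.germ_mres _ _ hpW _, M1.germ_mres _ _ hpW _⟩

theorem L1fun_add (a b : L.presheaf.stalk p) : L1fun hL hψ D (a + b) = L1fun hL hψ D a + L1fun hL hψ D b := by
  obtain ⟨U, hU, hp, y, z, rfl, rfl⟩ := exists_affine_germ₂ L L a b
  rw [← map_add (L.presheaf.germ U p hp).hom y z, L1fun_germ hL hψ D hU hp, L1fun_germ hL hψ D hU hp,
    L1fun_germ hL hψ D hU hp, map_add]

theorem L1fun_smul (c : X.presheaf.stalk p) (a : L.presheaf.stalk p) :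
    L1fun hL hψ D (c • a) = ψ c * L1fun hL hψ D a := by
  obtain ⟨U, hU, hp, y, rfl⟩ := exists_affine_germ L a
  obtain ⟨V, hpV, r, rfl⟩ := X.presheaf.germ_exist c
  obtain ⟨W, hW, hpW, hle⟩ := exists_isAffineOpen_mem_and_subset (X := X) (x := p) (U := U ⊓ V) ⟨hp, hpV⟩
  have hle : W ≤ U ⊓ V := hle
  rw [← TopCat.Presheaf.germ_res_apply X.presheaf (homOfLE (hle.trans inf_le_right)) p hpW r,
    ← M1.germ_mres L (hle.trans inf_le_left) hpW y, ← M1.germ_smul, L1fun_germ hL hψ D hW hpW,
    L1fun_germ hL hψ D hW hpW, lamExt_smul]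
  rfl

/-- The contraction on the stalk of `Ω^i`. -/
def L1 : L.presheaf.stalk p →+ O := AddMonoidHom.mk' (L1fun hL hψ D) (L1fun_add hL hψ D)

theorem L1_germ {U : X.Opens} (hU : IsAffineOpen U) (hp : p ∈ U) (z : Γ(L, U)) :
    L1 hL hψ D (L.presheaf.germ U p hp z) = lamExt hL hψ D hU hp z := L1fun_germ hL hψ D hU hp z

theorem L1_smul (c : X.presheaf.stalk p) (a : L.presheaf.stalk p) : L1 hL hψ D (c • a) = ψ c * L1 hL hψ D a :=
  L1fun_smul hL hψ D c a

/-- Uniqueness principle for semilinear functionals on the stalk. -/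
theorem L1_ext (l : L.presheaf.stalk p →+ O) (hl : ∀ c a, l (c • a) = ψ c * l a)
    (h : ∀ (U : X.Opens) (hU : IsAffineOpen U) (hp : p ∈ U) (e : Fin i → Γ(Omega.sheaf f, U)),
      l (L.presheaf.germ U p hp (wedge hL hU e)) = L1 hL hψ D (L.presheaf.germ U p hp (wedge hL hU e))) :
    l = L1 hL hψ D := by
  refine AddMonoidHom.ext fun a => ?_
  obtain ⟨U, hU, hp, z, rfl⟩ := exists_affine_germ L a
  refine DFunLike.congr_fun (ext_wedge hL hU (onOpen ψ hp) (l.comp (L.presheaf.germ U p hp).hom)
    ((L1 hL hψ D).comp (L.presheaf.germ U p hp).hom) (fun r x => ?_) (fun r x => ?_) (h U hU hp)) z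
  · show l (L.presheaf.germ U p hp (r • x)) = _
    rw [M1.germ_smul, hl]; rfl
  · show L1 hL hψ D (L.presheaf.germ U p hp (r • x)) = _
    rw [M1.germ_smul, L1_smul]; rfl

theorem L1_update_add (b : Fin i) (x y : Derivation k O O) (a : L.presheaf.stalk p) :
    L1 hL hψ (Function.update D b (x + y)) a =
      L1 hL hψ (Function.update D b x) a + L1 hL hψ (Function.update D b y) a := by
  refine (DFunLike.congr_fun (L1_ext hL hψ (Function.update D b (x + y))
    (L1 hL hψ (Function.update D b x) + L1 hL hψ (Function.update D b y))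
    (fun c a => by simp only [AddMonoidHom.add_apply, L1_smul]; ring) fun U hU hp e => ?_) a).symm
  simp only [AddMonoidHom.add_apply, L1_germ hL hψ _ hU hp, lamExt_wedge]
  have hu : ∀ z, pairMat hψ (Function.update D b z) hU hp e =
      (pairMat hψ D hU hp e).updateCol b (fun a => lam hψ z hU hp (e a)) := by
    intro z; ext a' b'
    rcases eq_or_ne b' b with rfl | hb
    · simp
    · simp [hb]
  simp only [hu]
  rw [← Matrix.det_updateCol_add]
  congr 2
  funext a
  simp [lam_add]

theorem L1_update_smul (b : Fin i) (c : O) (x : Derivation k O O) (a : L.presheaf.stalk p) :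
    L1 hL hψ (Function.update D b (c • x)) a = c * L1 hL hψ (Function.update D b x) a := by
  refine (DFunLike.congr_fun (L1_ext hL hψ (Function.update D b (c • x))
    ((AddMonoidHom.mulLeft c).comp (L1 hL hψ (Function.update D b x)))
    (fun c' a => by
      show c * L1 hL hψ _ (c' • a) = ψ c' * (c * L1 hL hψ _ a)
      rw [L1_smul]; ring) fun U hU hp e => ?_) a).symm
  show c * _ = _
  simp only [L1_germ hL hψ _ hU hp, lamExt_wedge]
  have hu : ∀ z, pairMat hψ (Function.update D b z) hU hp e =
      (pairMat hψ D hU hp e).updateCol b (fun a => lam hψ z hU hp (e a)) := by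
    intro z; ext a' b'
    rcases eq_or_ne b' b with rfl | hb
    · simp
    · simp [hb]
  simp only [hu]
  rw [← Matrix.det_updateCol_smul]
  congr 2
  funext a
  simp [lam_smul_der]

/-- Compatibility with a change of point and of ring. -/
theorem L1_comp {O' : Type u} [CommRing O'] [Algebra k O'] (g : O →+* O') {q : X} (hqp : q ⤳ p)
    {ψ' : X.presheaf.stalk q →+* O'} (hψ' : IsOver f ψ')
    (hg : ψ'.comp (X.presheaf.stalkSpecializes hqp).hom = g.comp ψ)
    (D' : Fin i → Derivation k O' O') (hD : ∀ b a, D' b (g a) = g (D b a)) (a : L.presheaf.stalk p) :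
    L1 hL hψ' D' (L.presheaf.stalkSpecializes hqp a) = g (L1 hL hψ D a) := by
  obtain ⟨U, hU, hp, z, rfl⟩ := exists_affine_germ L a
  have hq : q ∈ U := hqp.mem_open U.2 hp
  have hgU : ∀ r, onOpen ψ' hq r = g (onOpen ψ hp r) := by
    intro r
    show ψ' (X.presheaf.germ U q hq r) = g (ψ (X.presheaf.germ U p hp r))
    rw [← TopCat.Presheaf.germ_stalkSpecializes_apply X.presheaf hp hqp r]
    exact RingHom.congr_fun hg _
  rw [TopCat.Presheaf.germ_stalkSpecializes_apply, L1_germ hL hψ' D' hU hq, L1_germ hL hψ D hU hp]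
  refine DFunLike.congr_fun (ext_wedge hL hU (onOpen ψ' hq) (lamExt hL hψ' D' hU hq)
    (g.toAddMonoidHom.comp (lamExt hL hψ D hU hp)) (fun r x => lamExt_smul hL hψ' D' hU hq r x)
    (fun r x => by
      show g (lamExt hL hψ D hU hp (r • x)) = onOpen ψ' hq r * g (lamExt hL hψ D hU hp x)
      rw [lamExt_smul, map_mul, hgU]) fun e => ?_) z
  show _ = g (lamExt hL hψ D hU hp (wedge hL hU e))
  rw [lamExt_wedge, lamExt_wedge, RingHom.map_det]
  congr 1
  ext a b
  exact lam_comp hψ (D b) hU hp g hψ' hq hgU (D' b) (hD b) (e a)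

end Stalk

section Power

variable [QuasiSeparated f] {i : ℕ} {L : X.Modules} (hL : ExtPow.IsExtPow i (Omega.sheaf f) L)
variable {ψ : X.presheaf.stalk p →+* O} (hψ : IsOver f ψ)

/-- The slots of the first factors. -/
abbrev initD {n : ℕ} (D : Fin (n + 1) × Fin i → Derivation k O O) : Fin n × Fin i → Derivation k O O :=
  fun x => D (x.1.castSucc, x.2)

/-- The slots of the last factor. -/
abbrev lastD {n : ℕ} (D : Fin (n + 1) × Fin i → Derivation k O O) : Fin i → Derivation k O O :=
  fun b => D (Fin.last n, b)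

/-- The contraction of tensor powers. -/
def LamAux : (n : ℕ) → (Fin n × Fin i → Derivation k O O) →
    {l : (CohB1.tensorPow L n).presheaf.stalk p →+ O // ∀ c a, l (c • a) = ψ c * l a}
  | 0, _ => ⟨ψ.toAddMonoidHom.comp (RH26.str p).symm.toLinearMap.toAddMonoidHom, fun c a => by
      show ψ ((RH26.str p).symm (c • a)) = ψ c * ψ ((RH26.str p).symm a)
      rw [map_smul, smul_eq_mul, map_mul]⟩
  | n + 1, D =>
    letI : Module (X.presheaf.stalk p) O := Module.compHom O ψ
    let A := LamAux n (initD D)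
    let B : (CohB1.tensorPow L n).presheaf.stalk p →ₗ[X.presheaf.stalk p]
        L.presheaf.stalk p →ₗ[X.presheaf.stalk p] O :=
      LinearMap.mk₂ (X.presheaf.stalk p) (fun a b => A.1 a * L1 hL hψ (lastD D) b)
        (fun a a' b => by rw [map_add, add_mul])
        (fun c a b => by show A.1 (c • a) * _ = ψ c * _; rw [A.2]; ring)
        (fun a b b' => by rw [map_add, mul_add])
        (fun c a b => by show A.1 a * L1 hL hψ _ (c • b) = ψ c * _; rw [L1_smul]; ring)
    let T := (TensorProduct.lift B).comp (M2.stalkEquiv (CohB1.tensorPow L n) L p).toLinearMap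
    ⟨T.toAddMonoidHom, fun c a => T.map_smul c a⟩

/-- The contraction on the stalk of `(Ω^i)^{⊗ n}`. -/
def Lam (n : ℕ) (D : Fin n × Fin i → Derivation k O O) : (CohB1.tensorPow L n).presheaf.stalk p →+ O :=
  (LamAux hL hψ n D).1

theorem Lam_smul (n : ℕ) (D : Fin n × Fin i → Derivation k O O) (c : X.presheaf.stalk p)
    (a : (CohB1.tensorPow L n).presheaf.stalk p) : Lam hL hψ n D (c • a) = ψ c * Lam hL hψ n D a :=
  (LamAux hL hψ n D).2 c a

theorem Lam_zero (D : Fin 0 × Fin i → Derivation k O O) (a : (CohB1.tensorPow L 0).presheaf.stalk p) :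
    Lam hL hψ 0 D a = ψ ((RH26.str p).symm a) := rfl

/-- Pure tensors in the stalk. -/
abbrev pure (n : ℕ) (a : (CohB1.tensorPow L n).presheaf.stalk p) (b : L.presheaf.stalk p) :
    (CohB1.tensorPow L (n + 1)).presheaf.stalk p :=
  (M2.stalkEquiv (CohB1.tensorPow L n) L p).symm (a ⊗ₜ b)

theorem Lam_pure (n : ℕ) (D : Fin (n + 1) × Fin i → Derivation k O O)
    (a : (CohB1.tensorPow L n).presheaf.stalk p) (b : L.presheaf.stalk p) :
    Lam hL hψ (n + 1) D (pure n a b) = Lam hL hψ n (initD D) a * L1 hL hψ (lastD D) b := by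
  letI : Module (X.presheaf.stalk p) O := Module.compHom O ψ
  simp only [Lam]
  rw [LamAux]
  show TensorProduct.lift _ (M2.stalkEquiv _ _ p ((M2.stalkEquiv _ _ p).symm (a ⊗ₜ b))) = _
  rw [LinearEquiv.apply_symm_apply, TensorProduct.lift.tmul]
  rfl

theorem pow_induction (n : ℕ) {motive : (CohB1.tensorPow L (n + 1)).presheaf.stalk p → Prop}
    (h0 : motive 0) (hadd : ∀ x y, motive x → motive y → motive (x + y))
    (hpure : ∀ a b, motive (pure n a b)) (z : (CohB1.tensorPow L (n + 1)).presheaf.stalk p) : motive z := by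
  obtain ⟨w, rfl⟩ := (M2.stalkEquiv (CohB1.tensorPow L n) L p).symm.surjective z
  induction w using TensorProduct.induction_on with
  | zero => rw [map_zero]; exact h0
  | tmul a b => exact hpure a b
  | add x y hx hy => rw [map_add]; exact hadd _ _ hx hy

theorem Lam_update_add : ∀ (n : ℕ) (D : Fin n × Fin i → Derivation k O O) (s : Fin n × Fin i)
    (x y : Derivation k O O) (a : (CohB1.tensorPow L n).presheaf.stalk p),
    Lam hL hψ n (Function.update D s (x + y)) a =
      Lam hL hψ n (Function.update D s x) a + Lam hL hψ n (Function.update D s y) a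
  | 0, _, s, _, _, _ => s.1.elim0
  | n + 1, D, s, x, y, z => by
    revert z
    refine pow_induction n ?_ ?_ (fun a b => ?_)
    · simp
    · intro u v hu hv; simp only [map_add, hu, hv]; abel
    · simp only [Lam_pure]
      obtain ⟨s1, s2⟩ := s
      refine Fin.lastCases ?_ (fun j => ?_) s1
      · have hi : ∀ w, initD (Function.update D (Fin.last n, s2) w) = initD D := fun w => by
          funext t; simp [initD, Fin.castSucc_ne_last]
        have hl : ∀ w, lastD (Function.update D (Fin.last n, s2) w) = Function.update (lastD D) s2 w := fun w => by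
          funext t; rcases eq_or_ne t s2 with rfl | ht <;> simp [lastD, *]
        rw [hi, hi, hi, hl, hl, hl, L1_update_add, mul_add]
      · have hl : ∀ w, lastD (Function.update D (j.castSucc, s2) w) = lastD D := fun w => by
          funext t; simp [lastD, (Fin.castSucc_ne_last j).symm]
        have hi : ∀ w, initD (Function.update D (j.castSucc, s2) w) = Function.update (initD D) (j, s2) w :=
          fun w => by
            funext t; rcases eq_or_ne t (j, s2) with rfl | ht
            · simp [initD]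
            · rw [Function.update_of_ne ht, initD]
              exact Function.update_of_ne (fun e => ht (by simpa [Prod.ext_iff] using e)) _ _
        rw [hl, hl, hl, hi, hi, hi, Lam_update_add n, add_mul]

theorem Lam_update_smul : ∀ (n : ℕ) (D : Fin n × Fin i → Derivation k O O) (s : Fin n × Fin i)
    (c : O) (x : Derivation k O O) (a : (CohB1.tensorPow L n).presheaf.stalk p),
    Lam hL hψ n (Function.update D s (c • x)) a = c * Lam hL hψ n (Function.update D s x) a
  | 0, _, s, _, _, _ => s.1.elim0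
  | n + 1, D, s, c, x, z => by
    revert z
    refine pow_induction n ?_ ?_ (fun a b => ?_)
    · simp
    · intro u v hu hv; simp only [map_add, hu, hv]; ring
    · simp only [Lam_pure]
      obtain ⟨s1, s2⟩ := s
      refine Fin.lastCases ?_ (fun j => ?_) s1
      · have hi : ∀ w, initD (Function.update D (Fin.last n, s2) w) = initD D := fun w => by
          funext t; simp [initD, Fin.castSucc_ne_last]
        have hl : ∀ w, lastD (Function.update D (Fin.last n, s2) w) = Function.update (lastD D) s2 w := fun w => by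
          funext t; rcases eq_or_ne t s2 with rfl | ht <;> simp [lastD, *]
        rw [hi, hi, hl, hl, L1_update_smul]; ring
      · have hl : ∀ w, lastD (Function.update D (j.castSucc, s2) w) = lastD D := fun w => by
          funext t; simp [lastD, (Fin.castSucc_ne_last j).symm]
        have hi : ∀ w, initD (Function.update D (j.castSucc, s2) w) = Function.update (initD D) (j, s2) w :=
          fun w => by
            funext t; rcases eq_or_ne t (j, s2) with rfl | ht
            · simp [initD]
            · rw [Function.update_of_ne ht, initD]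
              exact Function.update_of_ne (fun e => ht (by simpa [Prod.ext_iff] using e)) _ _
        rw [hl, hl, hi, hi, Lam_update_smul n]; ring

theorem pure_stalkSpecializes {q : X} (hqp : q ⤳ p) (n : ℕ) (a : (CohB1.tensorPow L n).presheaf.stalk p)
    (b : L.presheaf.stalk p) :
    (CohB1.tensorPow L (n + 1)).presheaf.stalkSpecializes hqp (pure n a b) =
      pure n ((CohB1.tensorPow L n).presheaf.stalkSpecializes hqp a) (L.presheaf.stalkSpecializes hqp b) := by
  obtain ⟨U, -, hp, y, z, rfl, rfl⟩ := exists_affine_germ₂ (CohB1.tensorPow L n) L a b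
  have hq : q ∈ U := hqp.mem_open U.2 hp
  have h : ∀ (x : X) (hx : x ∈ U), pure n ((CohB1.tensorPow L n).presheaf.germ U x hx y) (L.presheaf.germ U x hx z) =
      (CohB1.tensorPow L (n + 1)).presheaf.germ U x hx (M2.tsec _ _ y z) :=
    fun x hx => (LinearEquiv.symm_apply_eq _).2 (M2.stalkEquiv_tsec _ _ x hx y z).symm
  rw [h p hp, TopCat.Presheaf.germ_stalkSpecializes_apply, TopCat.Presheaf.germ_stalkSpecializes_apply,
    TopCat.Presheaf.germ_stalkSpecializes_apply, h q hq]

/-- Compatibility with a change of point and of ring. -/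
theorem Lam_comp {O' : Type u} [CommRing O'] [Algebra k O'] (g : O →+* O') {q : X} (hqp : q ⤳ p)
    {ψ' : X.presheaf.stalk q →+* O'} (hψ' : IsOver f ψ')
    (hg : ψ'.comp (X.presheaf.stalkSpecializes hqp).hom = g.comp ψ) :
    ∀ (n : ℕ) (D : Fin n × Fin i → Derivation k O O) (D' : Fin n × Fin i → Derivation k O' O')
      (_ : ∀ s a, D' s (g a) = g (D s a)) (a : (CohB1.tensorPow L n).presheaf.stalk p),
      Lam hL hψ' n D' ((CohB1.tensorPow L n).presheaf.stalkSpecializes hqp a) = g (Lam hL hψ n D a)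
  | 0, D, D', _, a => by
    show ψ' ((RH26.str q).symm ((Coh.structureModule X).presheaf.stalkSpecializes hqp a)) = g (ψ ((RH26.str p).symm a))
    rw [RH26.str_symm_stalkSpecializes]
    exact RingHom.congr_fun hg _
  | n + 1, D, D', hD, z => by
    revert z
    refine pow_induction n ?_ ?_ (fun a b => ?_)
    · simp
    · intro u v hu hv; simp only [map_add, hu, hv]
    · rw [pure_stalkSpecializes hqp n a b, Lam_pure, Lam_pure, Lam_comp g hqp hψ' hg n (initD D) (initD D')
        (fun s a => hD _ a), L1_comp hL hψ (lastD D) g hqp hψ' hg (lastD D') (fun b a => hD _ a), map_mul]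

end Power

end Groth.Agent.AlmostR6
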