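import Groth.Agent.Lib.AlmostR6.Hasse
import Groth.Agent.Lib.Omega12.Universal

/-!
# A nonconstant rational curve has a negative degree in its pulled back differentials
-/

set_option autoImplicit false
set_option backward.isDefEq.respectTransparency false
set_option backward.isDefEq.respectTransparency.types false
set_option linter.style.haveILetI false

universe u

open CategoryTheory CategoryTheory.Limits AlgebraicGeometry Opposite TopologicalSpace IsLocalRing

noncomputable section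

namespace Groth.Agent.AlmostR6

variable {k : Type u} [Field k] {X C : Scheme.{u}} {f : X ⟶ Spec (CommRingCat.of k)} {g : C ⟶ X}

/-- The derivation into `g_* O_C` of a field. -/
def VField.der (v : VField f g) :
    OmegaSh.Der f ((Scheme.Modules.pushforward g).obj (Coh.structureModule C)) where
  d {W} := (OmegaSh.strSect C (g ⁻¹ᵁ W.unop)).comp (v.d W.unop)
  d_mul {W} a b := v.leibniz W.unop a b
  d_map {W W'} i a := by
    rw [show i = (homOfLE i.unop.le).op from Subsingleton.elim _ _]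
    exact v.res W.unop W'.unop i.unop.le a
  d_app {O} c := by
    show v.d (f ⁻¹ᵁ O.unop) (f.app O.unop c) = 0
    haveI : Subsingleton (Spec (CommRingCat.of k)) := inferInstanceAs (Subsingleton (PrimeSpectrum k))
    obtain ⟨O⟩ := O
    by_cases hne : (O : Set (Spec (CommRingCat.of k))).Nonempty
    · obtain rfl : O = ⊤ := by
        obtain ⟨y, hy⟩ := hne
        exact top_le_iff.1 fun z _ => (Subsingleton.elim y z) ▸ hy
      have e : f.app ⊤ c = f.appLE ⊤ (f ⁻¹ᵁ ⊤) le_top c :=
        (ConcreteCategory.congr_hom (Scheme.Hom.appLE_eq_app (f := f) (U := ⊤)) c).symm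
      rw [e]
      exact v.const _ c
    · exact TopCat.Presheaf.section_ext C.sheaf _ _ _ fun x hx => absurd (⟨_, hx⟩ : (O : Set (Spec (CommRingCat.of k))).Nonempty) hne

variable [QuasiSeparated f]

/-- Every field comes from a functional. -/
theorem exists_functional (v : VField f g) :
    ∃ ψ : (Scheme.Modules.pullback g).obj (Omega.sheaf f) ⟶ Coh.structureModule C,
      ∀ W r, (fieldOf ψ).d W r = v.d W r := by
  obtain ⟨α, hα, -⟩ := Omega12.isUniversal_dOmega f _ v.der
  refine ⟨((Scheme.Modules.pullbackPushforwardAdjunction g).homEquiv _ _).symm α, fun W r => ?_⟩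
  set ψ := ((Scheme.Modules.pullbackPushforwardAdjunction g).homEquiv _ _).symm α with hψ
  have h := congrArg (fun φ => φ.app W (OmegaSh.dSect f W r))
    (((Scheme.Modules.pullbackPushforwardAdjunction g).homEquiv _ _).apply_symm_apply α)
  simp only [Adjunction.homEquiv_unit] at h
  have h2 : α.app W (OmegaSh.dSect f W r) = OmegaSh.strSect C (g ⁻¹ᵁ W) (v.d W r) := by
    have h3 := Omega12.postcomp_app f (OmegaSh.dOmega f) α W r
    rw [hα] at h3
    exact h3.symm
  exact congrArg (OmegaSh.fnSect C (g ⁻¹ᵁ W)) (h.trans h2)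

variable {fC : C ⟶ Spec (CommRingCat.of k)}

/-- A functional whose field vanishes at a point vanishes there. -/
theorem evalAt_eq_zero_of_field (hg : g ≫ f = fC) {r : ℕ} (hr : FlatMod.IsFinLocFreeOfRank r (Omega.sheaf f))
    {e : Spec (CommRingCat.of k) ⟶ C} (he : IsPt fC e)
    (ψ : (Scheme.Modules.pullback g).obj (Omega.sheaf f) ⟶ Coh.structureModule C)
    (h0 : ∀ (W : X.Opens) (hW : (e ≫ g) (closedPoint k) ∈ W) (y : Γ(X, W)), pv e hW (fieldOf ψ) y = 0)
    {V : C.Opens} (hV : e (closedPoint k) ∈ V) (z : Γ((Scheme.Modules.pullback g).obj (Omega.sheaf f), V)) :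
    evalAt e hV (OmegaSh.fnSect C V (ψ.app V z)) = 0 := by
  classical
  set x := e (closedPoint k) with hxdef
  obtain ⟨D, e₀, hpD, he₀⟩ := P1Split.exists_isBas_nhd hr ((e ≫ g) (closedPoint k))
  obtain ⟨W, hW, hpW, hWD⟩ := exists_isAffineOpen_mem_and_subset (X := X) (x := (e ≫ g) (closedPoint k)) (U := D) hpD
  have hb : P1Split.IsBas (Omega.sheaf f) W fun l => M1.mres (Omega.sheaf f) hWD (e₀ l) := he₀.mres hWD
  have hx : x ∈ g ⁻¹ᵁ W := hpW
  let σ : Γ(X, W) →+* k := (evalAt e hx).comp (g.app W).hom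
  have hzero : ∀ y : Γ(Omega.sheaf f, W),
      evalAt e hx (OmegaSh.fnSect C (g ⁻¹ᵁ W) (ψ.app _ (M2.pullSec g (Omega.sheaf f) y))) = 0 := fun y =>
    DFunLike.congr_fun (ext_forms (f := f) hW σ
      ((evalAt e hx).toAddMonoidHom.comp ((OmegaSh.fnSect C (g ⁻¹ᵁ W)).comp ((ψ.app (g ⁻¹ᵁ W)).hom.comp
        (AddMonoidHom.mk' (M2.pullSec g (Omega.sheaf f)) (M2.pullSec_add g _))))) 0
      (fun t z => by
        show evalAt e hx (OmegaSh.fnSect C _ (ψ.app _ (M2.pullSec g _ (t • z)))) = _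
        rw [M2.pullSec_smul, Scheme.Modules.Hom.app_smul, fnSect_smul, map_mul]
        rfl)
      (fun t z => by simp) fun t => h0 W hpW t) y
  let E := (Scheme.Modules.pullback g).obj (Omega.sheaf f)
  have hmem : (E.presheaf.germ V x hV z : E.presheaf.stalk x) ∈ Submodule.span (C.presheaf.stalk x)
      (Set.range fun l => (E.presheaf.germ (g ⁻¹ᵁ W) x hx
        (M2.pullSec g (Omega.sheaf f) (M1.mres (Omega.sheaf f) hWD (e₀ l))) : E.presheaf.stalk x)) := by
    rw [span_pullSec_eq_top g hb hx]; trivial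
  obtain ⟨c', hc'⟩ := (Submodule.mem_span_range_iff_exists_fun _).1 hmem
  obtain ⟨V₁, hxV, c, hVle, hc⟩ := P1Split.exists_common_section (W := g ⁻¹ᵁ W ⊓ V) ⟨hx, hV⟩ c'
  have hVW : V₁ ≤ g ⁻¹ᵁ W := hVle.trans inf_le_left
  have hVT : V₁ ≤ V := hVle.trans inf_le_right
  have heq : E.presheaf.germ V₁ x hxV (∑ l, c l • M1.mres E hVW (M2.pullSec g _ (M1.mres (Omega.sheaf f) hWD (e₀ l)))) =
      E.presheaf.germ V₁ x hxV (M1.mres E hVT z) := by
    rw [P1Split.germ_sum_smul, M1.germ_mres E hVT hxV, ← hc']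
    exact Finset.sum_congr rfl fun l _ => by rw [M1.germ_mres E hVW hxV, hc]
  obtain ⟨V', hxV', iU, iV, hV'⟩ := E.presheaf.germ_eq x hxV hxV _ _ heq
  have h1 := congrArg (fun z => evalAt e hxV' (OmegaSh.fnSect C V' (ψ.app V' z))) hV'
  have hres : ∀ (i : V' ⟶ V₁) (z : Γ(E, V₁)), evalAt e hxV' (OmegaSh.fnSect C V' (ψ.app V' (E.presheaf.map i.op z))) =
      evalAt e hxV (OmegaSh.fnSect C V₁ (ψ.app V₁ z)) := by
    intro i z
    rw [show i = homOfLE i.le from Subsingleton.elim _ _,
      show (E.presheaf.map (homOfLE i.le).op z) = M1.mres E i.le z from rfl, M1.app_mres, fnSect_mres]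
    exact evalAt_res e i.le hxV' _
  simp only [hres] at h1
  rw [M1.app_mres, fnSect_mres, evalAt_res, P1Split.app_sum_smul, map_sum, map_sum] at h1
  rw [← h1]
  refine Finset.sum_eq_zero fun l _ => ?_
  rw [M1.app_mres, fnSect_smul, fnSect_mres, map_mul, evalAt_res, hzero, mul_zero]

variable {g : P1Split.P1 k ⟶ X} {r : ℕ} {d : Fin r → ℤ}

/-- A nonconstant map from the line cannot have all degrees zero. -/
theorem exists_neg_degree [IsAlgClosed k] [IsProper f] (hg : g ≫ f = pC k)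
    (hnc : ¬ ∃ y : X, Set.range g.base ⊆ {y}) (hr : FlatMod.IsFinLocFreeOfRank r (Omega.sheaf f))
    (Φ : (Scheme.Modules.pullback g).obj (Omega.sheaf f) ≅ P1Split.splitMod k d) (hd : ∀ a, d a ≤ 0) :
    ∃ a, d a < 0 := by
  by_contra hno
  push Not at hno
  have hd0 : ∀ a, d a = 0 := fun a => le_antisymm (hd a) (hno a)
  obtain ⟨einf, hinf, hout, h1, hX0⟩ := exists_pt_infty k
  obtain ⟨v, ⟨W, y, hne⟩, hv0⟩ := exists_field_infty hg hnc einf hout fun _ => hX0
  obtain ⟨ψ, hψ⟩ := exists_functional v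
  refine hne ?_
  rw [← hψ]
  let E := (Scheme.Modules.pullback g).obj (Omega.sheaf f)
  let q : ∀ c : Fin 2, Fin r → Γ(E, P1Split.U k c) := fun c a => Φ.inv.app _ (P1Split.splitGen k d c a)
  have hq : ∀ c, P1Split.IsBas E (P1Split.U k c) (q c) := fun c => (P1Split.isBas_splitGen k d c).map_iso Φ.symm
  let A : ∀ (a : Fin r) (c : Fin 2), Γ(P1Split.P1 k, P1Split.U k c) := fun a c =>
    OmegaSh.fnSect _ _ (ψ.app _ (q c a))
  have hA : ∀ a, (P1Split.P1 k).presheaf.map (homOfLE (P1Split.U01_le k 1)).op (A a 1) =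
      (P1Split.P1 k).presheaf.map (homOfLE (P1Split.U01_le k 0)).op (A a 0) := by
    intro a
    have h := congrArg (fun z => ψ.app _ (Φ.inv.app _ z)) (P1Split.splitGen_transition k d a)
    simp only [M1.app_mres, hd0, LaurentPolynomial.T_zero, map_one, one_smul] at h
    exact congrArg (OmegaSh.fnSect _ _) h
  have hzero : ∀ a c, A a c = 0 := by
    intro a
    have hcompat : TopCat.Presheaf.IsCompatible (P1Split.P1 k).presheaf (P1Split.U k) (A a) := by
      intro i j
      fin_cases i <;> fin_cases j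
      · rfl
      · exact (hA a).symm
      · have h := congrArg ((P1Split.P1 k).presheaf.map (homOfLE (show P1Split.U k 1 ⊓ P1Split.U k 0 ≤ P1Split.U01 k from
          le_inf inf_le_right inf_le_left)).op) (hA a)
        rw [← CategoryTheory.comp_apply, ← CategoryTheory.comp_apply, ← Functor.map_comp, ← Functor.map_comp] at h
        exact h
      · rfl
    obtain ⟨G, hG, -⟩ := (P1Split.P1 k).sheaf.existsUnique_gluing' (P1Split.U k) ⊤ (fun x => homOfLE le_top)
      (P1Split.iSup_U k).ge (A a) hcompat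
    obtain ⟨c, rfl⟩ := const_P1 k G
    have hc : c = 0 := by
      have h := evalAt_eq_zero_of_field hg hr hinf ψ (fun W hW y => (congrArg (evalAt einf _) (hψ W y)).trans (hv0 W hW y))
        h1 (q 1 a)
      rw [show OmegaSh.fnSect _ _ (ψ.app (P1Split.U k 1) (q 1 a)) = A a 1 from rfl, ← hG 1] at h
      exact ((evalAt_res einf le_top h1 _).trans ((evalAt_res einf le_top h1 _).symm.trans (evalAt_algebraMap hinf h1 c))).symm.trans h
    intro i
    rw [← hG i, hc, map_zero, map_zero]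
    exact map_zero _
  show OmegaSh.fnSect _ _ (ψ.app _ (M2.pullSec g (Omega.sheaf f) (OmegaSh.dSect f W y))) = 0
  refine TopCat.Presheaf.section_ext (P1Split.P1 k).sheaf _ _ _ fun x hx => ?_
  refine Eq.trans ?_ (map_zero _).symm
  obtain ⟨i, hi⟩ := Opens.mem_iSup.1 (show x ∈ ⨆ i, P1Split.U k i by rw [P1Split.iSup_U]; trivial)
  obtain ⟨c, hc⟩ := (hq i (g ⁻¹ᵁ W ⊓ P1Split.U k i) inf_le_right).2
    (M1.mres E inf_le_left (M2.pullSec g (Omega.sheaf f) (OmegaSh.dSect f W y)))
  show (P1Split.P1 k).presheaf.germ (g ⁻¹ᵁ W) x hx _ = 0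
  rw [← TopCat.Presheaf.germ_res_apply (P1Split.P1 k).presheaf (homOfLE (inf_le_left : g ⁻¹ᵁ W ⊓ P1Split.U k i ≤ g ⁻¹ᵁ W)) x
      ⟨hx, hi⟩, ← fnSect_mres, ← M1.app_mres, ← hc, P1Split.app_sum_smul, map_sum]
  refine (congrArg _ (Finset.sum_eq_zero fun a _ => ?_)).trans (map_zero _)
  rw [M1.app_mres, fnSect_smul, fnSect_mres, show OmegaSh.fnSect _ _ (ψ.app _ (q i a)) = 0 from hzero a i,
    map_zero, mul_zero]

end Groth.Agent.AlmostR6
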