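import Groth.Agent.Lib.AlmostR6.RatCurve
import Groth.Agent.Lib.VarDim.Normal
import Mathlib.RingTheory.PowerSeries.Inverse
import Mathlib.AlgebraicGeometry.Morphisms.Proper

/-!
# A nonzero field along a nonconstant map from the line, vanishing at infinity

The first nonvanishing Hasse derivative of the pullback of functions.  This does not need separability.
-/

set_option autoImplicit false
set_option backward.isDefEq.respectTransparency false
set_option backward.isDefEq.respectTransparency.types false
set_option linter.style.haveILetI false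

universe u

open CategoryTheory CategoryTheory.Limits AlgebraicGeometry Opposite TopologicalSpace IsLocalRing

noncomputable section

namespace Groth.Agent.AlmostR6

variable {k : Type u} [Field k]

instance nonempty_U_P1 (a : Fin 2) : Nonempty (P1Split.U k a) := P1Split.nonempty_U k a

variable (k) in
/-- The function field of the line. -/
abbrev KP : Type u := (P1Split.P1 k).functionField

variable (k) in
/-- A chart ring in the function field. -/
def evP (a : Fin 2) : Polynomial k →+* KP k :=
  ((P1Split.P1 k).germToFunctionField (P1Split.U k a)).hom.comp (P1Split.coordHom k a)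

/-- Inclusions of local rings. -/
abbrev inK (x : P1Split.P1 k) : (P1Split.P1 k).presheaf.stalk x →+* KP k :=
  algebraMap ((P1Split.P1 k).presheaf.stalk x) (P1Split.P1 k).functionField

theorem inK_germ {W : (P1Split.P1 k).Opens} [Nonempty W] {x : P1Split.P1 k} (hx : x ∈ W) (r : Γ(P1Split.P1 k, W)) :
    inK x ((P1Split.P1 k).presheaf.germ W x hx r) = (P1Split.P1 k).germToFunctionField W r :=
  VarDim.germ_functionField_eq W x hx r

theorem evP_C (a : Fin 2) (c : k) :
    evP k a (Polynomial.C c) = inK (genericPoint _) ((P1Split.P1 k).presheaf.germ ⊤ _ trivial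
      ((pC k).appTop ((Scheme.ΓSpecIso (CommRingCat.of k)).inv c))) := by
  haveI : Nonempty (⊤ : (P1Split.P1 k).Opens) := ⟨⟨genericPoint _, trivial⟩⟩
  rw [inK_germ, evP, RingHom.comp_apply]
  have h : P1Split.coordHom k a (Polynomial.C c) = (P1Split.P1 k).presheaf.map (homOfLE le_top).op
      ((pC k).appTop ((Scheme.ΓSpecIso (CommRingCat.of k)).inv c)) := by
    refine P1Split.ext_valHom k fun x hx => ?_
    rw [P1Split.valHom_coordHom_C]
    refine Eq.trans ?_ (Twist.valO_constFun 1 k c x).symm
    exact (Localization.mk_one_eq_algebraMap _).symm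
  rw [h]
  exact TopCat.Presheaf.germ_res_apply _ _ _ _ _

theorem evP_X_mul : evP k 0 Polynomial.X * evP k 1 Polynomial.X = 1 := by
  haveI : Nonempty (P1Split.U01 k : (P1Split.P1 k).Opens) := by
    obtain ⟨⟨x, hx⟩⟩ := P1Split.nonempty_U k 0
    obtain ⟨⟨y, hy⟩⟩ := P1Split.nonempty_U k 1
    obtain ⟨z, hz⟩ := nonempty_preirreducible_inter (P1Split.U k 0).2 (P1Split.U k 1).2 ⟨x, hx⟩ ⟨y, hy⟩
    exact ⟨⟨z, hz⟩⟩
  have h : ∀ (a : Fin 2) p, evP k a p = (P1Split.P1 k).germToFunctionField (P1Split.U01 k) (P1Split.resHom k a p) :=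
    fun a p => (TopCat.Presheaf.germ_res_apply (P1Split.P1 k).presheaf (homOfLE (P1Split.U01_le k a)) _ _ _).symm
  rw [h, h, ← map_mul, P1Split.resHom_mul_X, map_one]

variable (k) in
/-- The shift on polynomials. -/
def shiftP : Polynomial k →+* Polynomial (KP k) :=
  Polynomial.eval₂RingHom (Polynomial.C.comp ((evP k 0).comp Polynomial.C))
    (Polynomial.C (evP k 0 Polynomial.X) + Polynomial.X)

theorem eval_shiftP (α : k) (p : Polynomial k) :
    (shiftP k p).eval (evP k 0 (Polynomial.C α) - evP k 0 Polynomial.X) = evP k 0 (Polynomial.C (p.eval α)) := by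
  have h : (Polynomial.evalRingHom (evP k 0 (Polynomial.C α) - evP k 0 Polynomial.X)).comp (shiftP k) =
      (evP k 0).comp (Polynomial.C.comp (Polynomial.evalRingHom α)) := by
    refine Polynomial.ringHom_ext (fun c => ?_) ?_ <;> simp [shiftP]
  exact DFunLike.congr_fun h p

variable (k) in
/-- The shift in the function field. -/
theorem exists_shift : ∃ T : KP k →+* PowerSeries (KP k),
    (∀ z, PowerSeries.constantCoeff (T z) = z) ∧
    (∀ p, T (evP k 0 p) = (shiftP k p : PowerSeries (KP k))) ∧
    ∀ z, ∃ a b, b ≠ 0 ∧ z * evP k 0 b = evP k 0 a := by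
  haveI hfr : IsFractionRing Γ(P1Split.P1 k, P1Split.U k 0) (P1Split.P1 k).functionField :=
    functionField_isFractionRing_of_isAffineOpen _ _ (P1Split.isAffineOpen_U k 0)
  let e := RingEquiv.ofBijective (P1Split.coordHom k 0) (P1Split.coordHom_bijective k 0)
  let sh : Γ(P1Split.P1 k, P1Split.U k 0) →+* PowerSeries (KP k) :=
    (Polynomial.coeToPowerSeries.ringHom.comp (shiftP k)).comp e.symm.toRingHom
  have hcc : ∀ y, PowerSeries.constantCoeff (sh y) = algebraMap _ (P1Split.P1 k).functionField y := by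
    intro y
    obtain ⟨p, rfl⟩ := e.surjective y
    show PowerSeries.constantCoeff ((shiftP k (e.symm (e p)) : Polynomial (KP k)) : PowerSeries (KP k)) = evP k 0 p
    rw [RingEquiv.symm_apply_apply]
    have h : (PowerSeries.constantCoeff.comp Polynomial.coeToPowerSeries.ringHom).comp (shiftP k) = evP k 0 := by
      refine Polynomial.ringHom_ext (fun c => ?_) ?_ <;> simp [shiftP]
    exact DFunLike.congr_fun h p
  have hunit : ∀ y : nonZeroDivisors Γ(P1Split.P1 k, P1Split.U k 0), IsUnit (sh y) := fun y => by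
    rw [PowerSeries.isUnit_iff_constantCoeff, hcc]
    exact isUnit_iff_ne_zero.2 (IsFractionRing.to_map_ne_zero_of_mem_nonZeroDivisors y.2)
  let T : KP k →+* PowerSeries (KP k) := IsLocalization.lift hunit
  refine ⟨T, fun z => ?_, fun p => ?_, fun z => ?_⟩
  · exact DFunLike.congr_fun (IsLocalization.ringHom_ext (nonZeroDivisors Γ(P1Split.P1 k, P1Split.U k 0))
      (S := (P1Split.P1 k).functionField) (j := PowerSeries.constantCoeff.comp T) (k := RingHom.id _)
      (RingHom.ext fun y => by
        show PowerSeries.constantCoeff (T (algebraMap _ _ y)) = _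
        rw [IsLocalization.lift_eq, hcc]; rfl)) z
  · refine (IsLocalization.lift_eq hunit (P1Split.coordHom k 0 p)).trans ?_
    show ((shiftP k (e.symm (e p)) : Polynomial (KP k)) : PowerSeries (KP k)) = _
    rw [RingEquiv.symm_apply_apply]
  · obtain ⟨a, b, hb, rfl⟩ := IsFractionRing.div_surjective (A := Γ(P1Split.P1 k, P1Split.U k 0)) z
    obtain ⟨pa, rfl⟩ := e.surjective a
    obtain ⟨pb, rfl⟩ := e.surjective b
    refine ⟨pa, pb, fun h => ?_, ?_⟩
    · rw [h, map_zero] at hb
      exact zero_notMem_nonZeroDivisors hb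
    · exact div_mul_cancel₀ _ (IsFractionRing.to_map_ne_zero_of_mem_nonZeroDivisors hb)

/-- A rational function fixed by the shift is constant. -/
theorem const_of_fixed [Infinite k] {T : KP k →+* PowerSeries (KP k)}
    (hT : ∀ p, T (evP k 0 p) = (shiftP k p : PowerSeries (KP k)))
    (hfrac : ∀ z, ∃ a b, b ≠ 0 ∧ z * evP k 0 b = evP k 0 a) {z : KP k} (hz : T z = PowerSeries.C z) :
    ∃ c : k, z = evP k 0 (Polynomial.C c) := by
  obtain ⟨a, b, hb, hab⟩ := hfrac z
  obtain ⟨α, hα⟩ : ∃ α, b.eval α ≠ 0 := by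
    by_contra h
    push Not at h
    exact hb (Polynomial.funext fun α => by simpa using h α)
  have h1 := congrArg T hab
  rw [map_mul, hz, hT, hT, ← Polynomial.coe_C, ← Polynomial.coe_mul, Polynomial.coe_inj] at h1
  have h2 := congrArg (Polynomial.eval (evP k 0 (Polynomial.C α) - evP k 0 Polynomial.X)) h1
  rw [Polynomial.eval_mul, Polynomial.eval_C, eval_shiftP, eval_shiftP] at h2
  refine ⟨a.eval α / b.eval α, ?_⟩
  have hne : evP k 0 (Polynomial.C (b.eval α)) ≠ 0 :=
    (map_ne_zero ((evP k 0).comp Polynomial.C)).2 hα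
  refine mul_right_cancel₀ hne (h2.trans ?_)
  rw [← map_mul, ← Polynomial.C_mul, div_mul_cancel₀ _ hα]

/-- The shift preserves local rings; at infinity it is the identity on residues. -/
theorem exists_local_shift {T : KP k →+* PowerSeries (KP k)}
    (hT : ∀ p, T (evP k 0 p) = (shiftP k p : PowerSeries (KP k))) (x : P1Split.P1 k) :
    ∃ Tx : (P1Split.P1 k).presheaf.stalk x →+* PowerSeries ((P1Split.P1 k).presheaf.stalk x),
      (∀ a, PowerSeries.map (inK x) (Tx a) = T (inK x a)) ∧
      (x ∉ P1Split.U k 0 → ∀ ρ : (P1Split.P1 k).presheaf.stalk x →+* k,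
        (∀ h : x ∈ P1Split.U k 1, ρ ((P1Split.P1 k).presheaf.germ _ x h (P1Split.coordHom k 1 Polynomial.X)) = 0) →
          ∀ a, PowerSeries.map ρ (Tx a) = PowerSeries.C (ρ a)) := by
  obtain ⟨a, ha, hinf⟩ : ∃ a : Fin 2, x ∈ P1Split.U k a ∧ (x ∉ P1Split.U k 0 → a = 1) := by
    by_cases h0 : x ∈ P1Split.U k 0
    · exact ⟨0, h0, fun h => absurd h0 h⟩
    · have : x ∈ (⨆ i, P1Split.U k i) := by rw [P1Split.iSup_U]; trivial
      obtain ⟨i, hi⟩ := Opens.mem_iSup.1 this
      fin_cases i
      · exact absurd hi h0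
      · exact ⟨1, hi, fun _ => rfl⟩
  let e := RingEquiv.ofBijective (P1Split.coordHom k a) (P1Split.coordHom_bijective k a)
  let gm : Polynomial k →+* (P1Split.P1 k).presheaf.stalk x :=
    ((P1Split.P1 k).presheaf.germ _ x ha).hom.comp (P1Split.coordHom k a)
  have hgm : ∀ p, inK x (gm p) = evP k a p := fun p => inK_germ ha _
  -- the image of the coordinate
  let img : PowerSeries ((P1Split.P1 k).presheaf.stalk x) :=
    if a = 0 then PowerSeries.C (gm Polynomial.X) + PowerSeries.X
    else PowerSeries.C (gm Polynomial.X) * PowerSeries.invOfUnit (1 + PowerSeries.C (gm Polynomial.X) * PowerSeries.X) 1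
  let sh : Polynomial k →+* PowerSeries ((P1Split.P1 k).presheaf.stalk x) :=
    Polynomial.eval₂RingHom (PowerSeries.C.comp (gm.comp Polynomial.C)) img
  have hcimg : PowerSeries.constantCoeff img = gm Polynomial.X := by
    simp only [img]
    split <;> simp
  have hcc : ∀ p, PowerSeries.constantCoeff (sh p) = gm p := by
    intro p
    have h : PowerSeries.constantCoeff.comp sh = gm := by
      refine Polynomial.ringHom_ext (fun c => ?_) ?_
      · simp [sh]
      · simp [sh, hcimg]
    exact DFunLike.congr_fun h p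
  -- compatibility with the shift
  have hcompat : ∀ p, PowerSeries.map (inK x) (sh p) = T (evP k a p) := by
    intro p
    have h : (PowerSeries.map (inK x)).comp sh = T.comp (evP k a) := by
      refine Polynomial.ringHom_ext (fun c => ?_) ?_
      · simp only [sh, RingHom.comp_apply, Polynomial.coe_eval₂RingHom, Polynomial.eval₂_C, PowerSeries.map_C, hgm]
        rw [evP_C a c, ← evP_C 0 c, hT]
        simp [shiftP]
      · simp only [sh, RingHom.comp_apply, Polynomial.coe_eval₂RingHom, Polynomial.eval₂_X]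
        by_cases h0 : a = 0
        · subst h0
          rw [hT]
          simp [img, shiftP, hgm]
        · obtain rfl : a = 1 := by omega
          simp only [img, if_neg h0, map_mul, PowerSeries.map_C, hgm]
          set y := PowerSeries.map (inK x)
            (PowerSeries.invOfUnit (1 + PowerSeries.C (gm Polynomial.X) * PowerSeries.X) 1) with hy
          have hy1 : (1 + PowerSeries.C (evP k 1 Polynomial.X) * PowerSeries.X) * y = 1 := by
            have := congrArg (PowerSeries.map (inK x))
              (PowerSeries.mul_invOfUnit (1 + PowerSeries.C (gm Polynomial.X) * PowerSeries.X) 1 (by simp))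
            rw [map_mul, map_add, map_one, map_mul, PowerSeries.map_C, PowerSeries.map_X, hgm] at this
            exact this
          have ht : T (evP k 0 Polynomial.X) * T (evP k 1 Polynomial.X) = 1 := by
            rw [← map_mul, evP_X_mul, map_one]
          refine left_inv_eq_right_inv (a := T (evP k 0 Polynomial.X)) ?_ ht
          rw [hT]
          simp only [shiftP, Polynomial.coe_eval₂RingHom, Polynomial.eval₂_X, Polynomial.coe_add, Polynomial.coe_C,
            Polynomial.coe_X]
          have e2 : (PowerSeries.C (evP k 0 Polynomial.X) : PowerSeries (KP k)) * PowerSeries.C (evP k 1 Polynomial.X) = 1 := by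
            rw [← map_mul, evP_X_mul, map_one]
          calc PowerSeries.C (evP k 1 Polynomial.X) * y * (PowerSeries.C (evP k 0 Polynomial.X) + PowerSeries.X)
              = (PowerSeries.C (evP k 0 Polynomial.X) * PowerSeries.C (evP k 1 Polynomial.X) +
                  PowerSeries.C (evP k 1 Polynomial.X) * PowerSeries.X) * y := by ring
            _ = 1 := by rw [e2, hy1]
    exact DFunLike.congr_fun h p
  letI : Algebra Γ(P1Split.P1 k, P1Split.U k a) ((P1Split.P1 k).presheaf.stalk x) :=
    (P1Split.P1 k).presheaf.algebra_section_stalk ⟨x, ha⟩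
  haveI := (P1Split.isAffineOpen_U k a).isLocalization_stalk ⟨x, ha⟩
  have hunit : ∀ y : ((P1Split.isAffineOpen_U k a).primeIdealOf ⟨x, ha⟩).asIdeal.primeCompl,
      IsUnit ((sh.comp e.symm.toRingHom) (y : Γ(P1Split.P1 k, P1Split.U k a))) := by
    intro y
    obtain ⟨p, hp⟩ := e.surjective (y : Γ(P1Split.P1 k, P1Split.U k a))
    rw [PowerSeries.isUnit_iff_constantCoeff]
    show IsUnit (PowerSeries.constantCoeff (sh (e.symm y)))
    rw [← hp, RingEquiv.symm_apply_apply, hcc]
    have := IsLocalization.map_units ((P1Split.P1 k).presheaf.stalk x) y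
    rw [← hp] at this
    exact this
  let Tx : (P1Split.P1 k).presheaf.stalk x →+* PowerSeries ((P1Split.P1 k).presheaf.stalk x) :=
    IsLocalization.lift hunit
  have hTx : ∀ p, Tx (gm p) = sh p := by
    intro p
    refine (IsLocalization.lift_eq hunit (P1Split.coordHom k a p)).trans ?_
    show sh (e.symm (e p)) = _
    rw [RingEquiv.symm_apply_apply]
  refine ⟨Tx, fun b => ?_, fun hx0 ρ hρ b => ?_⟩
  · refine DFunLike.congr_fun (IsLocalization.ringHom_ext
      ((P1Split.isAffineOpen_U k a).primeIdealOf ⟨x, ha⟩).asIdeal.primeCompl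
      (j := (PowerSeries.map (inK x)).comp Tx) (k := T.comp (inK x)) (RingHom.ext fun y => ?_)) b
    obtain ⟨p, rfl⟩ := e.surjective y
    show PowerSeries.map (inK x) (Tx (gm p)) = T (inK x (gm p))
    rw [hTx, hcompat, hgm]
  · obtain rfl := hinf hx0
    refine DFunLike.congr_fun (IsLocalization.ringHom_ext
      ((P1Split.isAffineOpen_U k 1).primeIdealOf ⟨x, ha⟩).asIdeal.primeCompl
      (j := (PowerSeries.map ρ).comp Tx) (k := PowerSeries.C.comp ρ) (RingHom.ext fun y => ?_)) b
    obtain ⟨p, rfl⟩ := e.surjective y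
    show PowerSeries.map ρ (Tx (gm p)) = PowerSeries.C (ρ (gm p))
    rw [hTx]
    have h : (PowerSeries.map ρ).comp sh = PowerSeries.C.comp (ρ.comp gm) := by
      refine Polynomial.ringHom_ext (fun c => ?_) ?_
      · simp [sh]
      · have h0 : ρ (gm Polynomial.X) = 0 := hρ ha
        simp [sh, img, h0]
    exact DFunLike.congr_fun h p

variable {X : Scheme.{u}} {f : X ⟶ Spec (CommRingCat.of k)}

theorem eq_of_inK {W : (P1Split.P1 k).Opens} {a b : Γ(P1Split.P1 k, W)}
    (h : ∀ x hx, inK x ((P1Split.P1 k).presheaf.germ W x hx a) = inK x ((P1Split.P1 k).presheaf.germ W x hx b)) :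
    a = b :=
  TopCat.Presheaf.section_ext (P1Split.P1 k).sheaf W a b fun x hx =>
    IsFractionRing.injective ((P1Split.P1 k).presheaf.stalk x) (P1Split.P1 k).functionField (h x hx)

/-- A nonconstant map from the line has a nonzero field vanishing at infinity. -/
theorem exists_field_infty [IsAlgClosed k] [IsProper f] {g : P1Split.P1 k ⟶ X} (hg : g ≫ f = pC k)
    (hnc : ¬ ∃ y : X, Set.range g.base ⊆ {y}) (einf : Spec (CommRingCat.of k) ⟶ P1Split.P1 k)
    (h0 : einf (closedPoint k) ∉ P1Split.U k 0)
    (hX0 : ∀ h : einf (closedPoint k) ∈ P1Split.U k 1, evalAt einf h (P1Split.coordHom k 1 Polynomial.X) = 0) :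
    ∃ v : VField f g, (∃ W r, v.d W r ≠ 0) ∧
      ∀ (W : X.Opens) (hW : (einf ≫ g) (closedPoint k) ∈ W) (r : Γ(X, W)), pv einf hW v r = 0 := by
  classical
  haveI : Infinite k := inferInstance
  obtain ⟨T, hT0, hT, hfrac⟩ := exists_shift k
  let z : ∀ (W : X.Opens) (x : P1Split.P1 k), x ∈ g ⁻¹ᵁ W → Γ(X, W) → KP k := fun W x hx r =>
    inK x ((P1Split.P1 k).presheaf.germ (g ⁻¹ᵁ W) x hx (g.app W r))
  -- some coefficient is nonzero
  have hex : ∃ q : ℕ, 1 ≤ q ∧ ∃ W x hx r, PowerSeries.coeff q (T (z W x hx r)) ≠ 0 := by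
    by_contra hno
    push Not at hno
    apply hnc
    obtain ⟨W, hW, hgη, -⟩ := exists_isAffineOpen_mem_and_subset (X := X) (x := g (genericPoint _)) (U := ⊤) trivial
    haveI : IsProper (g ≫ f) := by
      rw [hg]
      exact ProjSpace.isProper_toSpec 1 k
    haveI : IsProper g := IsProper.of_comp g f
    haveI : JacobsonSpace (P1Split.P1 k) := LocallyOfFiniteType.jacobsonSpace (pC k)
    have hconst : ∀ r : Γ(X, W), ∃ c : k, g.app W r = (P1Split.P1 k).presheaf.map (homOfLE le_top).op
        ((pC k).appTop ((Scheme.ΓSpecIso (CommRingCat.of k)).inv c)) := by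
      intro r
      have hz : T (z W _ hgη r) = PowerSeries.C (z W _ hgη r) := by
        refine PowerSeries.ext fun n => ?_
        rcases Nat.eq_zero_or_pos n with rfl | hn
        · rw [PowerSeries.coeff_zero_eq_constantCoeff, hT0, PowerSeries.constantCoeff_C]
        · rw [hno n hn W _ hgη r, PowerSeries.coeff_C, if_neg hn.ne']
      obtain ⟨c, hc⟩ := const_of_fixed hT hfrac hz
      refine ⟨c, eq_of_inK fun x hx => ?_⟩
      haveI : Nonempty (g ⁻¹ᵁ W : (P1Split.P1 k).Opens) := ⟨⟨x, hx⟩⟩
      haveI : Nonempty (⊤ : (P1Split.P1 k).Opens) := ⟨⟨x, trivial⟩⟩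
      rw [TopCat.Presheaf.germ_res_apply, inK_germ, inK_germ]
      have hc' : inK _ ((P1Split.P1 k).presheaf.germ (g ⁻¹ᵁ W) _ hgη (g.app W r)) = evP k 0 (Polynomial.C c) := hc
      rw [inK_germ, evP_C, inK_germ] at hc'
      exact hc'
    choose c hc using hconst
    have hprime : ∀ (x : P1Split.P1 k) (hx : x ∈ g ⁻¹ᵁ W) (r : Γ(X, W)),
        IsUnit (X.presheaf.germ W (g x) hx r) ↔ c r ≠ 0 := by
      intro x hx r
      constructor
      · intro hu hc0
        have h := hu.map (g.stalkMap x).hom
        rw [Scheme.Hom.germ_stalkMap_apply, hc, hc0, map_zero, map_zero, map_zero, map_zero] at h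
        exact not_isUnit_zero h
      · intro hne
        refine isUnit_of_map_unit (g.stalkMap x).hom _ ?_
        rw [Scheme.Hom.germ_stalkMap_apply, hc]
        exact ((((isUnit_iff_ne_zero.2 hne).map (Scheme.ΓSpecIso (CommRingCat.of k)).inv.hom).map
          (pC k).appTop.hom).map ((P1Split.P1 k).presheaf.map _).hom).map _
    have hsame : ∀ x, x ∈ g ⁻¹ᵁ W → g x = g (genericPoint _) := by
      intro x hx
      have e1 : hW.primeIdealOf ⟨g x, hx⟩ = hW.primeIdealOf ⟨g (genericPoint _), hgη⟩ := by
        refine PrimeSpectrum.ext (SetLike.ext fun r => ?_)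
        rw [← not_iff_not]
        letI := X.presheaf.algebra_section_stalk (U := W) ⟨g x, hx⟩
        haveI := hW.isLocalization_stalk ⟨g x, hx⟩
        refine ((IsLocalization.AtPrime.isUnit_to_map_iff (X.presheaf.stalk (g x))
          (hW.primeIdealOf ⟨g x, hx⟩).asIdeal r).symm.trans (hprime x hx r)).trans ?_
        letI := X.presheaf.algebra_section_stalk (U := W) ⟨g (genericPoint _), hgη⟩
        haveI := hW.isLocalization_stalk ⟨g (genericPoint _), hgη⟩
        exact ((IsLocalization.AtPrime.isUnit_to_map_iff (X.presheaf.stalk (g (genericPoint _)))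
          (hW.primeIdealOf ⟨g (genericPoint _), hgη⟩).asIdeal r).symm.trans (hprime _ hgη r)).symm
      have h2 := congrArg hW.fromSpec e1
      rwa [hW.fromSpec_primeIdealOf, hW.fromSpec_primeIdealOf] at h2
    obtain ⟨p, hp, hpc⟩ := nonempty_inter_closedPoints (X := P1Split.P1 k) ⟨_, hgη⟩ (g ⁻¹ᵁ W).2.isLocallyClosed
    have hcl : IsClosed ({g (genericPoint _)} : Set X) := by
      rw [← hsame p hp, ← Set.image_singleton]
      exact g.isClosedMap _ hpc
    refine ⟨g (genericPoint _), ?_⟩
    rintro _ ⟨x, rfl⟩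
    exact (((genericPoint_spec (P1Split.P1 k)).specializes (show x ∈ _ from trivial)).map g.continuous).mem_closed hcl rfl
  let q := Nat.find hex
  have hq1 : 1 ≤ q := (Nat.find_spec hex).1
  have hlow : ∀ j, 1 ≤ j → j < q → ∀ W x hx r, PowerSeries.coeff j (T (z W x hx r)) = 0 := by
    intro j hj hjq W x hx r
    by_contra hne
    exact Nat.find_min hex hjq ⟨hj, W, x, hx, r, hne⟩
  have hsec : ∀ (W : X.Opens) (r : Γ(X, W)), ∃ a : Γ(P1Split.P1 k, g ⁻¹ᵁ W), ∀ x hx,
      inK x ((P1Split.P1 k).presheaf.germ (g ⁻¹ᵁ W) x hx a) = PowerSeries.coeff q (T (z W x hx r)) := by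
    intro W r
    by_cases hne : Nonempty (g ⁻¹ᵁ W : (P1Split.P1 k).Opens)
    swap
    · exact ⟨0, fun x hx => absurd ⟨⟨x, hx⟩⟩ hne⟩
    obtain ⟨a, ha⟩ := VarDim.exists_section_of_forall_stalk (g ⁻¹ᵁ W)
      (PowerSeries.coeff q (T ((P1Split.P1 k).germToFunctionField (g ⁻¹ᵁ W) (g.app W r)))) fun x hx => by
        obtain ⟨Tx, hTx, -⟩ := exists_local_shift hT x
        refine ⟨PowerSeries.coeff q (Tx ((P1Split.P1 k).presheaf.germ (g ⁻¹ᵁ W) x hx (g.app W r))), ?_⟩
        rw [← inK_germ hx, ← hTx, PowerSeries.coeff_map]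
    exact ⟨a, fun x hx => by
      show inK x _ = PowerSeries.coeff q (T (inK x _))
      rw [inK_germ, inK_germ, ha]⟩
  choose d hd using hsec
  let v : VField f g :=
    { d := fun W => AddMonoidHom.mk' (d W) fun a b => eq_of_inK fun x hx => by
        rw [map_add, map_add, hd, hd, hd]
        simp only [z, map_add]
      leibniz := fun W a b => eq_of_inK fun x hx => by
        show inK x ((P1Split.P1 k).presheaf.germ _ x hx (d W (a * b))) =
          inK x ((P1Split.P1 k).presheaf.germ _ x hx (g.app W a * d W b + g.app W b * d W a))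
        rw [map_add, map_add, map_mul, map_mul, map_mul, map_mul, hd, hd, hd]
        show PowerSeries.coeff q (T (inK x ((P1Split.P1 k).presheaf.germ _ x hx (g.app W (a * b))))) =
          z W x hx a * PowerSeries.coeff q (T (z W x hx b)) + z W x hx b * PowerSeries.coeff q (T (z W x hx a))
        rw [map_mul, map_mul, map_mul, map_mul, PowerSeries.coeff_mul,
          Finset.sum_eq_add ((0 : ℕ), q) (q, 0) (fun h => by simp only [Prod.mk.injEq] at h; omega)]
        · rw [PowerSeries.coeff_zero_eq_constantCoeff, hT0, hT0]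
          show z W x hx a * _ + _ * z W x hx b = _
          ring
        · rintro ⟨i, j⟩ hij ⟨hne1, hne2⟩
          rw [Finset.HasAntidiagonal.mem_antidiagonal] at hij
          rw [Ne, Prod.mk.injEq] at hne1 hne2
          rw [show PowerSeries.coeff i (T (inK x _)) = 0 from hlow i (by omega) (by omega) W x hx a, zero_mul]
        · exact fun h => absurd (by simp) h
        · exact fun h => absurd (by simp) h
      res := fun W W' h a => eq_of_inK fun x hx => by
        show inK x ((P1Split.P1 k).presheaf.germ _ x hx (d W' (X.presheaf.map (homOfLE h).op a))) = _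
        rw [hd, TopCat.Presheaf.germ_res_apply]
        show PowerSeries.coeff q (T (inK x ((P1Split.P1 k).presheaf.germ (g ⁻¹ᵁ W') x hx (g.app W' _)))) =
          inK x ((P1Split.P1 k).presheaf.germ (g ⁻¹ᵁ W) x (g.preimage_mono h hx) (d W a))
        rw [hd]
        rw [show g.app W' (X.presheaf.map (homOfLE h).op a) =
          (P1Split.P1 k).presheaf.map (homOfLE (g.preimage_mono h)).op (g.app W a) from
            ConcreteCategory.congr_hom (g.naturality (homOfLE h).op) a,
          TopCat.Presheaf.germ_res_apply]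
      const := fun W c => eq_of_inK fun x hx => by
        show inK x ((P1Split.P1 k).presheaf.germ _ x hx (d W _)) = _
        rw [hd, map_zero, map_zero]
        show PowerSeries.coeff q (T (inK x _)) = 0
        rw [show g.app W (f.appLE ⊤ W le_top c) = (P1Split.P1 k).presheaf.map (homOfLE le_top).op
          ((pC k).appTop ((Scheme.ΓSpecIso (CommRingCat.of k)).inv ((Scheme.ΓSpecIso (CommRingCat.of k)).hom c))) by
            rw [Iso.hom_inv_id_apply, ← hg, Scheme.Hom.comp_appTop]
            show (f.app ⊤ ≫ X.presheaf.map (homOfLE _).op ≫ g.app W) c = _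
            rw [Scheme.Hom.naturality]
            rfl,
          TopCat.Presheaf.germ_res_apply]
        haveI : Nonempty (⊤ : (P1Split.P1 k).Opens) := ⟨⟨x, trivial⟩⟩
        rw [inK_germ, ← inK_germ (W := ⊤) (x := genericPoint (P1Split.P1 k)) trivial, ← evP_C 0, hT]
        simp [shiftP, PowerSeries.coeff_C]
        omega }
  refine ⟨v, ?_, fun W hW r => ?_⟩
  · obtain ⟨W, x, hx, r, hne⟩ := (Nat.find_spec hex).2
    refine ⟨W, r, fun h => hne ?_⟩
    rw [← hd W r x hx, show d W r = 0 from h, map_zero, map_zero]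
  · obtain ⟨Tx, hTx, hinf⟩ := exists_local_shift hT (einf (closedPoint k))
    have hx : einf (closedPoint k) ∈ g ⁻¹ᵁ W := hW
    have hgerm : (P1Split.P1 k).presheaf.germ (g ⁻¹ᵁ W) _ hx (d W r) =
        PowerSeries.coeff q (Tx ((P1Split.P1 k).presheaf.germ (g ⁻¹ᵁ W) _ hx (g.app W r))) := by
      refine IsFractionRing.injective ((P1Split.P1 k).presheaf.stalk (einf (closedPoint k))) (P1Split.P1 k).functionField ?_
      show inK _ _ = inK _ _
      rw [hd, ← PowerSeries.coeff_map, hTx]
    show clMap einf ((P1Split.P1 k).presheaf.germ (g ⁻¹ᵁ W) _ hx (d W r)) = 0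
    rw [hgerm, ← PowerSeries.coeff_map, hinf h0 (clMap einf) fun h => hX0 h, PowerSeries.coeff_C, if_neg (by omega)]

end Groth.Agent.AlmostR6
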