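import Mathlib.RingTheory.Smooth.Basic
import Mathlib.RingTheory.MvPolynomial.Homogeneous
import Mathlib.RingTheory.LocalRing.MaximalIdeal.Basic
import Mathlib.Algebra.MvPolynomial.Funext
import Mathlib.LinearAlgebra.Dimension.Finite

/-!
# Jets: order of vanishing from truncated arcs

A function in `m ^ r` has a well-defined leading coefficient along a truncated arc, depending only on the
tangent vector; if all leading coefficients vanish the function lies in `m ^ (r + 1)`.
-/

set_option autoImplicit false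
set_option linter.style.haveILetI false

universe u

open Polynomial

noncomputable section

namespace Groth.Agent.AlmostR6

variable {k : Type u} [Field k] (N : ℕ) (A : Type u) [CommRing A] [Algebra k A]

/-- Truncated polynomials. -/
abbrev Jet : Type u := A[X] ⧸ Ideal.span ({(Polynomial.X : A[X]) ^ (N + 2)} : Set A[X])

/-- The coefficient of a truncated polynomial. -/
def jcoef (j : Fin (N + 2)) : Jet N A →ₗ[A] A :=
  Submodule.liftQ ((Ideal.span ({(Polynomial.X : A[X]) ^ (N + 2)} : Set A[X])).restrictScalars A) (Polynomial.lcoeff A j)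
    (fun p hp => by
      obtain ⟨q, rfl⟩ := Ideal.mem_span_singleton.1 hp
      rw [LinearMap.mem_ker, Polynomial.lcoeff_apply, Polynomial.coeff_X_pow_mul', if_neg (by omega)])
    ∘ₗ (Submodule.Quotient.restrictScalarsEquiv A _).symm.toLinearMap

theorem jcoef_mk (j : Fin (N + 2)) (p : A[X]) : jcoef N A j (Ideal.Quotient.mk _ p) = p.coeff j := rfl

variable {N A}

theorem jcoef_X_pow_mul {r : ℕ} (hr : r < N + 2) (q : A[X]) :
    jcoef N A ⟨r, hr⟩ (Ideal.Quotient.mk _ (Polynomial.X ^ r * q)) = q.coeff 0 := by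
  rw [jcoef_mk]
  show (Polynomial.X ^ r * q).coeff r = _
  rw [Polynomial.coeff_X_pow_mul', if_pos le_rfl, Nat.sub_self]

variable {R : Type u} [CommRing R] [Algebra k R]

/-- The value of a jet at its origin. -/
abbrev jev (θ : R →ₐ[k] Jet N A) (a : R) : A := jcoef N A ⟨0, by omega⟩ (θ a)

/-- The tangent vector of a jet. -/
abbrev jtan (θ : R →ₐ[k] Jet N A) (a : R) : A := jcoef N A ⟨1, by omega⟩ (θ a)

theorem exists_eq_X_mul (θ : R →ₐ[k] Jet N A) {h : R} (h0 : jev θ h = 0) :
    ∃ q : A[X], θ h = Ideal.Quotient.mk _ (Polynomial.X * q) ∧ q.coeff 0 = jtan θ h := by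
  obtain ⟨p, hp⟩ := Ideal.Quotient.mk_surjective (θ h)
  have h0' : p.coeff 0 = 0 := by rw [jev, ← hp, jcoef_mk] at h0; exact h0
  refine ⟨p.divX, ?_, ?_⟩
  · conv_lhs => rw [← hp, ← Polynomial.X_mul_divX_add p, h0', map_zero, add_zero]
  · rw [Polynomial.coeff_divX, jtan, ← hp, jcoef_mk]

/-- The leading coefficient depends on the tangent vector alone. -/
theorem jcoef_congr (θ θ' : R →ₐ[k] Jet N A) (m : Ideal R) (h0 : ∀ h ∈ m, jev θ h = 0) (h0' : ∀ h ∈ m, jev θ' h = 0)
    (h1 : ∀ h ∈ m, jtan θ h = jtan θ' h) {r : ℕ} (hr : r < N + 2) {g : R} (hg : g ∈ m ^ r)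
    (hev : jev θ g = jev θ' g) :
    jcoef N A ⟨r, hr⟩ (θ g) = jcoef N A ⟨r, hr⟩ (θ' g) := by
  rcases Nat.eq_zero_or_pos r with rfl | hpos
  · exact hev
  suffices key : ∀ r : ℕ, 1 ≤ r → ∀ g ∈ m ^ r, ∃ q q' : A[X], θ g = Ideal.Quotient.mk _ (Polynomial.X ^ r * q) ∧
      θ' g = Ideal.Quotient.mk _ (Polynomial.X ^ r * q') ∧ q.coeff 0 = q'.coeff 0 by
    obtain ⟨q, q', e, e', eq⟩ := key r hpos g hg
    rw [e, e', jcoef_X_pow_mul, jcoef_X_pow_mul, eq]
  intro r hr1
  induction r, hr1 using Nat.le_induction with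
  | base =>
    intro g hg
    rw [pow_one] at hg
    obtain ⟨q, e, eq⟩ := exists_eq_X_mul θ (h0 g hg)
    obtain ⟨q', e', eq'⟩ := exists_eq_X_mul θ' (h0' g hg)
    exact ⟨q, q', by rwa [pow_one], by rwa [pow_one], by rw [eq, eq', h1 g hg]⟩
  | succ n hn ih =>
    intro g hg
    rw [pow_succ] at hg
    induction hg using Submodule.mul_induction_on' with
    | mem_mul_mem a ha b hb =>
      obtain ⟨q, q', e, e', eq⟩ := ih a ha
      obtain ⟨p, f, fp⟩ := exists_eq_X_mul θ (h0 b hb)
      obtain ⟨p', f', fp'⟩ := exists_eq_X_mul θ' (h0' b hb)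
      refine ⟨q * p, q' * p', ?_, ?_, by rw [Polynomial.mul_coeff_zero, Polynomial.mul_coeff_zero, eq, fp, fp', h1 b hb]⟩
      · rw [map_mul θ, e, f, ← map_mul]; congr 1; ring
      · rw [map_mul θ', e', f', ← map_mul]; congr 1; ring
    | add a _ b _ ha hb =>
      obtain ⟨q, q', e, e', eq⟩ := ha
      obtain ⟨p, p', f, f', fp⟩ := hb
      exact ⟨q + p, q' + p', by rw [map_add θ, e, f, ← map_add, mul_add], by rw [map_add θ', e', f', ← map_add, mul_add],
        by rw [Polynomial.coeff_add, Polynomial.coeff_add, eq, fp]⟩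

theorem jcoef_eq_zero_of_mem (θ : R →ₐ[k] Jet N A) (m : Ideal R) (h0 : ∀ h ∈ m, jev θ h = 0) {r : ℕ} (hr : r < N + 2)
    {g : R} (hg : g ∈ m ^ (r + 1)) : jcoef N A ⟨r, hr⟩ (θ g) = 0 := by
  have key : ∀ (n : ℕ), ∀ h ∈ m ^ n, ∃ q : A[X], θ h = Ideal.Quotient.mk _ (Polynomial.X ^ n * q) := by
    intro n
    induction n with
    | zero => intro h _; obtain ⟨q, hq⟩ := Ideal.Quotient.mk_surjective (θ h); exact ⟨q, by rw [pow_zero, one_mul, hq]⟩
    | succ n ih =>
      intro h hh
      rw [pow_succ] at hh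
      induction hh using Submodule.mul_induction_on' with
      | mem_mul_mem b hb c hc =>
        obtain ⟨q1, e1⟩ := ih b hb
        obtain ⟨q2, e2, -⟩ := exists_eq_X_mul θ (h0 c hc)
        exact ⟨q1 * q2, by rw [map_mul θ, e1, e2, ← map_mul]; congr 1; ring⟩
      | add b _ c _ hb hc =>
        obtain ⟨q1, e1⟩ := hb
        obtain ⟨q2, e2⟩ := hc
        exact ⟨q1 + q2, by rw [map_add θ, e1, e2, ← map_add, mul_add]⟩
  obtain ⟨q, e⟩ := key _ _ hg
  rw [e, jcoef_mk, Polynomial.coeff_X_pow_mul', if_neg (by show ¬ r + 1 ≤ r; omega)]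

theorem jev_mul (θ : R →ₐ[k] Jet N A) (a b : R) : jev θ (a * b) = jev θ a * jev θ b := by
  obtain ⟨p, hp⟩ := Ideal.Quotient.mk_surjective (θ a)
  obtain ⟨q, hq⟩ := Ideal.Quotient.mk_surjective (θ b)
  rw [jev, jev, jev, map_mul, ← hp, ← hq, ← map_mul, jcoef_mk, jcoef_mk, jcoef_mk]
  exact Polynomial.mul_coeff_zero p q

theorem jtan_mul (θ : R →ₐ[k] Jet N A) (a b : R) :
    jtan θ (a * b) = jev θ a * jtan θ b + jev θ b * jtan θ a := by
  obtain ⟨p, hp⟩ := Ideal.Quotient.mk_surjective (θ a)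
  obtain ⟨q, hq⟩ := Ideal.Quotient.mk_surjective (θ b)
  rw [jev, jev, jtan, jtan, jtan, map_mul, ← hp, ← hq, ← map_mul, jcoef_mk, jcoef_mk, jcoef_mk, jcoef_mk, jcoef_mk]
  show (p * q).coeff 1 = _
  rw [Polynomial.coeff_mul, Finset.Nat.sum_antidiagonal_eq_sum_range_succ (fun i j => p.coeff i * q.coeff j) 1]
  simp [Finset.sum_range_succ, mul_comm]

theorem jtan_algebraMap (θ : R →ₐ[k] Jet N A) (c : k) : jtan θ (algebraMap k R c) = 0 := by
  rw [jtan, AlgHom.commutes]
  show (Polynomial.C (algebraMap k A c)).coeff 1 = 0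
  simp

theorem isUnit_jet (x : Jet N A) (h : IsUnit (jcoef N A ⟨0, by omega⟩ x)) : IsUnit x := by
  obtain ⟨p, rfl⟩ := Ideal.Quotient.mk_surjective x
  rw [jcoef_mk] at h
  rw [← Polynomial.X_mul_divX_add p, map_add]
  rw [add_comm (Ideal.Quotient.mk _ (Polynomial.X * p.divX))]
  refine IsNilpotent.isUnit_add_left_of_commute ?_ ((h.map Polynomial.C).map (Ideal.Quotient.mk _)) (Commute.all _ _)
  refine ⟨N + 2, ?_⟩
  rw [← map_pow, Ideal.Quotient.eq_zero_iff_mem, mul_pow]
  exact Ideal.mul_mem_right _ _ (Ideal.subset_span rfl)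

variable (N)

/-- Jets with prescribed origin and tangent vector. -/
theorem exists_jet [Algebra.FormallySmooth k R] (ψ : R →ₐ[k] A) (δ : R →ₗ[k] A)
    (hδ : ∀ a b, δ (a * b) = ψ a * δ b + ψ b * δ a) :
    ∃ θ : R →ₐ[k] Jet N A, (∀ a, jev θ a = ψ a) ∧ ∀ a, jtan θ a = δ a := by
  let I2 : Ideal A[X] := Ideal.span {(Polynomial.X : A[X]) ^ 2}
  let IN : Ideal A[X] := Ideal.span {(Polynomial.X : A[X]) ^ (N + 2)}
  have hle : IN ≤ I2 := Ideal.span_le.2 (Set.singleton_subset_iff.2 (Ideal.mem_span_singleton.2 (pow_dvd_pow _ (by omega))))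
  let π : Jet N A →ₐ[k] A[X] ⧸ I2 := Ideal.Quotient.factorₐ k hle
  have hπ : Function.Surjective π := Ideal.Quotient.factor_surjective hle
  have hker : IsNilpotent (RingHom.ker π) := by
    refine ⟨N + 2, ?_⟩
    have h : RingHom.ker π = I2.map (Ideal.Quotient.mk IN) := by
      refine le_antisymm (fun x hx => ?_) ?_
      · obtain ⟨p, rfl⟩ := Ideal.Quotient.mk_surjective x
        exact Ideal.mem_map_of_mem _ (Ideal.Quotient.eq_zero_iff_mem.1 hx)
      · rw [Ideal.map_le_iff_le_comap]
        intro p hp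
        exact Ideal.Quotient.eq_zero_iff_mem.2 hp
    rw [h, ← Ideal.map_pow, Ideal.zero_eq_bot, Ideal.map_eq_bot_iff_le_ker, Ideal.mk_ker]
    rw [Ideal.span_singleton_pow, Ideal.span_singleton_le_iff_mem, Ideal.mem_span_singleton, ← pow_mul]
    exact pow_dvd_pow _ (by omega)
  have hsq : ∀ c : A, Ideal.Quotient.mk I2 (C c * Polynomial.X * Polynomial.X) = 0 := fun c =>
    Ideal.Quotient.eq_zero_iff_mem.2 (by
      rw [mul_assoc, ← sq]; exact Ideal.mul_mem_left _ _ (Ideal.subset_span rfl))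
  have h1 : δ 1 = 0 := by simpa using hδ 1 1
  let g : R →ₐ[k] A[X] ⧸ I2 :=
    { toFun := fun a => Ideal.Quotient.mk I2 (C (ψ a) + C (δ a) * Polynomial.X)
      map_one' := by simp [h1]
      map_zero' := by simp
      map_add' := fun a b => by rw [← map_add (Ideal.Quotient.mk I2)]; congr 1; simp only [map_add]; ring
      map_mul' := fun a b => by
        rw [← map_mul (Ideal.Quotient.mk I2), hδ, ← sub_eq_zero, ← map_sub]
        have : C (ψ (a * b)) + C (ψ a * δ b + ψ b * δ a) * Polynomial.X -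
            (C (ψ a) + C (δ a) * Polynomial.X) * (C (ψ b) + C (δ b) * Polynomial.X) =
              C (-(δ a * δ b)) * Polynomial.X * Polynomial.X := by
          simp only [map_mul, map_add, map_neg]; ring
        rw [this]
        exact hsq _
      commutes' := fun c => by
        have : δ (algebraMap k R c) = 0 := by
          rw [Algebra.algebraMap_eq_smul_one, map_smul, h1, smul_zero]
        show Ideal.Quotient.mk I2 (C (ψ (algebraMap k R c)) + C (δ (algebraMap k R c)) * Polynomial.X) = _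
        rw [AlgHom.commutes, this]
        simp
        rfl }
  let θ := Algebra.FormallySmooth.liftOfSurjective g π hπ hker
  have hθ : ∀ a, π (θ a) = g a := Algebra.FormallySmooth.liftOfSurjective_apply g π hπ hker
  have key : ∀ a (j : Fin (N + 2)), (j : ℕ) < 2 →
      jcoef N A j (θ a) = (C (ψ a) + C (δ a) * Polynomial.X).coeff j := by
    intro a j hj
    obtain ⟨p, hp⟩ := Ideal.Quotient.mk_surjective (θ a)
    have := hθ a
    rw [← hp] at this ⊢
    rw [jcoef_mk]
    have h2 : p - (C (ψ a) + C (δ a) * Polynomial.X) ∈ I2 :=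
      Ideal.Quotient.eq.1 (this : Ideal.Quotient.mk I2 p = _)
    obtain ⟨q, hq⟩ := Ideal.mem_span_singleton.1 h2
    rw [eq_add_of_sub_eq hq, Polynomial.coeff_add, Polynomial.coeff_X_pow_mul', if_neg (by omega), zero_add]
  refine ⟨θ, fun a => ?_, fun a => ?_⟩
  · rw [jev, key a _ (by simp)]; simp
  · rw [jtan, key a _ (by simp)]; simp

/-- Mapping the coefficients of jets. -/
def jmap {B : Type u} [CommRing B] [Algebra k B] (e : A →ₐ[k] B) : Jet N A →ₐ[k] Jet N B :=
  Ideal.quotientMapₐ _ (Polynomial.mapAlgHom e) (by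
    rw [Ideal.span_le, Set.singleton_subset_iff, SetLike.mem_coe, Ideal.mem_comap]
    refine Ideal.mem_span_singleton.2 ?_
    simp)

theorem jcoef_jmap {B : Type u} [CommRing B] [Algebra k B] (e : A →ₐ[k] B) (j : Fin (N + 2)) (x : Jet N A) :
    jcoef N B j (jmap N e x) = e (jcoef N A j x) := by
  obtain ⟨p, rfl⟩ := Ideal.Quotient.mk_surjective x
  show (Polynomial.mapAlgHom e p).coeff j = e (p.coeff j)
  simp

variable {N}

/-- A function all whose leading coefficients vanish lies in the next power of the maximal ideal. -/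
theorem mem_pow_succ_of_jcoef [IsNoetherianRing R] [Algebra.FormallySmooth k R] [Infinite k] (ev : R →ₐ[k] k)
    {r : ℕ} (hr : r < N + 2) {g : R} (hg : g ∈ RingHom.ker ev ^ r)
    (H : ∀ θ : R →ₐ[k] Jet N k, (∀ a, jev θ a = ev a) → jcoef N k ⟨r, hr⟩ (θ g) = 0) :
    g ∈ RingHom.ker ev ^ (r + 1) := by
  classical
  set m := RingHom.ker ev
  obtain ⟨G, hG⟩ := (inferInstance : IsNoetherianRing R).noetherian m
  let q : R →ₐ[k] R ⧸ m ^ 2 := Ideal.Quotient.mkₐ k _
  have hev : ∀ a : R, a - algebraMap k R (ev a) ∈ m := fun a => by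
    rw [RingHom.mem_ker, map_sub, AlgHom.commutes]; simp
  obtain ⟨κ, a, hainj, hspan, hli⟩ := exists_linearIndependent' k (fun x : G => q x)
  haveI : Finite κ := Finite.of_injective a hainj
  haveI := Fintype.ofFinite κ
  let x : κ → R := fun j => (a j : R)
  have hx : ∀ j, x j ∈ m := fun j => hG ▸ Ideal.subset_span (a j).2
  have hsub : ∀ h ∈ m, ∃ c : κ → k, h - ∑ j, algebraMap k R (c j) * x j ∈ m ^ 2 := by
    intro h hh
    have hq : q h ∈ Submodule.span k (Set.range ((fun x : G => q x) ∘ a)) := by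
      rw [hspan]
      have hh' : h ∈ Ideal.span (G : Set R) := by
        rw [show Ideal.span (G : Set R) = m from hG]; exact hh
      clear hh
      induction hh' using Submodule.span_induction with
      | mem y hy => exact Submodule.subset_span ⟨⟨y, hy⟩, rfl⟩
      | zero => rw [map_zero]; exact zero_mem _
      | add y z _ _ hy hz => rw [map_add]; exact add_mem hy hz
      | smul c y hy' hy =>
        have hym : y ∈ m := hG ▸ hy'
        have e : q (c * y) = ev c • q y := by
          rw [← map_smul, ← sub_eq_zero, ← map_sub, Algebra.smul_def, ← sub_mul]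
          exact Ideal.Quotient.eq_zero_iff_mem.2 (by rw [pow_two]; exact Ideal.mul_mem_mul (hev c) hym)
        rw [smul_eq_mul, e]
        exact Submodule.smul_mem _ _ hy
    obtain ⟨c, hc⟩ := (Submodule.mem_span_range_iff_exists_fun k).1 hq
    refine ⟨c, Ideal.Quotient.eq_zero_iff_mem.1 ?_⟩
    show q (h - _) = 0
    rw [map_sub, ← hc, map_sum, sub_eq_zero]
    exact Finset.sum_congr rfl fun j _ => by
      rw [map_mul, AlgHom.commutes, ← Algebra.smul_def]; rfl
  -- leading forms
  have hform : ∀ (j : ℕ), ∀ h ∈ m ^ j, ∃ F : MvPolynomial κ k, F.IsHomogeneous j ∧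
      h - MvPolynomial.aeval x F ∈ m ^ (j + 1) := by
    intro j
    induction j with
    | zero =>
      intro h _
      exact ⟨MvPolynomial.C (ev h), MvPolynomial.isHomogeneous_C _ _, by
        rw [MvPolynomial.aeval_C, pow_one]; exact hev h⟩
    | succ j ih =>
      intro h hh
      rw [pow_succ] at hh
      induction hh using Submodule.mul_induction_on' with
      | mem_mul_mem b hb c hc =>
        obtain ⟨F, hF, hFb⟩ := ih b hb
        obtain ⟨d, hd⟩ := hsub c hc
        refine ⟨F * ∑ i, MvPolynomial.C (d i) * MvPolynomial.X i, hF.mul (MvPolynomial.IsHomogeneous.sum _ _ _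
          fun i _ => (MvPolynomial.isHomogeneous_X k i).C_mul _), ?_⟩
        simp only [map_mul, map_sum, MvPolynomial.aeval_C, MvPolynomial.aeval_X]
        set u := MvPolynomial.aeval x F
        set w := ∑ i, algebraMap k R (d i) * x i
        have e : b * c - u * w = (b - u) * c + u * (c - w) := by ring
        rw [e]
        refine add_mem (by rw [pow_succ (n := j + 1)]; exact Ideal.mul_mem_mul hFb hc) ?_
        have hu : u ∈ m ^ j := by
          rw [show u = b - (b - u) by ring]
          exact sub_mem hb (Ideal.pow_le_pow_right (Nat.le_succ j) hFb)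
        rw [show j + 1 + 1 = j + 2 from rfl, pow_add]
        exact Ideal.mul_mem_mul hu hd
      | add b _ c _ hb hc =>
        obtain ⟨F, hF, hFb⟩ := hb
        obtain ⟨E, hE, hEc⟩ := hc
        exact ⟨F + E, hF.add hE, by rw [map_add, add_sub_add_comm]; exact add_mem hFb hEc⟩
  obtain ⟨F, hF, hFg⟩ := hform r g hg
  suffices hF0 : F = 0 by simpa [hF0] using hFg
  refine MvPolynomial.funext fun lam => ?_
  rw [map_zero]
  obtain ⟨L, hL⟩ : ∃ L : R ⧸ m ^ 2 →ₗ[k] k, ∀ j, L (q (x j)) = lam j := by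
    let B := Module.Basis.span hli
    obtain ⟨L, hL⟩ := LinearMap.exists_extend (B.constr k lam)
    refine ⟨L, fun j => ?_⟩
    have h := LinearMap.congr_fun hL (B j)
    rw [LinearMap.comp_apply, Submodule.subtype_apply, Module.Basis.constr_basis, Module.Basis.span_apply] at h
    exact h
  let dlt : R →ₗ[k] k :=
    (L.comp q.toLinearMap).comp (LinearMap.id - (Algebra.linearMap k R).comp ev.toLinearMap)
  have hδ : ∀ b c, dlt (b * c) = ev b * dlt c + ev c * dlt b := by
    intro b c
    show L (q (b * c - algebraMap k R (ev (b * c)))) =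
      ev b * L (q (c - algebraMap k R (ev c))) + ev c * L (q (b - algebraMap k R (ev b)))
    have e1 : ∀ (t : k) (y : R), t * L (q y) = L (q (t • y)) := fun t y => by
      rw [map_smul, map_smul, smul_eq_mul]
    rw [e1, e1, ← map_add, ← map_add]
    refine congrArg L ?_
    rw [← sub_eq_zero, ← map_sub]
    refine Ideal.Quotient.eq_zero_iff_mem.2 ?_
    have e : b * c - algebraMap k R (ev (b * c)) -
        (ev b • (c - algebraMap k R (ev c)) + ev c • (b - algebraMap k R (ev b))) =
          (b - algebraMap k R (ev b)) * (c - algebraMap k R (ev c)) := by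
      rw [map_mul, map_mul, Algebra.smul_def, Algebra.smul_def]; ring
    rw [e, pow_two]
    exact Ideal.mul_mem_mul (hev b) (hev c)
  obtain ⟨θ, hθ0, hθ1⟩ := exists_jet N ev dlt hδ
  have h0 := H θ hθ0
  have hm0 : ∀ h ∈ m, jev θ h = 0 := fun h hh => by rw [hθ0]; exact hh
  have hq : ∀ j, ∃ p : k[X], θ (x j) = Ideal.Quotient.mk _ (Polynomial.X * p) ∧ p.coeff 0 = lam j := by
    intro j
    obtain ⟨p, hp, hp0⟩ := exists_eq_X_mul θ (hm0 _ (hx j))
    refine ⟨p, hp, ?_⟩
    rw [hp0, hθ1]
    show L (q (x j - algebraMap k R (ev (x j)))) = lam j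
    rw [show ev (x j) = 0 from hx j, map_zero, sub_zero, hL]
  choose p hp hp0 using hq
  have hzero : jcoef N k ⟨r, hr⟩ (θ (g - MvPolynomial.aeval x F)) = 0 := by
    obtain ⟨q1, e⟩ : ∃ q1 : k[X], θ (g - MvPolynomial.aeval x F) = Ideal.Quotient.mk _ (Polynomial.X ^ (r + 1) * q1) := by
      have key : ∀ (n : ℕ), ∀ h ∈ m ^ n, ∃ q1 : k[X], θ h = Ideal.Quotient.mk _ (Polynomial.X ^ n * q1) := by
        intro n
        induction n with
        | zero => intro h _; obtain ⟨q1, hq1⟩ := Ideal.Quotient.mk_surjective (θ h); exact ⟨q1, by rw [pow_zero, one_mul, hq1]⟩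
        | succ n ih =>
          intro h hh
          rw [pow_succ] at hh
          induction hh using Submodule.mul_induction_on' with
          | mem_mul_mem b hb c hc =>
            obtain ⟨q1, e1⟩ := ih b hb
            obtain ⟨q2, e2, -⟩ := exists_eq_X_mul θ (hm0 c hc)
            exact ⟨q1 * q2, by rw [map_mul θ, e1, e2, ← map_mul]; congr 1; ring⟩
          | add b _ c _ hb hc =>
            obtain ⟨q1, e1⟩ := hb
            obtain ⟨q2, e2⟩ := hc
            exact ⟨q1 + q2, by rw [map_add θ, e1, e2, ← map_add, mul_add]⟩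
      exact key _ _ hFg
    rw [e, jcoef_mk, Polynomial.coeff_X_pow_mul', if_neg (by show ¬ r + 1 ≤ r; omega)]
  rw [map_sub, map_sub, h0, zero_sub, neg_eq_zero] at hzero
  have hFθ : θ (MvPolynomial.aeval x F) = Ideal.Quotient.mk _ (Polynomial.X ^ r * MvPolynomial.aeval p F) := by
    rw [← AlgHom.comp_apply, MvPolynomial.comp_aeval, show (fun i => θ (x i)) = fun i =>
      Ideal.Quotient.mkₐ k _ (Polynomial.X * p i) from funext hp, ← MvPolynomial.comp_aeval_apply]
    refine congrArg (Ideal.Quotient.mk _) ?_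
    rw [F.as_sum, map_sum, map_sum, Finset.mul_sum]
    refine Finset.sum_congr rfl fun d hd => ?_
    have hdeg : ∑ i, d i = r := by
      have := hF (MvPolynomial.mem_support_iff.1 hd)
      rw [← this, Finsupp.weight_apply, Finsupp.sum_fintype _ _ (by simp)]
      simp
    rw [MvPolynomial.aeval_monomial, MvPolynomial.aeval_monomial, Finsupp.prod_fintype _ _ (by simp),
      Finsupp.prod_fintype _ _ (by simp)]
    simp only [mul_pow, Finset.prod_mul_distrib, Finset.prod_pow_eq_pow_sum, hdeg]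
    ring
  rw [hFθ, jcoef_X_pow_mul] at hzero
  rw [← hzero]
  show MvPolynomial.eval lam F = Polynomial.constantCoeff (MvPolynomial.aeval p F)
  rw [MvPolynomial.aeval_def, MvPolynomial.eval₂_comp_left (Polynomial.constantCoeff (R := k))]
  rw [show (Polynomial.constantCoeff (R := k)).comp (algebraMap k k[X]) = RingHom.id k from RingHom.ext fun c => by simp,
    show ⇑(Polynomial.constantCoeff (R := k)) ∘ p = lam from funext hp0]
  rfl

end Groth.Agent.AlmostR6
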