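import Groth.Agent.Lib.AlmostR6.Val
import Mathlib.AlgebraicGeometry.Morphisms.Proper

/-!
# Tensor forms are constant along rational curves

`val_eq_of_line`: two rational points of an open of the affine line mapping to a proper scheme have the same
values of a global section of `(Ω^i)^{⊗ m}`.
-/

set_option autoImplicit false
set_option backward.isDefEq.respectTransparency false
set_option backward.isDefEq.respectTransparency.types false
set_option linter.style.haveILetI false

universe u

open CategoryTheory AlgebraicGeometry Opposite TopologicalSpace IsLocalRing Polynomial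

noncomputable section

namespace Groth.Agent.AlmostR6

variable (K : Type u) [Field K]

/-- The polynomials in `t⁻¹`. -/
def evInv : K[X] →+* FractionRing K[X] :=
  eval₂RingHom ((algebraMap K[X] (FractionRing K[X])).comp C) (algebraMap K[X] (FractionRing K[X]) X)⁻¹

theorem evInv_C (c : K) : evInv K (C c) = algebraMap K[X] (FractionRing K[X]) (C c) := by
  simp [evInv]

theorem evInv_X : evInv K X = (algebraMap K[X] (FractionRing K[X]) X)⁻¹ := by
  simp [evInv]

theorem ev_mul_evInv : algebraMap K[X] (FractionRing K[X]) X * evInv K X = 1 := by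
  rw [evInv_X, mul_inv_cancel₀]
  exact (map_ne_zero_iff _ (IsFractionRing.injective _ _)).2 X_ne_zero

theorem isFrac_ev : IsFrac (algebraMap K[X] (FractionRing K[X])) := by
  refine ⟨IsFractionRing.injective _ _, fun x => ?_⟩
  obtain ⟨a, b, hb, rfl⟩ := IsFractionRing.div_surjective (A := K[X]) x
  exact ⟨a, b, nonZeroDivisors.ne_zero hb,
    div_mul_cancel₀ _ (IsFractionRing.to_map_ne_zero_of_mem_nonZeroDivisors hb)⟩

variable {K}

theorem ev_reverse {F : Type u} [Field F] (e e' : K[X] →+* F) (hC : ∀ c, e' (C c) = e (C c))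
    (hts : e X * e' X = 1) (p : K[X]) : e' p.reverse = e p * e' X ^ p.natDegree := by
  have hext : ∀ g : K[X] →+* F, ∀ q, g q = eval₂ (g.comp C) (g X) q := by
    intro g q
    refine RingHom.congr_fun (Polynomial.ringHom_ext (g := eval₂RingHom (g.comp C) (g X)) (fun c => ?_) ?_) q <;> simp
  letI : Invertible (e X) := ⟨e' X, by rw [mul_comm]; exact hts, hts⟩
  have E := eval₂_reverse_mul_pow (e.comp C) (e X) p
  have hC' : e'.comp C = e.comp C := RingHom.ext hC
  rw [← hext e p, ← hC', show (⅟(e X)) = e' X from rfl, ← hext e' p.reverse] at E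
  rw [← E, mul_assoc, ← mul_pow, hts, one_pow, mul_one]

variable (K)

theorem isFrac_evInv : IsFrac (evInv K) := by
  set e := algebraMap K[X] (FractionRing K[X]) with he
  have hC : ∀ c, evInv K (C c) = e (C c) := evInv_C K
  have hX := ev_mul_evInv K
  have hX0 : e X ≠ 0 := left_ne_zero_of_mul (hX.trans_ne one_ne_zero)
  have rev : ∀ p, evInv K p * e X ^ p.natDegree = e p.reverse := fun p =>
    (ev_reverse (evInv K) e (fun c => (hC c).symm) (by rw [mul_comm]; exact hX) p).symm
  refine ⟨(injective_iff_map_eq_zero _).2 fun p hp => ?_, fun x => ?_⟩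
  · have h0 : e p.reverse = 0 := by rw [← rev, hp, zero_mul]
    exact reverse_eq_zero.1 ((map_eq_zero_iff e (IsFractionRing.injective _ _)).1 h0)
  · obtain ⟨a, b, hb, hx⟩ := (isFrac_ev K).2 x
    refine ⟨a.reverse * X ^ b.natDegree, b.reverse * X ^ a.natDegree,
      mul_ne_zero (fun h => hb (reverse_eq_zero.1 h)) (pow_ne_zero _ X_ne_zero), ?_⟩
    rw [map_mul, map_mul, map_pow, map_pow, ev_reverse e (evInv K) hC hX, ev_reverse e (evInv K) hC hX, ← hx]
    ring

variable {K} {k : Type u} [Field k] [Algebra k K]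

theorem algebraMap_eq_ev (c : k) :
    algebraMap k (FractionRing K[X]) c = algebraMap K[X] (FractionRing K[X]) (C (algebraMap k K c)) := by
  rw [IsScalarTower.algebraMap_apply k K[X] (FractionRing K[X])]
  rfl

/-- The derivative with respect to `t` on rational functions, and derivations applied to coefficients. -/
theorem exists_ders (k K : Type u) [Field k] [Field K] [Algebra k K] :
    ∃ (P : Derivation k (FractionRing K[X]) (FractionRing K[X]))
      (T : Derivation k K K → Derivation k (FractionRing K[X]) (FractionRing K[X])),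
      (∀ c, P (algebraMap K[X] _ (C c)) = 0) ∧ P (algebraMap K[X] _ X) = 1 ∧
      (∀ d c, T d (algebraMap K[X] _ (C c)) = algebraMap K[X] _ (C (d c))) ∧
      ∀ d, T d (algebraMap K[X] _ X) = 0 := by
  let ι := Algebra.linearMap K[X] (FractionRing K[X])
  obtain ⟨P, hP⟩ := exists_extend (nonZeroDivisors K[X])
    (ι.compDer ((derivative' (R := K)).restrictScalars k))
  have h : ∀ d : Derivation k K K, ∃ T : Derivation k (FractionRing K[X]) (FractionRing K[X]),
      ∀ p, T (algebraMap K[X] _ p) = ι ((PolynomialModule.equivPolynomialSelf.compDer d.mapCoeffs) p) :=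
    fun d => exists_extend (nonZeroDivisors K[X]) (ι.compDer (PolynomialModule.equivPolynomialSelf.compDer d.mapCoeffs))
  choose T hT using h
  refine ⟨P, T, fun c => ?_, ?_, fun d c => ?_, fun d => ?_⟩
  · rw [hP]
    show algebraMap K[X] _ (derivative (C c)) = 0
    simp
  · rw [hP]
    show algebraMap K[X] _ (derivative X) = 1
    simp
  · rw [hT]
    show ι (PolynomialModule.equivPolynomialSelf (d.mapCoeffs (C c))) = ι (C (d c))
    refine congrArg ι (Polynomial.ext fun n => ?_)
    show (d.mapCoeffs (C c)).coeff n = _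
    rw [Derivation.mapCoeffs_apply, coeff_C, coeff_C]
    split_ifs <;> simp
  · rw [hT]
    show ι (PolynomialModule.equivPolynomialSelf (d.mapCoeffs X)) = 0
    rw [Derivation.mapCoeffs_X, map_zero, map_zero]

variable {X : Scheme.{u}} {f : X ⟶ Spec (CommRingCat.of k)} [QuasiSeparated f] [UniversallyClosed f] {i : ℕ}
  {L : X.Modules} (hL : ExtPow.IsExtPow i (Omega.sheaf f) L) {m : ℕ} (s : Γ(CohB1.tensorPow L m, ⊤))

/-- Values at the rational points of a line are constant. -/
theorem val_eq_of_line (V : (Spec (CommRingCat.of K[X])).Opens) (h : (V : Scheme.{u}) ⟶ X)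
    (hh : h ≫ f = V.ι ≫ Spec.map (CommRingCat.ofHom (algebraMap k K[X])))
    (α β : K) (a b : Spec (CommRingCat.of K) ⟶ (V : Scheme.{u}))
    (ha : a ≫ V.ι = Spec.map (CommRingCat.ofHom (evalRingHom α)))
    (hb : b ≫ V.ι = Spec.map (CommRingCat.ofHom (evalRingHom β)))
    (d : Fin m × Fin i → Derivation k K K) (hA : IsPt f (a ≫ h)) (hB : IsPt f (b ≫ h)) :
    val hL s (a ≫ h) hA d = val hL s (b ≫ h) hB d := by
  classical
  let F := FractionRing K[X]
  let e : K[X] →+* F := algebraMap K[X] F
  have hfr : IsFrac e := isFrac_ev K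
  let g : Spec (CommRingCat.of F) ⟶ Spec (CommRingCat.of K[X]) := Spec.map (CommRingCat.ofHom e)
  have hne : (V : Set (Spec (CommRingCat.of K[X]))).Nonempty :=
    ⟨V.ι (a (closedPoint K)), (a (closedPoint K)).2⟩
  have hgV : Set.range g ⊆ Set.range V.ι := by
    rintro _ ⟨q, rfl⟩
    rw [Scheme.Opens.range_ι]
    obtain ⟨z, hz⟩ := hne
    haveI := (q : PrimeSpectrum F).isPrime
    have h0 : (q : PrimeSpectrum F).asIdeal = ⊥ :=
      (Ideal.eq_bot_or_top (q : PrimeSpectrum F).asIdeal).resolve_right ‹Ideal.IsPrime _›.ne_top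
    have hq : (show PrimeSpectrum K[X] from g q) = (⊥ : PrimeSpectrum K[X]) := PrimeSpectrum.ext (by
      show Ideal.comap e (q : PrimeSpectrum F).asIdeal = (⊥ : Ideal K[X])
      rw [h0]
      exact (RingHom.injective_iff_ker_eq_bot e).1 hfr.1)
    have hs : (⊥ : PrimeSpectrum K[X]) ⤳ (z : PrimeSpectrum K[X]) := (PrimeSpectrum.le_iff_specializes _ _).1 bot_le
    rw [← hq] at hs
    exact hs.mem_open V.2 hz
  let η : Spec (CommRingCat.of F) ⟶ X := IsOpenImmersion.lift V.ι g hgV ≫ h
  have hη : IsPt f η := by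
    show (_ ≫ h) ≫ f = _
    rw [Category.assoc, hh, IsOpenImmersion.lift_fac_assoc, ← Spec.map_comp]
    congr 1
  obtain ⟨P, T, hPC, hPX, hTC, hTX⟩ := exists_ders k K
  let W := valM hL s η hη
  let D0 : Fin m × Fin i → Derivation k F F := fun t => T (d t)
  let DS : Finset (Fin m × Fin i) → Fin m × Fin i → Derivation k F F := fun S => S.piecewise (fun _ => P) D0
  -- values on products of `∂/∂t` and coefficientwise derivations are polynomials
  have hk : ∀ (P' : Ideal K[X]) [P'.IsPrime], ∀ c : k, algebraMap k F c ∈ loc hfr P' := fun P' _ c => by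
    rw [algebraMap_eq_ev]; exact ev_mem_loc hfr P' _
  have hpoly : ∀ S, ∃ p, e p = W (DS S) := by
    intro S
    refine exists_poly_of_forall_mem hfr fun P' _ _ => val_mem hL s _ (hk P') η hη _ fun t y hy => ?_
    refine der_mem_loc hfr P' _ (fun c => ?_) ?_ hy <;> by_cases ht : t ∈ S <;>
      simp only [DS, Finset.piecewise_eq_of_mem _ _ _, Finset.piecewise_eq_of_notMem _ _ _, ht, not_false_eq_true, D0]
    · rw [hPC]; exact zero_mem _
    · rw [hTC]; exact ev_mem_loc hfr P' _
    · rw [hPX]; exact one_mem _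
    · rw [hTX]; exact zero_mem _
  choose p hp using hpoly
  -- regularity at infinity
  have hinf : ∀ S, p S = 0 ∨ (2 * S.card = 0 ∧ (p S).natDegree = 0) := by
    intro S
    refine eq_zero_or_const_of_mem_infty (ev := e) (isFrac_evInv K) (evInv_C K) (ev_mul_evInv K) (p S) _ ?_
    let c : Fin m × Fin i → F := fun _ => e Polynomial.X ^ 2
    have hsm : W (S.piecewise (fun t => c t • DS S t) (DS S)) = e Polynomial.X ^ (2 * S.card) * W (DS S) := by
      rw [MultilinearMap.map_piecewise_smul, smul_eq_mul, Finset.prod_const, ← pow_mul]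
    have hmem : W (S.piecewise (fun t => c t • DS S t) (DS S)) ∈ loc (isFrac_evInv K) (ptIdeal (0 : K)) := by
      refine val_mem hL s _ (fun c' => ?_) η hη _ fun t y hy => ?_
      · rw [algebraMap_eq_ev, ← evInv_C]; exact ev_mem_loc _ _ _
      have hX0 : e Polynomial.X ≠ 0 := left_ne_zero_of_mul ((ev_mul_evInv K).trans_ne one_ne_zero)
      refine der_mem_loc (isFrac_evInv K) _ _ (fun c' => ?_) ?_ hy <;> by_cases ht : t ∈ S <;>
        simp only [DS, Finset.piecewise_eq_of_mem _ _ _, Finset.piecewise_eq_of_notMem _ _ _, ht, not_false_eq_true,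
          D0, c, Derivation.smul_apply, smul_eq_mul]
      · rw [evInv_C, hPC, mul_zero]; exact zero_mem _
      · rw [evInv_C, hTC, ← evInv_C]; exact ev_mem_loc _ _ _
      · rw [evInv_X, Derivation.leibniz_inv, hPX, smul_eq_mul, mul_one]
        have : e Polynomial.X ^ 2 * -(e Polynomial.X)⁻¹ ^ 2 = -1 := by
          rw [mul_neg, ← mul_pow, mul_inv_cancel₀ hX0, one_pow]
        rw [this]
        exact neg_mem (one_mem _)
      · rw [evInv_X, Derivation.leibniz_inv, hTX, smul_zero]; exact zero_mem _
    rw [hsm, ← hp, mul_comm] at hmem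
    exact hmem
  have hzero : ∀ S : Finset (Fin m × Fin i), S.Nonempty → W (DS S) = 0 := by
    intro S hS
    rcases hinf S with h0 | ⟨h0, -⟩
    · rw [← hp, h0, map_zero]
    · have := hS.card_pos; omega
  obtain ⟨c0, hc0⟩ : ∃ c0, p ∅ = C c0 := by
    rcases hinf ∅ with h0 | ⟨-, h0⟩
    · exact ⟨0, by rw [h0, map_zero]⟩
    · exact ⟨_, eq_C_of_natDegree_eq_zero h0⟩
  -- the value at a point
  suffices key : ∀ (γ : K) (c : Spec (CommRingCat.of K) ⟶ (V : Scheme.{u}))
      (_ : c ≫ V.ι = Spec.map (CommRingCat.ofHom (evalRingHom γ))) (hC : IsPt f (c ≫ h)),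
      val hL s (c ≫ h) hC d = c0 by
    rw [key α a ha hA, key β b hb hB]
  intro γ c hc hC
  let A := loc hfr (ptIdeal γ)
  letI : Algebra k ↥A := ((algebraMap k F).codRestrict A (hk (ptIdeal γ))).toAlgebra
  obtain ⟨r, hr⟩ := exists_res hfr γ
  let ρ : K[X] →+* ↥A := e.codRestrict A (ev_mem_loc hfr _)
  have hrρ : r.comp ρ = evalRingHom γ := RingHom.ext fun q => res_ev hfr γ hr q
  let D : Fin m × Fin i → Derivation k F F := fun t => e (C (d t γ)) • P + D0 t
  have hDC : ∀ t c', D t (e (C c')) = e (C (d t c')) := fun t c' => by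
    show e (C (d t γ)) * P (e (C c')) + T (d t) (e (C c')) = _
    rw [hPC, hTC, mul_zero, zero_add]
  have hDX : ∀ t, D t (e Polynomial.X) = e (C (d t γ)) := fun t => by
    show e (C (d t γ)) * P (e Polynomial.X) + T (d t) (e Polynomial.X) = _
    rw [hPX, hTX, mul_one, add_zero]
  have hDm : ∀ t, ∀ y ∈ A, D t y ∈ A := fun t y hy =>
    der_mem_loc hfr _ _ (fun c' => by rw [hDC]; exact ev_mem_loc hfr _ _)
      (by rw [hDX]; exact ev_mem_loc hfr _ _) hy
  let DA : Fin m × Fin i → Derivation k ↥A ↥A := fun t =>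
    derLoc hfr (ptIdeal γ) (fun c' => rfl) (D t) (hDm t)
  have hrV : Set.range (Spec.map (CommRingCat.ofHom ρ)) ⊆ Set.range V.ι := by
    rintro _ ⟨q, rfl⟩
    rw [Scheme.Opens.range_ι]
    have hsp : Spec.map (CommRingCat.ofHom ρ) q ⤳ Spec.map (CommRingCat.ofHom ρ) (closedPoint ↥A) :=
      (IsLocalRing.specializes_closedPoint q).map (Spec.map (CommRingCat.ofHom ρ)).continuous
    refine hsp.mem_open V.2 ?_
    have hcl : closedPoint ↥A = Spec.map (CommRingCat.ofHom r) (closedPoint K) := by
      haveI : IsLocalHom r := IsLocalHom.of_surjective r fun y =>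
        ⟨ρ (C y), (RingHom.congr_fun hrρ (C y)).trans (by simp)⟩
      exact (Spec_closedPoint (f := CommRingCat.ofHom r)).symm
    rw [hcl, ← Scheme.Hom.comp_apply, ← Spec.map_comp, ← CommRingCat.ofHom_comp, hrρ, ← hc]
    exact (c (closedPoint K)).2
  let l : Spec (CommRingCat.of ↥A) ⟶ X := IsOpenImmersion.lift V.ι (Spec.map (CommRingCat.ofHom ρ)) hrV ≫ h
  have hl : IsPt f l := by
    show (_ ≫ h) ≫ f = _
    rw [Category.assoc, hh, IsOpenImmersion.lift_fac_assoc, ← Spec.map_comp]
    congr 1
  have e1 : Spec.map (CommRingCat.ofHom r) ≫ l = c ≫ h := by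
    show _ ≫ _ ≫ h = _
    rw [← Category.assoc]
    congr 1
    rw [← cancel_mono V.ι, Category.assoc, IsOpenImmersion.lift_fac, ← Spec.map_comp, ← CommRingCat.ofHom_comp,
      hrρ, hc]
  have e2 : Spec.map (CommRingCat.ofHom A.subtype) ≫ l = η := by
    show _ ≫ _ ≫ h = _ ≫ h
    rw [← Category.assoc]
    congr 1
    rw [← cancel_mono V.ι, Category.assoc, IsOpenImmersion.lift_fac, IsOpenImmersion.lift_fac, ← Spec.map_comp,
      ← CommRingCat.ofHom_comp]
    rfl
  have h1 : val hL s η hη D = A.subtype (val hL s l hl DA) :=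
    val_comp hL s A.subtype l hl η hη e2 DA D fun t y => rfl
  have h2 : val hL s (c ≫ h) hC d = r (val hL s l hl DA) :=
    val_comp hL s r l hl _ hC e1 DA d fun t y =>
      (res_der hfr γ hr (D t) (hDm t) (d t) (hDC t) (hDX t) y).symm
  have h3 : W D = W (DS ∅) := by
    have hD : D = (fun t => e (C (d t γ)) • P) + D0 := rfl
    rw [hD, MultilinearMap.map_add_univ, Finset.sum_eq_single ∅]
    · simp [DS]
    · intro S _ hS
      have : (S.piecewise (fun t => e (C (d t γ)) • P) D0) =
          S.piecewise (fun t => e (C (d t γ)) • DS S t) (DS S) := by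
        funext t
        by_cases ht : t ∈ S <;> simp [DS, ht]
      rw [this, MultilinearMap.map_piecewise_smul, hzero S (Finset.nonempty_iff_ne_empty.2 hS), smul_zero]
    · simp
  have h4 : val hL s l hl DA = ρ (C c0) := Subtype.ext (by
    show A.subtype _ = e (C c0)
    rw [← h1, ← hc0, hp, ← h3]
    rfl)
  rw [h2, h4]
  exact (RingHom.congr_fun hrρ (C c0)).trans (by simp)

end Groth.Agent.AlmostR6
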