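import Groth.Agent.Lib.AlmostR6.Sep
import Groth.Agent.Lib.AlmostR6.Jet
import Mathlib.AlgebraicGeometry.AlgClosed.Basic
import Mathlib.AlgebraicGeometry.FunctionField

/-!
# Rational points, frames and tangent vectors along a morphism
-/

set_option autoImplicit false
set_option backward.isDefEq.respectTransparency false
set_option backward.isDefEq.respectTransparency.types false
set_option linter.style.haveILetI false

universe u

open CategoryTheory AlgebraicGeometry Opposite TopologicalSpace IsLocalRing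

noncomputable section

namespace Groth.Agent.AlmostR6

variable {k : Type u} [Field k]

section Pts

variable {C : Scheme.{u}} {fC : C ⟶ Spec (CommRingCat.of k)}

/-- Evaluation at a rational point. -/
abbrev evalAt (e : Spec (CommRingCat.of k) ⟶ C) {V : C.Opens} (h : e (closedPoint k) ∈ V) : Γ(C, V) →+* k :=
  onOpen (clMap e) h

theorem evalAt_res (e : Spec (CommRingCat.of k) ⟶ C) {U V : C.Opens} (hle : V ≤ U) (h : e (closedPoint k) ∈ V)
    (r : Γ(C, U)) : evalAt e h (C.presheaf.map (homOfLE hle).op r) = evalAt e (hle h) r :=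
  onOpen_res _ hle h r

theorem isPt_comp {X : Scheme.{u}} {f : X ⟶ Spec (CommRingCat.of k)} (g : C ⟶ X) (hg : g ≫ f = fC)
    {e : Spec (CommRingCat.of k) ⟶ C} (he : IsPt fC e) : IsPt f (e ≫ g) := by
  show (e ≫ g) ≫ f = _
  rw [Category.assoc, hg]
  exact he

theorem evalAt_app {X : Scheme.{u}} (g : C ⟶ X) (e : Spec (CommRingCat.of k) ⟶ C) {U : X.Opens}
    (h : (e ≫ g) (closedPoint k) ∈ U) (h' : e (closedPoint k) ∈ g ⁻¹ᵁ U) (r : Γ(X, U)) :
    evalAt (e ≫ g) h r = evalAt e h' (g.app U r) := by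
  show (Scheme.stalkClosedPointTo (R := CommRingCat.of k) (e ≫ g)) (X.presheaf.germ U _ h r) =
    (Scheme.stalkClosedPointTo (R := CommRingCat.of k) e) (C.presheaf.germ (g ⁻¹ᵁ U) _ h' (g.app U r))
  rw [Scheme.stalkClosedPointTo_comp]
  exact congrArg (Scheme.stalkClosedPointTo (R := CommRingCat.of k) e)
    (Scheme.Hom.germ_stalkMap_apply g U (e (closedPoint k)) h' r)

theorem evalAt_algebraMap {e : Spec (CommRingCat.of k) ⟶ C} (he : IsPt fC e) {V : C.Opens}
    (h : e (closedPoint k) ∈ V) (c : k) :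
    evalAt e h (fC.appLE ⊤ V le_top ((Scheme.ΓSpecIso (CommRingCat.of k)).inv c)) = c := by
  refine (onOpen_res (clMap e) (le_top : V ≤ ⊤) h _).trans ?_
  show clMap e (C.presheaf.germ ⊤ _ trivial (fC.appTop ((Scheme.ΓSpecIso (CommRingCat.of k)).inv c))) = c
  rw [clMap_germ e (U := ⊤) trivial, Scheme.Hom.appLE, show homOfLE _ = 𝟙 _ from Subsingleton.elim _ _]
  simp only [op_id, CategoryTheory.Functor.map_id, Category.comp_id]
  have E : (fC.appTop ≫ e.appTop) ≫ (Scheme.ΓSpecIso (CommRingCat.of k)).hom =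
      (Scheme.ΓSpecIso (CommRingCat.of k)).hom ≫ CommRingCat.ofHom (algebraMap k k) := by
    rw [← Scheme.Hom.comp_appTop, show e ≫ fC = _ from he]
    exact Scheme.ΓSpecIso_naturality _
  refine (ConcreteCategory.congr_hom E ((Scheme.ΓSpecIso (CommRingCat.of k)).inv c)).trans ?_
  show algebraMap k k ((Scheme.ΓSpecIso (CommRingCat.of k)).hom ((Scheme.ΓSpecIso (CommRingCat.of k)).inv c)) = c
  rw [Iso.inv_hom_id_apply]
  rfl

variable (fC) in
theorem exists_pt_mem [IsAlgClosed k] [LocallyOfFiniteType fC] {U : C.Opens} (hU : (U : Set C).Nonempty) :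
    ∃ e : Spec (CommRingCat.of k) ⟶ C, IsPt fC e ∧ e (closedPoint k) ∈ U := by
  haveI : JacobsonSpace C := LocallyOfFiniteType.jacobsonSpace fC
  obtain ⟨p, hp, hpc⟩ := nonempty_inter_closedPoints hU U.2.isLocallyClosed
  refine ⟨pointOfClosedPoint fC p hpc, ?_, ?_⟩
  · show _ ≫ fC = Spec.map (CommRingCat.ofHom (algebraMap k k))
    rw [pointOfClosedPoint_comp]
    exact (Spec.map_id _).symm
  · rw [pointOfClosedPoint_apply]
    exact hp

variable (fC) in
/-- Functions on an integral variety are determined by their values at the rational points of an open. -/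
theorem eq_of_evalAt [IsAlgClosed k] [LocallyOfFiniteType fC] [IsIntegral C] {T : C.Opens}
    (hT : (T : Set C).Nonempty) {V : C.Opens} (a b : Γ(C, V))
    (h : ∀ e, IsPt fC e → e (closedPoint k) ∈ T → ∀ hV : e (closedPoint k) ∈ V, evalAt e hV a = evalAt e hV b) :
    a = b := by
  by_contra hab
  have hne : ((C.basicOpen (a - b) : C.Opens) : Set C).Nonempty := by
    rw [Set.nonempty_iff_ne_empty]
    intro he
    exact hab (sub_eq_zero.1 ((basicOpen_eq_bot_iff _).1 (Opens.ext he)))
  obtain ⟨e, he, heT, hed⟩ := exists_pt_mem fC (U := T ⊓ C.basicOpen (a - b))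
    (nonempty_preirreducible_inter T.2 (C.basicOpen (a - b)).2 hT hne)
  have hV : e (closedPoint k) ∈ V := C.basicOpen_le _ hed
  have hu : IsUnit (C.presheaf.germ V _ hV (a - b)) := (C.mem_basicOpen _ _ hV).1 hed
  have h2 : IsUnit (evalAt e hV (a - b)) := hu.map (clMap e)
  refine h2.ne_zero ?_
  rw [map_sub, h e he heT hV, sub_self]

end Pts

variable {X : Scheme.{u}} {f : X ⟶ Spec (CommRingCat.of k)}

/-- Leibniz maps out of a local ring are determined by an affine neighbourhood. -/
theorem leibniz_ext {p : X} {W : X.Opens} (hW : IsAffineOpen W) (hp : p ∈ W) {O : Type u} [CommRing O]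
    (σ : X.presheaf.stalk p →+* O) (E E' : X.presheaf.stalk p →+ O)
    (hE : ∀ a b, E (a * b) = σ a * E b + σ b * E a) (hE' : ∀ a b, E' (a * b) = σ a * E' b + σ b * E' a)
    (h : ∀ r, E (X.presheaf.germ W p hp r) = E' (X.presheaf.germ W p hp r)) : E = E' := by
  letI : Algebra Γ(X, W) (X.presheaf.stalk p) := X.presheaf.algebra_section_stalk ⟨p, hp⟩
  haveI := hW.isLocalization_stalk ⟨p, hp⟩
  refine AddMonoidHom.ext fun a => ?_
  obtain ⟨⟨r, t⟩, ht⟩ := IsLocalization.surj (hW.primeIdealOf ⟨p, hp⟩).asIdeal.primeCompl a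
  have hu : IsUnit (σ (X.presheaf.germ W p hp (t : Γ(X, W)))) :=
    (IsLocalization.map_units (X.presheaf.stalk p) t).map σ
  have e1 := congrArg E ht
  have e2 := congrArg E' ht
  change E (a * X.presheaf.germ W p hp (t : Γ(X, W))) = E (X.presheaf.germ W p hp r) at e1
  change E' (a * X.presheaf.germ W p hp (t : Γ(X, W))) = E' (X.presheaf.germ W p hp r) at e2
  simp only [hE, h] at e1
  rw [hE'] at e2
  exact hu.mul_left_cancel (add_left_cancel (e1.trans e2.symm))

variable [QuasiSeparated f]

/-- Contraction of one-forms with a Leibniz map. -/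
theorem exists_contract {U : X.Opens} (hU : IsAffineOpen U) {O : Type u} [CommRing O] (σ : Γ(X, U) →+* O)
    (δ : Γ(X, U) →+ O) (hδ : ∀ a b, δ (a * b) = σ a * δ b + σ b * δ a)
    (hc : ∀ c : Γ(Spec (CommRingCat.of k), ⊤), δ (f.appLE ⊤ U le_top c) = 0) :
    ∃ l : Γ(Omega.sheaf f, U) →+ O, (∀ r x, l (r • x) = σ r * l x) ∧ ∀ b, l (OmegaSh.dSect f U b) = δ b := by
  have h : U ≤ f ⁻¹ᵁ (⊤ : (Spec (CommRingCat.of k)).Opens) := le_top
  let T := OmAff.toSect f ⊤ U h
  haveI : IsIso T := (ConcreteCategory.isIso_iff_bijective T).2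
    (Omega12.bijective_toSect f hU (isAffineOpen_top _) h)
  letI : Module Γ(X, U) O := Module.compHom O σ
  let d : (ModuleCat.of Γ(X, U) O).Derivation (f.appLE ⊤ U h) :=
    ModuleCat.Derivation.mk (fun b => δ b) (fun a b => map_add δ a b)
      (fun a b => by show δ (a * b) = σ a • δ b + σ b • δ a; exact hδ a b) hc
  refine ⟨(inv T ≫ d.desc).hom.toAddMonoidHom, fun r x => (inv T ≫ d.desc).hom.map_smul r x, fun b => ?_⟩
  show (inv T ≫ d.desc) (OmegaSh.dSect f U b) = _
  rw [← OmAff.toSect_d f ⊤ U h b, ← CategoryTheory.comp_apply, IsIso.hom_inv_id_assoc]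
  exact d.desc_d b

omit [QuasiSeparated f] in
/-- A semilinear map is determined by its values on a basis. -/
theorem semilinear_basis_expand {U : X.Opens} {ι : Type*} [Fintype ι]
    (b : Module.Basis ι Γ(X, U) Γ(Omega.sheaf f, U)) {O : Type u} [CommRing O] (σ : Γ(X, U) →+* O)
    (l : Γ(Omega.sheaf f, U) →+ O) (hl : ∀ r x, l (r • x) = σ r * l x) (x : Γ(Omega.sheaf f, U)) :
    l x = ∑ a, σ (b.coord a x) * l (b a) := by
  conv_lhs => rw [← b.sum_repr x]
  rw [map_sum]
  exact Finset.sum_congr rfl fun a _ => hl _ _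

set_option maxHeartbeats 1000000 in
/-- Derivations of the local rings of a frame. -/
theorem exists_dual_ders {W : X.Opens} (hW : IsAffineOpen W) {ι : Type u}
    (b : Module.Basis ι Γ(X, W) Γ(Omega.sheaf f, W)) {p : X} (hp : p ∈ W) :
    letI := stalkAlgebra f p
    ∃ D : ι → Derivation k (X.presheaf.stalk p) (X.presheaf.stalk p),
      ∀ l r, D l (X.presheaf.germ W p hp r) = X.presheaf.germ W p hp (b.coord l (OmegaSh.dSect f W r)) := by
  letI := stalkAlgebra f p
  letI : Algebra k Γ(X, W) :=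
    ((Scheme.ΓSpecIso (CommRingCat.of k)).inv ≫ f.appLE ⊤ W le_top).hom.toAlgebra
  letI : Algebra Γ(X, W) (X.presheaf.stalk p) := X.presheaf.algebra_section_stalk ⟨p, hp⟩
  haveI := hW.isLocalization_stalk ⟨p, hp⟩
  haveI : IsScalarTower k Γ(X, W) (X.presheaf.stalk p) := IsScalarTower.of_algebraMap_eq fun c =>
    (TopCat.Presheaf.germ_res_apply X.presheaf (homOfLE (le_top : W ≤ ⊤)) p hp
      (f.appTop ((Scheme.ΓSpecIso (CommRingCat.of k)).inv c))).symm
  have hD : ∀ l, ∃ D : Derivation k (X.presheaf.stalk p) (X.presheaf.stalk p),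
      ∀ r, D (X.presheaf.germ W p hp r) = X.presheaf.germ W p hp (b.coord l (OmegaSh.dSect f W r)) := by
    intro l
    let d : Derivation k Γ(X, W) (X.presheaf.stalk p) := Derivation.mk'
      { toFun := fun r => X.presheaf.germ W p hp (b.coord l (OmegaSh.dSect f W r))
        map_add' := fun r r' => by rw [OmegaSh.dSect_add, map_add, map_add]
        map_smul' := fun c r => by
          rw [Algebra.smul_def, Algebra.smul_def, OmegaSh.dSect_mul,
            show OmegaSh.dSect f W (algebraMap k Γ(X, W) c) = 0 from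
              OmAff.dSect_appLE f ⊤ W le_top ((Scheme.ΓSpecIso (CommRingCat.of k)).inv c),
            smul_zero, add_zero, map_smul, smul_eq_mul, map_mul, RingHom.id_apply,
            IsScalarTower.algebraMap_apply k Γ(X, W) (X.presheaf.stalk p) c]
          rfl }
      fun r r' => by
        show X.presheaf.germ W p hp (b.coord l (OmegaSh.dSect f W (r * r'))) = _
        rw [OmegaSh.dSect_mul, map_add, map_smul, map_smul, smul_eq_mul, smul_eq_mul, map_add, map_mul, map_mul]
        rfl
    exact exists_extend (hW.primeIdealOf ⟨p, hp⟩).asIdeal.primeCompl d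
  exact ⟨fun l => (hD l).choose, fun l => (hD l).choose_spec⟩

/-- Every derivation of a local ring is a combination of those of a frame. -/
theorem der_expand {W : X.Opens} (hW : IsAffineOpen W) {ι : Type u} [Fintype ι]
    (b : Module.Basis ι Γ(X, W) Γ(Omega.sheaf f, W)) {p : X} (hp : p ∈ W) :
    letI := stalkAlgebra f p
    ∀ (D : ι → Derivation k (X.presheaf.stalk p) (X.presheaf.stalk p))
      (_ : ∀ l r, D l (X.presheaf.germ W p hp r) = X.presheaf.germ W p hp (b.coord l (OmegaSh.dSect f W r)))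
      (E : Derivation k (X.presheaf.stalk p) (X.presheaf.stalk p)),
      E = ∑ a, lam (isOver_id p) E hW hp (b a) • D a := by
  letI := stalkAlgebra f p
  intro D hD E
  refine Derivation.ext fun z => DFunLike.congr_fun (leibniz_ext hW hp (RingHom.id _) E.toLinearMap.toAddMonoidHom
    (∑ a, lam (isOver_id p) E hW hp (b a) • D a).toLinearMap.toAddMonoidHom (fun a b => ?_) (fun a b => ?_)
    fun r => ?_) z
  · show E (a * b) = _
    rw [Derivation.leibniz]; rfl
  · show (∑ a, lam (isOver_id p) E hW hp _ • D a) (a * b) = _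
    rw [Derivation.leibniz]; rfl
  · show E (X.presheaf.germ W p hp r) = (∑ a, lam (isOver_id p) E hW hp (b a) • D a) (X.presheaf.germ W p hp r)
    rw [show E (X.presheaf.germ W p hp r) = lam (isOver_id p) E hW hp (OmegaSh.dSect f W r) from
        (lam_d (isOver_id p) E hW hp r).symm,
      semilinear_basis_expand b (onOpen (RingHom.id _) hp) _ (lam_smul (isOver_id p) E hW hp),
      ← Derivation.coeFnAddMonoidHom_apply, map_sum, Finset.sum_apply]
    refine Finset.sum_congr rfl fun a _ => ?_
    show _ = lam (isOver_id p) E hW hp (b a) * D a (X.presheaf.germ W p hp r)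
    rw [hD, mul_comm]
    rfl

end Groth.Agent.AlmostR6
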