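import Groth.Agent.Lib.AlmostR6.Val
import Mathlib.AlgebraicGeometry.Morphisms.Smooth
import Mathlib.RingTheory.Smooth.StandardSmoothCotangent
import Mathlib.LinearAlgebra.ExteriorPower.Basis
import Mathlib.RingTheory.Kaehler.Basic

/-!
# Derivations separate tensor forms on a smooth scheme
-/

set_option autoImplicit false
set_option backward.isDefEq.respectTransparency false
set_option backward.isDefEq.respectTransparency.types false
set_option linter.style.haveILetI false

universe u

open CategoryTheory AlgebraicGeometry Opposite TopologicalSpace IsLocalRing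
open scoped TensorProduct

noncomputable section

namespace Groth.Agent.AlmostR6

variable {k : Type u} [Field k] {X : Scheme.{u}} {f : X ⟶ Spec (CommRingCat.of k)} [QuasiSeparated f]

/-- Near a point of a smooth scheme: a basis of one-forms. -/
theorem exists_forms_basis [Smooth f] (p : X) : ∃ (W : X.Opens) (_ : IsAffineOpen W) (_ : p ∈ W) (ι : Type u)
    (_ : Finite ι), Nonempty (Module.Basis ι Γ(X, W) Γ(Omega.sheaf f, W)) := by
  obtain ⟨V, hV, W, hW, hpW, hWV, hss⟩ := Smooth.exists_isStandardSmooth f p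
  obtain rfl : V = ⊤ := by
    refine top_le_iff.1 fun y _ => ?_
    have : y = f p := Subsingleton.elim (α := PrimeSpectrum k) _ _
    exact this ▸ hWV hpW
  letI := (f.appLE ⊤ W hWV).hom.toAlgebra
  haveI : Algebra.IsStandardSmooth Γ(Spec (CommRingCat.of k), ⊤) Γ(X, W) := hss
  haveI : Module.Finite Γ(X, W) (Ω[Γ(X, W)⁄Γ(Spec (CommRingCat.of k), ⊤)]) := inferInstance
  let b := Module.Free.chooseBasis Γ(X, W) (Ω[Γ(X, W)⁄Γ(Spec (CommRingCat.of k), ⊤)])
  let T := OmAff.toSect f ⊤ W hWV
  let e : (Ω[Γ(X, W)⁄Γ(Spec (CommRingCat.of k), ⊤)]) ≃ₗ[Γ(X, W)] Γ(Omega.sheaf f, W) :=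
    LinearEquiv.ofBijective T.hom (Omega12.bijective_toSect f hW (isAffineOpen_top _) hWV)
  exact ⟨W, hW, hpW, _, inferInstance, ⟨b.map e⟩⟩

/-- The restrictions of spanning one-forms span on a smaller affine open. -/
theorem span_mres_eq_top {W : X.Opens} (hW : IsAffineOpen W) {ι : Type u}
    (b : ι → Γ(Omega.sheaf f, W)) (hb : Submodule.span Γ(X, W) (Set.range b) = ⊤) (g : Γ(X, W)) :
    Submodule.span Γ(X, X.basicOpen g) (Set.range fun l => M1.mres (Omega.sheaf f) (X.basicOpen_le g) (b l)) = ⊤ := by
  set V := X.basicOpen g with hVdef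
  set N := Submodule.span Γ(X, V) (Set.range fun l => M1.mres (Omega.sheaf f) (X.basicOpen_le g) (b l))
  have hres : ∀ x, M1.mres (Omega.sheaf f) (X.basicOpen_le g) x ∈ N := by
    intro x
    have hx : x ∈ Submodule.span Γ(X, W) (Set.range b) := by rw [hb]; trivial
    induction hx using Submodule.span_induction with
    | mem y hy => obtain ⟨l, rfl⟩ := hy; exact Submodule.subset_span ⟨l, rfl⟩
    | zero => rw [map_zero]; exact zero_mem _
    | add y z _ _ hy hz => rw [map_add]; exact add_mem hy hz
    | smul r y _ hy => rw [M1.mres_smul]; exact N.smul_mem _ hy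
  let ρ := (X.presheaf.map (homOfLE (X.basicOpen_le g)).op).hom
  have hd0 : ∀ a, OmegaSh.dSect f V (ρ a) ∈ N := fun a => by
    rw [show OmegaSh.dSect f V (ρ a) = M1.mres (Omega.sheaf f) (X.basicOpen_le g) (OmegaSh.dSect f W a) from
      OmegaSh.dSect_map f (X.basicOpen_le g) a]
    exact hres _
  have hd : ∀ a, OmegaSh.dSect f V a ∈ N := by
    intro a
    haveI := hW.isLocalization_basicOpen g
    obtain ⟨⟨c, ⟨_, n, rfl⟩⟩, hc⟩ := IsLocalization.surj (Submonoid.powers g) a
    have hu : IsUnit (ρ (g ^ n)) := IsLocalization.map_units Γ(X, V) (⟨g ^ n, n, rfl⟩ : Submonoid.powers g)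
    have h1 : a * ρ (g ^ n) = ρ c := hc
    have h2 : ρ (g ^ n) • OmegaSh.dSect f V a ∈ N := by
      have := OmegaSh.dSect_mul f V a (ρ (g ^ n))
      rw [h1] at this
      rw [show ρ (g ^ n) • OmegaSh.dSect f V a = OmegaSh.dSect f V (ρ c) - a • OmegaSh.dSect f V (ρ (g ^ n)) from
        by rw [this]; abel]
      exact N.sub_mem (hd0 c) (N.smul_mem _ (hd0 _))
    rwa [N.smul_mem_iff_of_isUnit hu] at h2
  rw [eq_top_iff]
  rintro x -
  obtain ⟨y, rfl⟩ := (Omega12.bijective_toSect f (hW.basicOpen g) (isAffineOpen_top _)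
    (le_top : V ≤ f ⁻¹ᵁ ⊤)).2 x
  letI := (f.appLE ⊤ V le_top).hom.toAlgebra
  have hy : y ∈ Submodule.span Γ(X, V) (Set.range (KaehlerDifferential.D Γ(Spec (CommRingCat.of k), ⊤) Γ(X, V))) := by
    rw [KaehlerDifferential.span_range_derivation]; trivial
  induction hy using Submodule.span_induction with
  | mem z hz =>
    obtain ⟨a, rfl⟩ := hz
    rw [show (OmAff.toSect f ⊤ V le_top) (KaehlerDifferential.D Γ(Spec (CommRingCat.of k), ⊤) Γ(X, V) a) =
      OmegaSh.dSect f V a from OmAff.toSect_d f ⊤ V le_top a]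
    exact hd a
  | zero => rw [map_zero]; exact zero_mem _
  | add y z _ _ hy hz => rw [map_add]; exact add_mem hy hz
  | smul r y _ hy => rw [map_smul]; exact N.smul_mem _ hy

variable {i : ℕ} {L : X.Modules} (hL : ExtPow.IsExtPow i (Omega.sheaf f) L)

set_option maxHeartbeats 1000000 in
/-- A frame of `Ω^i` at a point with dual tuples of derivations. -/
theorem exists_frame [Smooth f] (p : X) :
    letI := stalkAlgebra f p
    ∃ (J : Type u) (_ : Fintype J) (e : J → L.presheaf.stalk p)
      (DS : J → Fin i → Derivation k (X.presheaf.stalk p) (X.presheaf.stalk p)),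
      Submodule.span (X.presheaf.stalk p) (Set.range e) = ⊤ ∧
      (∀ S, L1 hL (isOver_id p) (DS S) (e S) = 1) ∧ ∀ S T, S ≠ T → L1 hL (isOver_id p) (DS S) (e T) = 0 := by
  letI := stalkAlgebra f p
  classical
  obtain ⟨W, hW, hpW, ι, hι, ⟨b⟩⟩ := exists_forms_basis (f := f) p
  haveI := Fintype.ofFinite ι
  letI : LinearOrder ι := LinearOrder.lift' (Fintype.equivFin ι) (Equiv.injective _)
  letI : Algebra k Γ(X, W) :=
    ((Scheme.ΓSpecIso (CommRingCat.of k)).inv ≫ f.appLE ⊤ W le_top).hom.toAlgebra
  letI : Algebra Γ(X, W) (X.presheaf.stalk p) := X.presheaf.algebra_section_stalk ⟨p, hpW⟩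
  haveI := hW.isLocalization_stalk ⟨p, hpW⟩
  haveI : IsScalarTower k Γ(X, W) (X.presheaf.stalk p) := IsScalarTower.of_algebraMap_eq fun c =>
    (TopCat.Presheaf.germ_res_apply X.presheaf (homOfLE (le_top : W ≤ ⊤)) p hpW
      (f.appTop ((Scheme.ΓSpecIso (CommRingCat.of k)).inv c))).symm
  have hD : ∀ l, ∃ D : Derivation k (X.presheaf.stalk p) (X.presheaf.stalk p),
      ∀ r, D (X.presheaf.germ W p hpW r) = X.presheaf.germ W p hpW (b.coord l (OmegaSh.dSect f W r)) := by
    intro l
    let d : Derivation k Γ(X, W) (X.presheaf.stalk p) := Derivation.mk'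
      { toFun := fun r => X.presheaf.germ W p hpW (b.coord l (OmegaSh.dSect f W r))
        map_add' := fun r r' => by rw [OmegaSh.dSect_add, map_add, map_add]
        map_smul' := fun c r => by
          rw [Algebra.smul_def, Algebra.smul_def, OmegaSh.dSect_mul,
            show OmegaSh.dSect f W (algebraMap k Γ(X, W) c) = 0 from
              OmAff.dSect_appLE f ⊤ W le_top ((Scheme.ΓSpecIso (CommRingCat.of k)).inv c),
            smul_zero, add_zero, map_smul, smul_eq_mul, map_mul, RingHom.id_apply,
            IsScalarTower.algebraMap_apply k Γ(X, W) (X.presheaf.stalk p) c]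
          rfl }
      fun r r' => by
        show X.presheaf.germ W p hpW (b.coord l (OmegaSh.dSect f W (r * r'))) = _
        rw [OmegaSh.dSect_mul, map_add, map_smul, map_smul, smul_eq_mul, smul_eq_mul, map_add, map_mul, map_mul]
        rfl
    exact exists_extend (hW.primeIdealOf ⟨p, hpW⟩).asIdeal.primeCompl d
  choose D hD using hD
  have hlam : ∀ l x, lam (isOver_id p) (D l) hW hpW x = X.presheaf.germ W p hpW (b.coord l x) := by
    intro l x
    refine DFunLike.congr_fun (ext_forms hW (onOpen (RingHom.id _) hpW) (lam (isOver_id p) (D l) hW hpW)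
      ((X.presheaf.germ W p hpW).hom.toAddMonoidHom.comp (b.coord l).toAddMonoidHom)
      (fun r x => lam_smul (isOver_id p) _ hW hpW r x) (fun r x => ?_) fun r => ?_) x
    · show X.presheaf.germ W p hpW (b.coord l (r • x)) = _
      rw [map_smul, smul_eq_mul, map_mul]
      rfl
    · rw [lam_d]
      exact hD l r
  let J := Set.powersetCard ι i
  let fam : J → Fin i → ι := fun S => Set.powersetCard.ofFinEmbEquiv.symm S
  let e : J → L.presheaf.stalk p := fun S => L.presheaf.germ W p hpW (wedge hL hW fun a => b (fam S a))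
  let DS : J → Fin i → Derivation k (X.presheaf.stalk p) (X.presheaf.stalk p) := fun S a => D (fam S a)
  have hpair : ∀ S T, L1 hL (isOver_id p) (DS S) (e T) =
      X.presheaf.germ W p hpW (exteriorPower.ιMultiDual Γ(X, W) i b S
        (exteriorPower.ιMulti_family Γ(X, W) i b T)) := by
    intro S T
    show L1 hL (isOver_id p) (DS S) (L.presheaf.germ W p hpW _) = _
    rw [L1_germ hL (isOver_id p) _ hW hpW, lamExt_wedge, exteriorPower.ιMulti_family,
      exteriorPower.ιMultiDual_apply_ιMulti]
    erw [RingHom.map_det]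
    congr 1
    ext a a'
    exact hlam _ _
  refine ⟨J, Fintype.ofFinite J, e, DS, ?_, fun S => ?_, fun S T hST => ?_⟩
  · rw [eq_top_iff]
    rintro a -
    obtain ⟨U, hU, hpU, z, rfl⟩ := exists_affine_germ L a
    obtain ⟨g, hgU, hpg⟩ := hW.exists_basicOpen_le (V := U) ⟨p, hpU⟩ hpW
    have hV : IsAffineOpen (X.basicOpen g) := hW.basicOpen g
    have key : ∀ w : ↥(⋀[Γ(X, X.basicOpen g)]^i Γ(Omega.sheaf f, X.basicOpen g)),
        L.presheaf.germ (X.basicOpen g) p hpg ((hL.choose ⟨X.basicOpen g, hV⟩).symm w) ∈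
          Submodule.span (X.presheaf.stalk p) (Set.range e) := by
      intro w
      have hw : w ∈ Submodule.span Γ(X, X.basicOpen g) (Set.range (exteriorPower.ιMulti_family Γ(X, X.basicOpen g) i
          fun l => M1.mres (Omega.sheaf f) (X.basicOpen_le g) (b l))) := by
        rw [exteriorPower.ιMulti_family_span_of_span _ (span_mres_eq_top hW b b.span_eq g)]
        trivial
      induction hw using Submodule.span_induction with
      | mem y hy =>
        obtain ⟨S, rfl⟩ := hy
        refine Submodule.subset_span ⟨S, ?_⟩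
        show L.presheaf.germ W p hpW _ = L.presheaf.germ (X.basicOpen g) p hpg (wedge hL hV fun a =>
          M1.mres (Omega.sheaf f) (X.basicOpen_le g) (b (fam S a)))
        rw [← mres_wedge hL hW hV, M1.germ_mres]
      | zero => rw [map_zero, map_zero]; exact zero_mem _
      | add y z _ _ hy hz => rw [map_add, map_add]; exact add_mem hy hz
      | smul r y _ hy => rw [map_smul]; erw [M1.germ_smul]; exact Submodule.smul_mem _ _ hy
    rw [← M1.germ_mres L hgU hpg z, ← (hL.choose ⟨X.basicOpen g, hV⟩).symm_apply_apply (M1.mres L hgU z)]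
    exact key _
  · rw [hpair, exteriorPower.ιMultiDual_apply_diag, map_one]
  · rw [hpair, exteriorPower.ιMultiDual_apply_nondiag _ _ _ _ _ hST, map_zero]

/-- Derivations of the local ring separate tensor forms. -/
theorem eq_zero_of_Lam [Smooth f] (p : X) :
    letI := stalkAlgebra f p
    ∀ (n : ℕ) (z : (CohB1.tensorPow L n).presheaf.stalk p),
      (∀ D, Lam hL (isOver_id p) n D z = 0) → z = 0 := by
  letI := stalkAlgebra f p
  classical
  obtain ⟨J, hJ, e, DS, hspan, hone, hzero⟩ := exists_frame hL p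
  intro n
  induction n with
  | zero =>
    intro z hz
    have := hz fun x => x.1.elim0
    rw [Lam_zero] at this
    exact (RH26.str p).symm.map_eq_zero_iff.1 this
  | succ n ih =>
    intro z hz
    have hdec : ∀ z : (CohB1.tensorPow L (n + 1)).presheaf.stalk p,
        ∃ a : J → (CohB1.tensorPow L n).presheaf.stalk p, z = ∑ S, pure n (a S) (e S) := by
      refine pow_induction n ⟨0, ?_⟩ ?_ (fun a b => ?_)
      · simp [pure]
      · rintro x y ⟨a, ha⟩ ⟨b, hb⟩
        refine ⟨a + b, ?_⟩
        rw [ha, hb, ← Finset.sum_add_distrib]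
        refine Finset.sum_congr rfl fun S _ => ?_
        exact ((M2.stalkEquiv (CohB1.tensorPow L n) L p).symm.map_add _ _).symm.trans
          (congrArg _ (TensorProduct.add_tmul _ _ _).symm)
      · obtain ⟨c, hc⟩ := (Submodule.mem_span_range_iff_exists_fun _).1 (show b ∈ _ from hspan ▸ Submodule.mem_top)
        refine ⟨fun S => c S • a, ?_⟩
        refine (congrArg _ (show a ⊗ₜ[X.presheaf.stalk p] b = ∑ S, (c S • a) ⊗ₜ[X.presheaf.stalk p] e S from ?_)).trans
          (map_sum (M2.stalkEquiv (CohB1.tensorPow L n) L p).symm _ _)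
        simp only [TensorProduct.smul_tmul, ← TensorProduct.tmul_sum, hc]
    obtain ⟨a, rfl⟩ := hdec z
    refine Finset.sum_eq_zero fun S _ => ?_
    rw [show a S = 0 from ih _ fun D' => ?_, pure, TensorProduct.zero_tmul, map_zero]
    let D : Fin (n + 1) × Fin i → Derivation k (X.presheaf.stalk p) (X.presheaf.stalk p) :=
      fun x => Fin.lastCases (DS S x.2) (fun j => D' (j, x.2)) x.1
    have hi : initD D = D' := funext fun x => by simp [D, initD]
    have hl : lastD D = DS S := funext fun x => by simp [D, lastD]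
    have h := hz D
    simp only [map_sum, Lam_pure, hi, hl] at h
    rwa [Finset.sum_eq_single S (fun T _ hT => by rw [hzero S T (Ne.symm hT), mul_zero]) (by simp), hone, mul_one] at h

end Groth.Agent.AlmostR6
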