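import Groth.Agent.Lib.AlmostR6.Line
import Groth.Agent.Lib.AlmostR6.Sep
import Groth.Agent.Lib.REq15.Line
import Groth.Prelude.Def_W4c5nonratstablectREq
import Mathlib.AlgebraicGeometry.FunctionField

/-!
# Tensor forms on almost R-trivial smooth proper varieties vanish
-/

set_option autoImplicit false
set_option backward.isDefEq.respectTransparency false
set_option backward.isDefEq.respectTransparency.types false
set_option linter.style.haveILetI false

universe u

open CategoryTheory Limits AlgebraicGeometry Opposite TopologicalSpace IsLocalRing Polynomial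

noncomputable section

namespace Groth.Agent.AlmostR6

/-- The affine lines covering the projective line. -/
theorem exists_line_charts (K : Type u) [Field K] :
    ∃ (c : Fin 2 → (Spec (CommRingCat.of K[X]) ⟶ REq.P1K K)) (_ : ∀ j, IsOpenImmersion (c j)),
      (∀ j, c j ≫ REq.P1K.toSpec K = Spec.map (CommRingCat.ofHom Polynomial.C)) ∧
      ∀ x, ∃ j, x ∈ Set.range (c j) := by
  have hrev : ∀ i j : Fin (1 + 1), j ≠ i ↔ j = i.rev := by decide
  letI uq : ∀ i : Fin (1 + 1), Unique {j : Fin (1 + 1) // j ≠ i} := fun i =>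
    { default := ⟨i.rev, (hrev i i.rev).2 rfl⟩
      uniq := fun j => Subtype.ext ((hrev i j.1).1 j.2) }
  let φ : ∀ i : Fin (1 + 1), MvPolynomial {j : Fin (1 + 1) // j ≠ i} K ≃+* K[X] := fun i =>
    (MvPolynomial.uniqueAlgEquiv K {j : Fin (1 + 1) // j ≠ i}).toRingEquiv
  haveI hiso : ∀ i, IsIso (CommRingCat.ofHom (φ i).toRingHom) := fun i =>
    (ConcreteCategory.isIso_iff_bijective _).2 (φ i).bijective
  refine ⟨fun i => Spec.map (CommRingCat.ofHom (φ i).toRingHom) ≫
    ProjSpace.chart 1 K i ≫ (ProjSpace.overSpecIso 1 K).hom, fun i => inferInstance, fun i => ?_, fun x => ?_⟩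
  · rw [Category.assoc, Category.assoc, REq.P1K.toSpec, ProjSpace.overSpecIso_hom_toBase,
      ProjSpace.chart_toSpec, ← Spec.map_comp, ← CommRingCat.ofHom_comp]
    congr 2
    ext r
    simp [φ]
  · obtain ⟨z, rfl⟩ := (ProjSpace.overSpecIso 1 K).hom.surjective x
    obtain ⟨i, w, rfl⟩ := ProjSpace.exists_mem_chart 1 K z
    obtain ⟨w', rfl⟩ := (Spec.map (CommRingCat.ofHom (φ i).toRingHom)).surjective w
    exact ⟨i, w', rfl⟩

variable {k : Type u} [Field k] {X : Scheme.{u}} {f : X ⟶ Spec (CommRingCat.of k)} [QuasiSeparated f]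
  {i : ℕ} {L : X.Modules} (hL : ExtPow.IsExtPow i (Omega.sheaf f) L) {m : ℕ} (s : Γ(CohB1.tensorPow L m, ⊤))

/-- Directly linked points have the same values. -/
theorem val_eq_of_elemLink [UniversallyClosed f] [Infinite k] (K : Type u) [Field K] [Algebra k K]
    (A B : REq.Pts f K) (hAB : REq.ElemLink f K A B) (d : Fin m × Fin i → Derivation k K K) :
    val hL s A.1 A.2 d = val hL s B.1 B.2 d := by
  obtain ⟨A, hA⟩ := A
  obtain ⟨B, hB⟩ := B
  obtain ⟨U, h, a, b, hh, ha, hb, haA, hbB⟩ := hAB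
  simp only at haA hbB ⊢
  subst haA hbB
  obtain ⟨c, hc, hcK, hcov⟩ := exists_line_charts K
  haveI : Infinite K := Infinite.of_injective _ (algebraMap k K).injective
  haveI : IsIntegral (REq.P1K K) := Groth.Agent.REq15.isIntegral_P1_spec K
  -- a rational point in a chart is an evaluation
  have hpt : ∀ (j : Fin 2) (e : Spec (CommRingCat.of K) ⟶ (U : Scheme.{u})),
      e ≫ U.ι ≫ REq.P1K.toSpec K = 𝟙 _ → U.ι (e (closedPoint K)) ∈ Set.range (c j) →
      ∃ (α : K) (e' : Spec (CommRingCat.of K) ⟶ ((c j ⁻¹ᵁ U : (Spec (CommRingCat.of K[X])).Opens) : Scheme.{u})),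
        e' ≫ (c j ⁻¹ᵁ U).ι = Spec.map (CommRingCat.ofHom (evalRingHom α)) ∧ e' ≫ (c j ∣_ U) = e := by
    intro j e he hej
    haveI := hc j
    have hrange : Set.range (e ≫ U.ι) ⊆ Set.range (c j) := by
      rintro _ ⟨q, rfl⟩
      rw [show q = closedPoint K from Subsingleton.elim (α := PrimeSpectrum K) _ _]
      exact hej
    let l := IsOpenImmersion.lift (c j) (e ≫ U.ι) hrange
    have hl : l ≫ c j = e ≫ U.ι := IsOpenImmersion.lift_fac _ _ _
    let ψ := Spec.preimage l
    have hψ : Spec.map ψ = l := Spec.map_preimage _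
    have hψC : ψ.hom.comp Polynomial.C = RingHom.id K := by
      have := Spec.map_injective (a₁ := CommRingCat.ofHom Polynomial.C ≫ ψ) (a₂ := 𝟙 _) (by
        rw [Spec.map_comp, hψ, Spec.map_id, ← hcK j, reassoc_of% hl]
        exact he)
      exact congrArg CommRingCat.Hom.hom this
    have hψe : ψ.hom = evalRingHom (ψ Polynomial.X) :=
      Polynomial.ringHom_ext (fun r => by rw [coe_evalRingHom, eval_C]; exact RingHom.congr_fun hψC r)
        (by simp)
    have hrl : Set.range l ⊆ Set.range (c j ⁻¹ᵁ U).ι := by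
      rintro _ ⟨q, rfl⟩
      rw [Scheme.Opens.range_ι]
      show c j (l q) ∈ U
      rw [← Scheme.Hom.comp_apply, hl]
      exact (e q).2
    refine ⟨ψ Polynomial.X, IsOpenImmersion.lift (c j ⁻¹ᵁ U).ι l hrl, ?_, ?_⟩
    · rw [IsOpenImmersion.lift_fac, ← hψ, ← hψe]
      rfl
    · rw [← cancel_mono U.ι, Category.assoc, morphismRestrict_ι, IsOpenImmersion.lift_fac_assoc, hl]
  -- two points in one chart
  have hchart : ∀ (j : Fin 2) (e₁ e₂ : Spec (CommRingCat.of K) ⟶ (U : Scheme.{u}))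
      (_ : e₁ ≫ U.ι ≫ REq.P1K.toSpec K = 𝟙 _) (_ : e₂ ≫ U.ι ≫ REq.P1K.toSpec K = 𝟙 _)
      (_ : U.ι (e₁ (closedPoint K)) ∈ Set.range (c j)) (_ : U.ι (e₂ (closedPoint K)) ∈ Set.range (c j))
      (h1 : IsPt f (e₁ ≫ h)) (h2 : IsPt f (e₂ ≫ h)), val hL s (e₁ ≫ h) h1 d = val hL s (e₂ ≫ h) h2 d := by
    intro j e₁ e₂ he₁ he₂ hj₁ hj₂ h1 h2
    obtain ⟨α, e₁', hα, rfl⟩ := hpt j e₁ he₁ hj₁
    obtain ⟨β, e₂', hβ, rfl⟩ := hpt j e₂ he₂ hj₂
    have hh' : ((c j ∣_ U) ≫ h) ≫ f = (c j ⁻¹ᵁ U).ι ≫ Spec.map (CommRingCat.ofHom (algebraMap k K[X])) := by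
      rw [Category.assoc, hh, morphismRestrict_ι_assoc, reassoc_of% (hcK j), ← Spec.map_comp,
        ← CommRingCat.ofHom_comp]
      rfl
    have h1' : IsPt f (e₁' ≫ (c j ∣_ U) ≫ h) := by rw [← Category.assoc]; exact h1
    have h2' : IsPt f (e₂' ≫ (c j ∣_ U) ≫ h) := by rw [← Category.assoc]; exact h2
    have := val_eq_of_line hL s _ ((c j ∣_ U) ≫ h) hh' α β e₁' e₂' hα hβ d h1' h2'
    simpa only [Category.assoc] using this
  obtain ⟨ja, hja⟩ := hcov (U.ι (a (closedPoint K)))
  obtain ⟨jb, hjb⟩ := hcov (U.ι (b (closedPoint K)))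
  haveI := hc ja
  haveI := hc jb
  -- a rational point in both charts
  obtain ⟨z, hzU, hzj⟩ : ((U : Set (REq.P1K K)) ∩ ((c ja).opensRange ⊓ (c jb).opensRange : (REq.P1K K).Opens)).Nonempty := by
    refine nonempty_preirreducible_inter U.2 (Opens.is_open' _) ⟨_, (a (closedPoint K)).2⟩ ?_
    exact nonempty_preirreducible_inter (Opens.is_open' _) (Opens.is_open' _) ⟨_, hja⟩ ⟨_, hjb⟩
  obtain ⟨w, rfl⟩ := hzj.1
  obtain ⟨_, ⟨r, rfl⟩, hwr, hrW⟩ := PrimeSpectrum.isTopologicalBasis_basic_opens.exists_subset_of_mem_open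
    (a := w) (u := (c ja ⁻¹ᵁ U ⊓ c ja ⁻¹ᵁ (c jb).opensRange).1) ⟨hzU, hzj.2⟩ (Opens.is_open' _)
  have hr0 : r ≠ 0 := by
    rintro rfl
    simp at hwr
  obtain ⟨γ, hγ⟩ : ∃ γ : K, r.eval γ ≠ 0 := by
    by_contra hcon
    push Not at hcon
    exact hr0 (Polynomial.funext fun γ => by simpa using hcon γ)
  let e₀ : Spec (CommRingCat.of K) ⟶ Spec (CommRingCat.of K[X]) := Spec.map (CommRingCat.ofHom (evalRingHom γ))
  have hmem : ∀ q, e₀ q ∈ (c ja ⁻¹ᵁ U ⊓ c ja ⁻¹ᵁ (c jb).opensRange : (Spec (CommRingCat.of K[X])).Opens) := by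
    intro q
    refine hrW ?_
    intro hmem
    have : r.eval γ ∈ (q : PrimeSpectrum K).asIdeal := hmem
    exact (q : PrimeSpectrum K).isPrime.ne_top
      (Ideal.eq_top_of_isUnit_mem _ this (isUnit_iff_ne_zero.2 hγ))
  have hrange : Set.range (e₀ ≫ c ja) ⊆ Set.range U.ι := by
    rintro _ ⟨q, rfl⟩
    rw [Scheme.Opens.range_ι]
    exact (hmem q).1
  let e : Spec (CommRingCat.of K) ⟶ (U : Scheme.{u}) := IsOpenImmersion.lift U.ι (e₀ ≫ c ja) hrange
  have heι : e ≫ U.ι = e₀ ≫ c ja := IsOpenImmersion.lift_fac _ _ _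
  have he : e ≫ U.ι ≫ REq.P1K.toSpec K = 𝟙 _ := by
    rw [reassoc_of% heι, hcK, ← Spec.map_comp, ← CommRingCat.ofHom_comp, ← Spec.map_id]
    congr 2
    ext x
    simp
  have hept : IsPt f (e ≫ h) := by
    show (e ≫ h) ≫ f = _
    rw [Category.assoc, hh, reassoc_of% he]
  have hea : U.ι (e (closedPoint K)) = c ja (e₀ (closedPoint K)) := by
    rw [← Scheme.Hom.comp_apply, heι]; rfl
  rw [hchart ja a e ha he hja ⟨_, hea.symm⟩ hA hept,
    hchart jb e b he hb (by rw [hea]; exact (hmem _).2) hjb hept hB]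

variable (f) in
/-- The function field as a field extension of the base. -/
theorem isPt_generic [IsIntegral X] :
    letI := stalkAlgebra f (genericPoint X)
    IsPt (O := X.functionField) f (X.fromSpecStalk (genericPoint X)) :=
  isPt_fromSpecStalk (genericPoint X)

include hL in
theorem eq_zero_of_isAlmostRTrivial [Infinite k] [IsIntegral X] [UniversallyClosed f] [Smooth f]
    (hR : REq.IsAlmostRTrivial f) (hi : 0 < i) (hm : 0 < m) : s = 0 := by
  refine TopCat.Presheaf.section_ext ⟨(CohB1.tensorPow L m).presheaf, (CohB1.tensorPow L m).isSheaf⟩ ⊤ s 0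
    fun p hp => ?_
  refine Eq.trans ?_ (map_zero _).symm
  letI := stalkAlgebra f p
  refine eq_zero_of_Lam hL p m _ fun D => ?_
  obtain ⟨U, hUd, hU⟩ := hR
  letI algK : Algebra k X.functionField := stalkAlgebra f (genericPoint X)
  letI : Algebra k (X.presheaf.stalk p) := stalkAlgebra f p
  have hspec : genericPoint X ⤳ p := (genericPoint_spec X).specializes trivial
  haveI : IsScalarTower k (X.presheaf.stalk p) X.functionField := IsScalarTower.of_algebraMap_eq fun c =>
    (stalkSpecializes_algebraMap (f := f) hspec c).symm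
  -- extend the derivations to the function field
  have hext : ∀ t, ∃ D' : Derivation k X.functionField X.functionField, ∀ a,
      D' (algebraMap (X.presheaf.stalk p) X.functionField a) = algebraMap (X.presheaf.stalk p) X.functionField (D t a) :=
    fun t => exists_extend (nonZeroDivisors (X.presheaf.stalk p))
      ((Algebra.linearMap (X.presheaf.stalk p) X.functionField).compDer (D t))
  choose D' hD' using hext
  -- the generic point and a constant point
  obtain ⟨A₀, hA₀⟩ := (hU k).1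
  let Aη : REq.Pts f X.functionField := ⟨X.fromSpecStalk (genericPoint X), isPt_generic f⟩
  let g : k →+* X.functionField := algebraMap k X.functionField
  let Ac : REq.Pts f X.functionField := ⟨Spec.map (CommRingCat.ofHom g) ≫ A₀.1, by
    rw [Category.assoc, A₀.2, ← Spec.map_comp]; rfl⟩
  have hηU : REq.InOpen f U Aη := by
    rintro _ ⟨q, rfl⟩
    rw [show q = closedPoint X.functionField from Subsingleton.elim (α := PrimeSpectrum X.functionField) _ _]
    show X.fromSpecStalk (genericPoint X) (closedPoint (X.presheaf.stalk (genericPoint X) : Type u)) ∈ (U : Set X)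
    rw [Scheme.fromSpecStalk_closedPoint]
    obtain ⟨y, hy⟩ := hUd.nonempty
    exact ((genericPoint_spec X).specializes trivial : genericPoint X ⤳ y).mem_open U.2 hy
  have hcU : REq.InOpen f U Ac := by
    rintro _ ⟨q, rfl⟩
    exact hA₀ ⟨_, rfl⟩
  have key : val hL s Aη.1 Aη.2 D' = val hL s Ac.1 Ac.2 D' := by
    refine Relation.EqvGen.rec (motive := fun A B _ => val hL s A.1 A.2 D' = val hL s B.1 B.2 D')
      ?_ ?_ ?_ ?_ ((hU X.functionField).2 Aη Ac hηU hcU)
    · exact fun A B hAB => val_eq_of_elemLink hL s X.functionField A B hAB D'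
    · exact fun A => rfl
    · exact fun A B _ h => h.symm
    · exact fun A B C _ _ h h' => h.trans h'
  have hzero : val hL s Ac.1 Ac.2 D' = 0 := by
    rw [val_comp hL s g A₀.1 A₀.2 Ac.1 Ac.2 rfl 0 D' fun t a => by
      show D' t (algebraMap k X.functionField a) = g 0
      rw [Derivation.map_algebraMap, map_zero], val_zero hL s hi hm, map_zero]
  have h1 := val_comp (O := X.presheaf.stalk p) (O' := X.functionField) hL s
    (algebraMap (X.presheaf.stalk p) X.functionField) (X.fromSpecStalk p) (isPt_fromSpecStalk p) Aη.1 Aη.2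
    (Scheme.SpecMap_stalkSpecializes_fromSpecStalk hspec) D D' hD'
  rw [key, hzero] at h1
  rw [← val_fromSpecStalk hL s p D]
  exact (map_eq_zero_iff _ (IsFractionRing.injective (X.presheaf.stalk p) X.functionField)).1 h1.symm

end Groth.Agent.AlmostR6
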