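import Groth.Agent.Lib.AlmostR6.Curve
import Groth.Agent.Lib.P1Split17.Main
import Groth.Agent.Lib.TensorMod.Invertible
import Groth.Agent.Lib.TensorMod.PullStalk
import Groth.Agent.Lib.Twist.GlobalProjSpace
import Groth.Agent.Lib.PicDesc21.Frame

/-!
# Fields along a rational curve from a splitting of the pulled back differentials

`eq_zero_of_split`: a splitting `g^* Ω = ⊕ O(d_a)` with all `d_a ≤ 0` such that every injective word of length
`i` meets a negative degree kills global sections of `(Ω^i)^{⊗ m}`, `m ≥ 1`.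
-/

set_option autoImplicit false
set_option backward.isDefEq.respectTransparency false
set_option backward.isDefEq.respectTransparency.types false
set_option linter.style.haveILetI false

universe u

open CategoryTheory CategoryTheory.Limits AlgebraicGeometry Opposite TopologicalSpace IsLocalRing

noncomputable section

namespace Groth.Agent.AlmostR6

variable {k : Type u} [Field k]

variable (k) in
/-- The structure map of the projective line. -/
abbrev pC : P1Split.P1 k ⟶ Spec (CommRingCat.of k) := CohB1.ProjSpace.toSpec 1 k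

instance isIntegral_P1 : IsIntegral (P1Split.P1 k) := RegExt.isIntegral_projSpace 1 k

variable (k) in
theorem const_P1 (a : Γ(P1Split.P1 k, ⊤)) :
    ∃ c : k, a = (pC k).appTop ((Scheme.ΓSpecIso (CommRingCat.of k)).inv c) :=
  let ⟨c, hc⟩ := (Twist.bijective_toSpec_appTop 1 k).2 a
  ⟨c, hc.symm⟩

variable (k) in
theorem U_zero_ne_top : P1Split.U k 0 ≠ ⊤ := by
  intro htop
  let φ : k →+* Γ(P1Split.P1 k, P1Split.U k 0) :=
    (((P1Split.P1 k).presheaf.map (homOfLE le_top).op).hom.comp (pC k).appTop.hom).comp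
      (Scheme.ΓSpecIso (CommRingCat.of k)).inv.hom
  let e := RingEquiv.ofBijective (P1Split.coordHom k 0) (P1Split.coordHom_bijective k 0)
  have hsurj : Function.Surjective (e.symm.toRingHom.comp φ) := by
    intro p
    obtain ⟨c, hc⟩ := const_P1 k ((P1Split.P1 k).presheaf.map (homOfLE htop.ge).op (e p))
    refine ⟨c, ?_⟩
    show e.symm ((P1Split.P1 k).presheaf.map (homOfLE le_top).op _) = p
    rw [← hc, ← CategoryTheory.comp_apply, ← Functor.map_comp,
      show (homOfLE htop.ge).op ≫ (homOfLE (le_top : P1Split.U k 0 ≤ ⊤)).op = 𝟙 _ from Subsingleton.elim _ _,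
      CategoryTheory.Functor.map_id]
    exact e.symm_apply_apply p
  exact Polynomial.not_isField k
    ((RingEquiv.ofBijective _ ⟨RingHom.injective _, hsurj⟩).symm.toMulEquiv.isField (Field.toIsField k))

theorem mem_U_zero_of_isUnit {x : P1Split.P1 k} (hx : x ∈ P1Split.U k 1)
    (h : IsUnit ((P1Split.P1 k).presheaf.germ _ x hx (P1Split.coordHom k 1 Polynomial.X))) :
    x ∈ P1Split.U k 0 := by
  intro hmem
  have h' := (h.map (Proj.stalkIso' (P1Split.gr k) x).toRingHom).map
    (algebraMap (Twist.A0 (P1Split.gr k) x) (Twist.Loc (P1Split.gr k) x))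
  have h'' : IsUnit (P1Split.valHom k x hx (P1Split.coordHom k 1 Polynomial.X)) := by
    refine (congrArg IsUnit ?_).mp h'
    exact congrArg HomogeneousLocalization.val
      (Proj.stalkIso'_germ (P1Split.gr k) (P1Split.U k 1) x hx (P1Split.coordHom k 1 Polynomial.X))
  have h3 : IsUnit (algebraMap (MvPolynomial (Fin 2) k) (Twist.Loc (P1Split.gr k) x)
      (MvPolynomial.X (P1Split.oth 1).1)) :=
    P1Split.valHom_coordHom_X k 1 x hx ▸ h''.mul (Units.isUnit _)
  exact (IsLocalization.AtPrime.isUnit_to_map_iff (Twist.Loc (P1Split.gr k) x) x.asHomogeneousIdeal.toIdeal _).1 h3 hmem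

instance locallyOfFiniteType_pC : LocallyOfFiniteType (pC k) := by
  have := ProjSpace.smoothOfRelativeDimension_toSpec 1 k
  infer_instance

variable (k) in
/-- The point at infinity. -/
theorem exists_pt_infty [IsAlgClosed k] : ∃ e : Spec (CommRingCat.of k) ⟶ P1Split.P1 k, IsPt (pC k) e ∧
    e (closedPoint k) ∉ P1Split.U k 0 ∧ ∃ h : e (closedPoint k) ∈ P1Split.U k 1,
      evalAt e h (P1Split.coordHom k 1 Polynomial.X) = 0 := by
  haveI : JacobsonSpace (P1Split.P1 k) := LocallyOfFiniteType.jacobsonSpace (pC k)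
  obtain ⟨p, hp, hpc⟩ := nonempty_inter_closedPoints (Z := ((P1Split.U k 0 : Set (P1Split.P1 k)))ᶜ) (by
    rw [Set.nonempty_compl]
    exact fun h => U_zero_ne_top k (Opens.ext h)) (P1Split.U k 0).2.isClosed_compl.isLocallyClosed
  have hp1 : p ∈ P1Split.U k 1 := by
    have : p ∈ (⨆ i, P1Split.U k i) := by rw [P1Split.iSup_U]; trivial
    obtain ⟨i, hi⟩ := Opens.mem_iSup.1 this
    fin_cases i
    · exact absurd hi hp
    · exact hi
  refine ⟨pointOfClosedPoint (pC k) p hpc, ?_, ?_, ?_⟩
  · show _ ≫ pC k = Spec.map (CommRingCat.ofHom (algebraMap k k))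
    rw [pointOfClosedPoint_comp]
    exact (Spec.map_id _).symm
  · rw [pointOfClosedPoint_apply]; exact hp
  have h1 : pointOfClosedPoint (pC k) p hpc (closedPoint k) ∈ P1Split.U k 1 := by
    rw [pointOfClosedPoint_apply]; exact hp1
  refine ⟨h1, ?_⟩
  by_contra hne
  haveI : IsLocalHom (clMap (pointOfClosedPoint (pC k) p hpc)) :=
    inferInstanceAs (IsLocalHom (Scheme.stalkClosedPointTo (R := CommRingCat.of k) _).hom)
  have := mem_U_zero_of_isUnit h1 (isUnit_of_map_unit (clMap (pointOfClosedPoint (pC k) p hpc)) _ (isUnit_iff_ne_zero.2 hne))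
  rw [pointOfClosedPoint_apply] at this
  exact hp this

variable {X : Scheme.{u}} {f : X ⟶ Spec (CommRingCat.of k)} [QuasiSeparated f]

/-- The field of a functional on the pulled back differentials. -/
def fieldOf {C : Scheme.{u}} {g : C ⟶ X}
    (ψ : (Scheme.Modules.pullback g).obj (Omega.sheaf f) ⟶ Coh.structureModule C) : VField f g where
  d W := AddMonoidHom.mk'
    (fun r => OmegaSh.fnSect C (g ⁻¹ᵁ W) (ψ.app (g ⁻¹ᵁ W) (M2.pullSec g (Omega.sheaf f) (OmegaSh.dSect f W r))))
    fun a b => by rw [OmegaSh.dSect_add, M2.pullSec_add, map_add, map_add]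
  leibniz W a b := by
    show OmegaSh.fnSect C (g ⁻¹ᵁ W) (ψ.app _ (M2.pullSec g _ (OmegaSh.dSect f W (a * b)))) = _
    rw [OmegaSh.dSect_mul, M2.pullSec_add, M2.pullSec_smul, M2.pullSec_smul, map_add, Scheme.Modules.Hom.app_smul,
      Scheme.Modules.Hom.app_smul, map_add]
    rfl
  res W W' h a := by
    show OmegaSh.fnSect C (g ⁻¹ᵁ W') (ψ.app _ (M2.pullSec g _ (OmegaSh.dSect f W' _))) = _
    rw [show OmegaSh.dSect f W' (X.presheaf.map (homOfLE h).op a) = M1.mres (Omega.sheaf f) h (OmegaSh.dSect f W a) from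
      OmegaSh.dSect_map f h a, PicDesc21.pullSec_mres, M1.app_mres]
    rfl
  const W c := by
    show OmegaSh.fnSect C (g ⁻¹ᵁ W) (ψ.app _ (M2.pullSec g _ (OmegaSh.dSect f W (f.appLE ⊤ W le_top c)))) = 0
    rw [OmAff.dSect_appLE f ⊤ W le_top c, show M2.pullSec g (Omega.sheaf f) (0 : Γ(Omega.sheaf f, W)) = 0 from map_zero _,
      map_zero, map_zero]

/-- A basis of sections from a basis on all smaller opens. -/
def basisOfIsBas {r : ℕ} {M : X.Modules} {W : X.Opens} {e : Fin r → Γ(M, W)} (he : P1Split.IsBas M W e) :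
    Module.Basis (Fin r) Γ(X, W) Γ(M, W) :=
  Module.Basis.ofEquivFun (LinearEquiv.ofBijective (Fintype.linearCombination Γ(X, W) e) (by
    have h := he W le_rfl
    simp only [M1.mres_id] at h
    exact h)).symm

theorem basisOfIsBas_apply {r : ℕ} {M : X.Modules} {W : X.Opens} {e : Fin r → Γ(M, W)} (he : P1Split.IsBas M W e)
    (l : Fin r) : basisOfIsBas he l = e l := by
  classical
  rw [basisOfIsBas, Module.Basis.coe_ofEquivFun]
  show Fintype.linearCombination Γ(X, W) e (Function.update 0 l 1) = e l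
  rw [← Pi.single, Fintype.linearCombination_apply_single, one_smul]

omit [QuasiSeparated f] in
/-- Germs of pulled back sections of a frame span the stalk of the pullback. -/
theorem span_pullSec_eq_top {C : Scheme.{u}} (g : C ⟶ X) {r : ℕ} {M : X.Modules} {W : X.Opens}
    {e : Fin r → Γ(M, W)} (he : P1Split.IsBas M W e) {y : C} (hy : y ∈ g ⁻¹ᵁ W) :
    Submodule.span (C.presheaf.stalk y) (Set.range fun l =>
      (((Scheme.Modules.pullback g).obj M).presheaf.germ (g ⁻¹ᵁ W) y hy (M2.pullSec g M (e l)) :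
        ((Scheme.Modules.pullback g).obj M).presheaf.stalk y)) = ⊤ := by
  refine top_le_iff.1 fun z htop => ?_
  clear htop
  obtain ⟨t, rfl⟩ := (M2.pullStalkEquiv g y M).surjective z
  induction t using TensorProduct.induction_on with
  | zero => rw [map_zero]; exact zero_mem _
  | add a b ha hb => rw [map_add]; exact add_mem ha hb
  | tmul c a =>
    obtain ⟨w, rfl⟩ := (he.stalk (show g y ∈ W from hy)).2 a
    simp only [TensorProduct.tmul_sum, map_sum, TensorProduct.tmul_smul]
    refine Submodule.sum_mem _ fun l _ => ?_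
    have : c ⊗ₜ[X.presheaf.stalk (g y)] M.presheaf.germ W (g y) hy (e l) =
        c • ((1 : C.presheaf.stalk y) ⊗ₜ[X.presheaf.stalk (g y)] M.presheaf.germ W (g y) hy (e l)) := by
      rw [TensorProduct.smul_tmul', smul_eq_mul, mul_one]
    rw [this, ← algebraMap_smul (C.presheaf.stalk y) (w l), map_smul, map_smul, M2.pullStalkEquiv_tmul]
    exact Submodule.smul_mem _ _ (Submodule.smul_mem _ _ (Submodule.subset_span ⟨l, rfl⟩))

theorem germ_appLE_top {p : X} {W : X.Opens} (hp : p ∈ W) (c : Γ(Spec (CommRingCat.of k), ⊤)) :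
    letI := stalkAlgebra f p
    X.presheaf.germ W p hp (f.appLE ⊤ W le_top c) =
      algebraMap k (X.presheaf.stalk p) ((Scheme.ΓSpecIso (CommRingCat.of k)).hom c) := by
  refine (TopCat.Presheaf.germ_res_apply X.presheaf (homOfLE (le_top : W ≤ ⊤)) p hp (f.app ⊤ c)).trans ?_
  show _ = X.presheaf.germ ⊤ p trivial (f.appTop ((Scheme.ΓSpecIso _).inv ((Scheme.ΓSpecIso _).hom c)))
  rw [Iso.hom_inv_id_apply]
  rfl

/-- Functionals dual to a frame give spanning fields. -/
theorem exists_lam_of_dual {C : Scheme.{u}} {fC : C ⟶ Spec (CommRingCat.of k)} {g : C ⟶ X}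
    (e : Spec (CommRingCat.of k) ⟶ C) (he : IsPt f (e ≫ g)) {r : ℕ}
    (hr : FlatMod.IsFinLocFreeOfRank r (Omega.sheaf f)) {T : C.Opens} (heT : e (closedPoint k) ∈ T)
    (q : Fin r → Γ((Scheme.Modules.pullback g).obj (Omega.sheaf f), T))
    (ψ : Fin r → ((Scheme.Modules.pullback g).obj (Omega.sheaf f) ⟶ Coh.structureModule C))
    (hψq : ∀ a b, OmegaSh.fnSect C T ((ψ b).app T (q a)) = if a = b then 1 else 0) :
    letI := stalkAlgebra f ((e ≫ g) (closedPoint k))
    ∀ v : X.presheaf.stalk ((e ≫ g) (closedPoint k)) →+ k,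
      (∀ a b, v (a * b) = evA e he a * v b + evA e he b * v a) → (∀ c, v (algebraMap k _ c) = 0) →
      ∃ lam₀ : Fin r → k, ∀ (W : X.Opens) (hW : (e ≫ g) (closedPoint k) ∈ W) (a : Γ(X, W)),
        v (X.presheaf.germ W _ hW a) = ∑ l, lam₀ l * pv e hW (fieldOf (ψ l)) a := by
  letI := stalkAlgebra f ((e ≫ g) (closedPoint k))
  intro v hv hvc
  classical
  obtain ⟨D, e₀, hpD, he₀⟩ := P1Split.exists_isBas_nhd hr ((e ≫ g) (closedPoint k))
  obtain ⟨W, hW, hpW, hWD⟩ := exists_isAffineOpen_mem_and_subset (X := X) (x := (e ≫ g) (closedPoint k)) (U := D) hpD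
  have hb : P1Split.IsBas (Omega.sheaf f) W fun l => M1.mres (Omega.sheaf f) hWD (e₀ l) := he₀.mres hWD
  let b := basisOfIsBas hb
  have hbb : P1Split.IsBas (Omega.sheaf f) W b := by
    rwa [show ⇑b = fun l => M1.mres (Omega.sheaf f) hWD (e₀ l) from funext (basisOfIsBas_apply hb)]
  have hx : e (closedPoint k) ∈ g ⁻¹ᵁ W := hpW
  set x := e (closedPoint k) with hxdef
  let E := (Scheme.Modules.pullback g).obj (Omega.sheaf f)
  let M : Matrix (Fin r) (Fin r) k := fun l a =>
    evalAt e hx (OmegaSh.fnSect C (g ⁻¹ᵁ W) ((ψ a).app _ (M2.pullSec g _ (b l))))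
  -- the inverse matrix
  have hcoef : ∀ a, ∃ c : Fin r → k, ∀ a', ∑ l, c l * M l a' = if a = a' then 1 else 0 := by
    intro a
    have hmem : (E.presheaf.germ T x heT (q a) : E.presheaf.stalk x) ∈ Submodule.span (C.presheaf.stalk x)
        (Set.range fun l => (E.presheaf.germ (g ⁻¹ᵁ W) x hx (M2.pullSec g (Omega.sheaf f) (b l)) : E.presheaf.stalk x)) := by
      rw [span_pullSec_eq_top g hbb hx]; trivial
    obtain ⟨c', hc'⟩ := (Submodule.mem_span_range_iff_exists_fun _).1 hmem
    obtain ⟨V, hxV, c, hVle, hc⟩ := P1Split.exists_common_section (W := g ⁻¹ᵁ W ⊓ T) ⟨hx, heT⟩ c'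
    have hVW : V ≤ g ⁻¹ᵁ W := hVle.trans inf_le_left
    have hVT : V ≤ T := hVle.trans inf_le_right
    have heq : E.presheaf.germ V x hxV (∑ l, c l • M1.mres E hVW (M2.pullSec g _ (b l))) =
        E.presheaf.germ V x hxV (M1.mres E hVT (q a)) := by
      rw [P1Split.germ_sum_smul, M1.germ_mres E hVT hxV, ← hc']
      exact Finset.sum_congr rfl fun l _ => by rw [M1.germ_mres E hVW hxV, hc]
    obtain ⟨V', hxV', iU, iV, hV'⟩ := E.presheaf.germ_eq x hxV hxV _ _ heq
    refine ⟨fun l => evalAt e hxV (c l), fun a' => ?_⟩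
    have h1 := congrArg (fun z => evalAt e hxV' (OmegaSh.fnSect C V' ((ψ a').app V' z))) hV'
    have hres : ∀ (i : V' ⟶ V) (z : Γ(E, V)), evalAt e hxV' (OmegaSh.fnSect C V' ((ψ a').app V' (E.presheaf.map i.op z))) =
        evalAt e hxV (OmegaSh.fnSect C V ((ψ a').app V z)) := by
      intro i z
      rw [show i = homOfLE i.le from Subsingleton.elim _ _,
        show (E.presheaf.map (homOfLE i.le).op z) = M1.mres E i.le z from rfl, M1.app_mres]
      exact evalAt_res e i.le hxV' _
    simp only [hres] at h1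
    rw [M1.app_mres, P1Split.app_sum_smul, map_sum, map_sum] at h1
    have h2 : evalAt e hxV (OmegaSh.fnSect C V (M1.mres (Coh.structureModule C) hVT ((ψ a').app T (q a)))) =
        if a = a' then 1 else 0 := by
      refine (evalAt_res e hVT hxV _).trans ?_
      refine (congrArg (evalAt e (hVT hxV)) (hψq a a')).trans ?_
      split <;> simp
    rw [h2] at h1
    rw [← h1]
    refine Finset.sum_congr rfl fun l _ => ?_
    rw [M1.app_mres]
    show _ = evalAt e hxV (c l * C.presheaf.map (homOfLE hVW).op _)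
    rw [map_mul, evalAt_res]
    rfl
  choose Cm hCm using hcoef
  have hCM : Matrix.of Cm * M = 1 := by
    ext a a'
    simp only [Matrix.mul_apply, Matrix.of_apply, Matrix.one_apply]
    exact hCm a a'
  have hMC := mul_eq_one_comm.1 hCM
  -- contraction with `v`
  obtain ⟨con, hsmul, hd⟩ := exists_contract (f := f) hW ((evA e he).toRingHom.comp (X.presheaf.germ W _ hpW).hom)
    (v.comp (X.presheaf.germ W _ hpW).hom.toAddMonoidHom)
    (fun a b => by show v (X.presheaf.germ W _ hpW (a * b)) = _; rw [map_mul, hv]; rfl)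
    (fun c => by
      show v (X.presheaf.germ W _ hpW (f.appLE ⊤ W le_top c)) = 0
      rw [germ_appLE_top, hvc])
  have hfield : ∀ a (y : Γ(X, W)), pv e hpW (fieldOf (ψ a)) y =
      ∑ l, evA e he (X.presheaf.germ W _ hpW (b.coord l (OmegaSh.dSect f W y))) * M l a := by
    intro a y
    exact semilinear_basis_expand b ((evA e he).toRingHom.comp (X.presheaf.germ W _ hpW).hom)
      ((evalAt e hx).toAddMonoidHom.comp ((OmegaSh.fnSect C (g ⁻¹ᵁ W)).comp (((ψ a).app (g ⁻¹ᵁ W)).hom.comp
        (AddMonoidHom.mk' (M2.pullSec g (Omega.sheaf f)) (M2.pullSec_add g _)))))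
      (fun t z => by
        show evalAt e hx (OmegaSh.fnSect C _ ((ψ a).app _ (M2.pullSec g _ (t • z)))) = _
        rw [M2.pullSec_smul, Scheme.Modules.Hom.app_smul]
        show evalAt e hx (g.app W t * _) = _
        rw [map_mul, ← evalAt_app g e hpW hx]
        rfl) (OmegaSh.dSect f W y)
  let lam₀ : Fin r → k := fun a => ∑ l, Cm a l * con (b l)
  have hWeq : ∀ y : Γ(X, W), v (X.presheaf.germ W _ hpW y) = ∑ a, lam₀ a * pv e hpW (fieldOf (ψ a)) y := by
    intro y
    rw [show v (X.presheaf.germ W _ hpW y) = con (OmegaSh.dSect f W y) from (hd y).symm,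
      semilinear_basis_expand b _ con hsmul]
    simp only [hfield, Finset.mul_sum]
    rw [Finset.sum_comm]
    refine Finset.sum_congr rfl fun l _ => ?_
    have hl : ∑ a, lam₀ a * M l a = con (b l) := by
      simp only [lam₀, Finset.sum_mul]
      rw [Finset.sum_comm]
      have : ∀ l', ∑ a, Cm a l' * con (b l') * M l a = (M * Matrix.of Cm) l l' * con (b l') := fun l' => by
        rw [Matrix.mul_apply, Finset.sum_mul]
        exact Finset.sum_congr rfl fun a _ => by rw [Matrix.of_apply]; ring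
      simp only [this, hMC, Matrix.one_apply, ite_mul, one_mul, zero_mul, Finset.sum_ite_eq, Finset.mem_univ, if_true]
    rw [← hl, Finset.mul_sum]
    refine Finset.sum_congr rfl fun a _ => ?_
    show evA e he _ * _ = _
    ring
  refine ⟨lam₀, fun W' hW' a => ?_⟩
  choose Tl hTl hTlg using fun l => exists_tan f e he (fieldOf (ψ l))
  have hext := leibniz_ext hW hpW (evA e he).toRingHom v (∑ l, (AddMonoidHom.mulLeft (lam₀ l)).comp (Tl l)) hv
    (fun a b => by
      simp only [AddMonoidHom.finsetSum_apply, AddMonoidHom.comp_apply, AddMonoidHom.coe_mulLeft, hTl]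
      rw [Finset.mul_sum, Finset.mul_sum, ← Finset.sum_add_distrib]
      refine Finset.sum_congr rfl fun l _ => ?_
      show _ = evA e he a * _ + evA e he b * _
      ring)
    (fun y => (hWeq y).trans (by
      simp only [AddMonoidHom.finsetSum_apply, AddMonoidHom.comp_apply, AddMonoidHom.coe_mulLeft, hTlg]))
  refine (DFunLike.congr_fun hext _).trans ?_
  simp only [AddMonoidHom.finsetSum_apply, AddMonoidHom.comp_apply, AddMonoidHom.coe_mulLeft, hTlg]

theorem fnSect_smul {C : Scheme.{u}} {V : C.Opens} (a : Γ(C, V)) (y : Γ(Coh.structureModule C, V)) :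
    OmegaSh.fnSect C V (a • y) = a * OmegaSh.fnSect C V y := rfl

theorem fnSect_mres {C : Scheme.{u}} {V W : C.Opens} (hle : W ≤ V) (y : Γ(Coh.structureModule C, V)) :
    OmegaSh.fnSect C W (M1.mres (Coh.structureModule C) hle y) =
      C.presheaf.map (homOfLE hle).op (OmegaSh.fnSect C V y) := rfl

/-- A functional killing a frame at a rational point vanishes there. -/
theorem evalAt_eq_zero_of_isBas {C : Scheme.{u}} {E : C.Modules} {U : C.Opens} {n : ℕ} {q : Fin n → Γ(E, U)}
    (hq : P1Split.IsBas E U q) (ψ : E ⟶ Coh.structureModule C) (e : Spec (CommRingCat.of k) ⟶ C)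
    (h1 : e (closedPoint k) ∈ U) (h : ∀ a, evalAt e h1 (OmegaSh.fnSect C U (ψ.app U (q a))) = 0)
    {V : C.Opens} (hV : e (closedPoint k) ∈ V) (z : Γ(E, V)) :
    evalAt e hV (OmegaSh.fnSect C V (ψ.app V z)) = 0 := by
  have hV' : e (closedPoint k) ∈ V ⊓ U := ⟨hV, h1⟩
  rw [← evalAt_res e (inf_le_left : V ⊓ U ≤ V) hV']
  obtain ⟨c, hc⟩ := (hq (V ⊓ U) inf_le_right).2 (M1.mres _ inf_le_left z)
  rw [← fnSect_mres]
  rw [← M1.app_mres, ← hc, P1Split.app_sum_smul, map_sum, map_sum]
  refine Finset.sum_eq_zero fun a _ => ?_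
  rw [M1.app_mres, fnSect_smul, fnSect_mres, map_mul, evalAt_res]
  exact mul_eq_zero_of_right _ (h a)

section Split

variable {g : P1Split.P1 k ⟶ X} {r : ℕ} {d : Fin r → ℤ}
  (Φ : (Scheme.Modules.pullback g).obj (Omega.sheaf f) ≅ P1Split.splitMod k d)

omit [QuasiSeparated f] in
/-- Functionals dual to the splitting, vanishing at infinity in the negative degrees. -/
theorem exists_dual_functionals (hd : ∀ a, d a ≤ 0) :
    ∃ ψ : Fin r → ((Scheme.Modules.pullback g).obj (Omega.sheaf f) ⟶ Coh.structureModule (P1Split.P1 k)),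
      ∀ (c : Fin 2) (a b : Fin r), OmegaSh.fnSect (P1Split.P1 k) (P1Split.U k c)
          ((ψ b).app (P1Split.U k c) (Φ.inv.app (P1Split.U k c) (P1Split.splitGen k d c a))) =
        if a = b then P1Split.coordHom k c (Polynomial.X ^ (if c = 0 then 0 else (-(d b)).toNat)) else 0 := by
  have hχ : ∀ b, ∃ χ : _root_.Twist.twist (P1Split.gr k) (d b) ⟶ Coh.structureModule (P1Split.P1 k),
      ∀ c, χ.app (P1Split.U k c) (P1Split.twGen k (d b) c) = OmegaSh.strSect (P1Split.P1 k) (P1Split.U k c)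
        (P1Split.coordHom k c (Polynomial.X ^ (if c = 0 then 0 else (-(d b)).toNat))) := by
    intro b
    refine P1Split.exists_hom_of_transition k (Coh.structureModule (P1Split.P1 k)) (d b) _ ?_
    show P1Split.resHom k 1 (Polynomial.X ^ (-(d b)).toNat) =
      P1Split.lauHom k (LaurentPolynomial.T (d b)) * P1Split.resHom k 0 (Polynomial.X ^ 0)
    rw [pow_zero, map_one, mul_one, ← P1Split.lauHom_negHom, P1Split.negHom_X_pow]
    congr 2
    have := hd b
    omega
  choose χ hχ using hχ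
  refine ⟨fun b => Φ.hom ≫ P1Split.proj (fun a => _root_.Twist.twist (P1Split.gr k) (d a)) b ≫ χ b, fun c a b => ?_⟩
  show OmegaSh.fnSect _ _ ((χ b).app _ ((P1Split.proj _ b).app _ ((Φ.inv ≫ Φ.hom).app _ (P1Split.splitGen k d c a)))) = _
  rw [Iso.inv_hom_id]
  show OmegaSh.fnSect _ _ ((χ b).app _ ((Sigma.ι (fun a => _root_.Twist.twist (P1Split.gr k) (d a)) a ≫
    P1Split.proj (fun a => _root_.Twist.twist (P1Split.gr k) (d a)) b).app _ (P1Split.twGen k (d a) c))) = _
  by_cases hab : a = b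
  · subst hab
    rw [P1Split.ι_proj_self, if_pos rfl]
    exact congrArg _ (hχ a c)
  · rw [P1Split.ι_proj_ne _ hab, if_neg hab]
    show OmegaSh.fnSect _ _ ((χ b).app _ 0) = 0
    rw [map_zero, map_zero]

variable [IsAlgClosed k] [IsIntegral X] [Smooth f] {i : ℕ} {L : X.Modules}
  (hL : ExtPow.IsExtPow i (Omega.sheaf f) L) {m : ℕ}

include hL Φ in
/-- A splitting with nonpositive degrees kills tensor forms. -/
theorem eq_zero_of_split (hg : g ≫ f = pC k) (hr : FlatMod.IsFinLocFreeOfRank r (Omega.sheaf f))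
    (hd : ∀ a, d a ≤ 0) (hneg : ∀ w : Fin i → Fin r, Function.Injective w → ∃ b, d (w b) < 0) (hm : 0 < m)
    (s : Γ(CohB1.tensorPow L m, ⊤)) : s = 0 := by
  obtain ⟨ψ, hψ⟩ := exists_dual_functionals Φ hd
  obtain ⟨einf, hinf, -, h1, hX0⟩ := exists_pt_infty k
  refine eq_zero_of_fields hL hg s (fun a : ULift.{u} (Fin r) => fieldOf (ψ a.down)) (P1Split.U k 0)
    (let ⟨x⟩ := P1Split.nonempty_U k 0; ⟨x.1, x.2⟩) (fun e he he' heT v hv hvc => ?_) (const_P1 k) einf hinf
    fun w hw => ?_
  · obtain ⟨lam₀, hlam⟩ := exists_lam_of_dual (fC := pC k) e he hr heT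
      (fun a => Φ.inv.app (P1Split.U k 0) (P1Split.splitGen k d 0 a)) ψ
      (fun a b => by rw [hψ, if_pos rfl, pow_zero, map_one]) v hv hvc
    refine ⟨fun a => lam₀ a.down, fun {inst} W hW y => (hlam W hW y).trans ?_⟩
    exact (Fintype.sum_equiv Equiv.ulift _ _ fun _ => rfl).symm
  · obtain ⟨b, hb⟩ := hneg (fun b => (w (⟨0, hm⟩, b)).down) fun b b' h => hw ⟨0, hm⟩ (ULift.ext _ _ h)
    refine ⟨(⟨0, hm⟩, b), fun W hW x => ?_⟩
    refine evalAt_eq_zero_of_isBas ((P1Split.isBas_splitGen k d 1).map_iso Φ.symm) (ψ _) einf h1 (fun a => ?_)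
      (V := g ⁻¹ᵁ W) hW _
    refine (congrArg (evalAt einf h1) (hψ 1 a _)).trans ?_
    split
    · rw [if_neg (by decide), map_pow, map_pow, hX0, zero_pow]
      omega
    · rw [map_zero]

end Split

end Groth.Agent.AlmostR6
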