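import Groth.Agent.Lib.AlmostR6.Forms
import Groth.Agent.Lib.AlmostR6.Alg
import Mathlib.AlgebraicGeometry.Stalk
import Mathlib.AlgebraicGeometry.ValuativeCriterion

/-!
# Values of global tensor forms at points with derivations
-/

set_option autoImplicit false
set_option backward.isDefEq.respectTransparency false
set_option backward.isDefEq.respectTransparency.types false
set_option linter.style.haveILetI false

universe u

open CategoryTheory AlgebraicGeometry Opposite TopologicalSpace IsLocalRing

noncomputable section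

namespace Groth.Agent.AlmostR6

variable {k : Type u} [Field k] {X : Scheme.{u}} (f : X ⟶ Spec (CommRingCat.of k))
variable {O : Type u} [CommRing O] [IsLocalRing O] [Algebra k O]

/-- An `O`-valued point over `k`. -/
def IsPt (x : Spec (CommRingCat.of O) ⟶ X) : Prop :=
  x ≫ f = Spec.map (CommRingCat.ofHom (algebraMap k O))

variable {f}

/-- The map from the local ring at the image of the closed point. -/
abbrev clMap (x : Spec (CommRingCat.of O) ⟶ X) : X.presheaf.stalk (x (closedPoint O)) →+* O :=
  (Scheme.stalkClosedPointTo (R := CommRingCat.of O) x).hom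

theorem clMap_germ (x : Spec (CommRingCat.of O) ⟶ X) {U : X.Opens} (hU : x (closedPoint O) ∈ U)
    (r : Γ(X, U)) :
    clMap x (X.presheaf.germ U _ hU r) = (Scheme.ΓSpecIso (CommRingCat.of O)).hom
      (x.appLE U ⊤ (Scheme.preimage_eq_top_of_closedPoint_mem x hU).ge r) := by
  show (X.presheaf.germ U _ hU ≫ Scheme.stalkClosedPointTo (R := CommRingCat.of O) x) r = _
  rw [Scheme.germ_stalkClosedPointTo (R := CommRingCat.of O) x U hU]
  rfl

theorem isOver_clMap {x : Spec (CommRingCat.of O) ⟶ X} (hx : IsPt f x) : IsOver f (clMap x) := by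
  intro c
  refine ⟨(Scheme.ΓSpecIso (CommRingCat.of k)).hom c, ?_⟩
  rw [clMap_germ x (U := ⊤) trivial]
  show algebraMap k O _ = (Scheme.ΓSpecIso (CommRingCat.of O)).hom (x.appLE ⊤ ⊤ _ (f.appTop c))
  have e : (f.appTop ≫ x.appTop) ≫ (Scheme.ΓSpecIso (CommRingCat.of O)).hom =
      (Scheme.ΓSpecIso (CommRingCat.of k)).hom ≫ CommRingCat.ofHom (algebraMap k O) := by
    rw [← Scheme.Hom.comp_appTop, show x ≫ f = _ from hx]
    exact Scheme.ΓSpecIso_naturality _
  rw [Scheme.Hom.appLE, show homOfLE _ = 𝟙 _ from Subsingleton.elim _ _]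
  simp only [op_id, CategoryTheory.Functor.map_id, Category.comp_id]
  exact (ConcreteCategory.congr_hom e c).symm

variable [QuasiSeparated f] {i : ℕ} {L : X.Modules} (hL : ExtPow.IsExtPow i (Omega.sheaf f) L) {m : ℕ}
  (s : Γ(CohB1.tensorPow L m, ⊤))

/-- The value of a global tensor form at a point on a tuple of derivations. -/
def val (x : Spec (CommRingCat.of O) ⟶ X) (hx : IsPt f x) (D : Fin m × Fin i → Derivation k O O) : O :=
  Lam hL (isOver_clMap hx) m D ((CohB1.tensorPow L m).presheaf.germ ⊤ (x (closedPoint O)) trivial s)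

theorem val_comp {O' : Type u} [CommRing O'] [IsLocalRing O'] [Algebra k O'] (g : O →+* O')
    (x : Spec (CommRingCat.of O) ⟶ X) (hx : IsPt f x) (x' : Spec (CommRingCat.of O') ⟶ X) (hx' : IsPt f x')
    (he : Spec.map (CommRingCat.ofHom g) ≫ x = x') (D : Fin m × Fin i → Derivation k O O)
    (D' : Fin m × Fin i → Derivation k O' O') (hD : ∀ t a, D' t (g a) = g (D t a)) :
    val hL s x' hx' D' = g (val hL s x hx D) := by
  subst he
  have hqp : (Spec.map (CommRingCat.ofHom g) ≫ x) (closedPoint O') ⤳ x (closedPoint O) := by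
    rw [Scheme.Hom.comp_apply]
    exact (IsLocalRing.specializes_closedPoint _).map x.continuous
  have hg : (clMap (Spec.map (CommRingCat.ofHom g) ≫ x)).comp (X.presheaf.stalkSpecializes hqp).hom =
      g.comp (clMap x) := by
    refine RingHom.ext fun a => ?_
    obtain ⟨U, hU, r, rfl⟩ := X.presheaf.germ_exist a
    show clMap _ (X.presheaf.stalkSpecializes hqp (X.presheaf.germ U _ hU r)) = g (clMap x (X.presheaf.germ U _ hU r))
    rw [TopCat.Presheaf.germ_stalkSpecializes_apply, clMap_germ, clMap_germ]
    have e : (Spec.map (CommRingCat.ofHom g)).appTop ≫ (Scheme.ΓSpecIso (CommRingCat.of O')).hom =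
        (Scheme.ΓSpecIso (CommRingCat.of O)).hom ≫ CommRingCat.ofHom g := Scheme.ΓSpecIso_naturality _
    have e' : (Spec.map (CommRingCat.ofHom g) ≫ x).appLE U ⊤
          (Scheme.preimage_eq_top_of_closedPoint_mem _ (hqp.mem_open U.2 hU)).ge =
        x.appLE U ⊤ (Scheme.preimage_eq_top_of_closedPoint_mem x hU).ge ≫
          (Spec.map (CommRingCat.ofHom g)).appTop := by
      rw [← Scheme.Hom.appLE_comp_appLE _ _ U ⊤ ⊤ (Scheme.preimage_eq_top_of_closedPoint_mem x hU).ge le_rfl]
      congr 1
      try rw [Scheme.Hom.appLE, show homOfLE _ = 𝟙 _ from Subsingleton.elim _ _, op_id,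
        CategoryTheory.Functor.map_id, Category.comp_id]
    rw [e']
    exact ConcreteCategory.congr_hom e _
  rw [val, val, ← TopCat.Presheaf.germ_stalkSpecializes_apply (CohB1.tensorPow L m).presheaf (U := ⊤) trivial hqp s]
  exact Lam_comp hL (isOver_clMap hx) g hqp (isOver_clMap hx') hg m D D' hD _

/-- The value as a multilinear map in the derivations. -/
def valM (x : Spec (CommRingCat.of O) ⟶ X) (hx : IsPt f x) :
    MultilinearMap O (fun _ : Fin m × Fin i => Derivation k O O) O where
  toFun D := val hL s x hx D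
  map_update_add' := fun {inst} D t a b => by
    obtain rfl : inst = instDecidableEqProd := Subsingleton.elim _ _
    exact Lam_update_add hL (isOver_clMap hx) m D t a b _
  map_update_smul' := fun {inst} D t c a => by
    obtain rfl : inst = instDecidableEqProd := Subsingleton.elim _ _
    exact Lam_update_smul hL (isOver_clMap hx) m D t c a _

theorem valM_apply (x : Spec (CommRingCat.of O) ⟶ X) (hx : IsPt f x) (D : Fin m × Fin i → Derivation k O O) :
    valM hL s x hx D = val hL s x hx D := rfl

theorem val_zero (hi : 0 < i) (hm : 0 < m) (x : Spec (CommRingCat.of O) ⟶ X) (hx : IsPt f x) :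
    val hL s x hx 0 = 0 :=
  (valM hL s x hx).map_coord_zero ((⟨0, hm⟩, ⟨0, hi⟩) : Fin m × Fin i) rfl

omit [IsLocalRing O] [Algebra k O] in
/-- At a generic point of a line: derivations stable on a valuation ring give values in the valuation ring. -/
theorem val_mem {F : Type u} [Field F] [Algebra k F] [UniversallyClosed f] (A : ValuationSubring F)
    (hk : ∀ c : k, algebraMap k F c ∈ A) (x : Spec (CommRingCat.of F) ⟶ X) (hx : IsPt f x)
    (D : Fin m × Fin i → Derivation k F F) (hD : ∀ t, ∀ a ∈ A, D t a ∈ A) : val hL s x hx D ∈ A := by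
  letI : Algebra k ↥A := ((algebraMap k F).codRestrict A hk).toAlgebra
  have sq : CommSq x (Spec.map (CommRingCat.ofHom (algebraMap ↥A F))) f
      (Spec.map (CommRingCat.ofHom (algebraMap k ↥A))) := ⟨by
    rw [show x ≫ f = _ from hx, ← Spec.map_comp]; rfl⟩
  obtain ⟨⟨l⟩⟩ : (CommSq.HasLift sq) := by
    have hE : ValuativeCriterion.Existence f :=
      (UniversallyClosed.eq_valuativeCriterion.le _ _ f ‹UniversallyClosed f›).1
    exact hE ⟨↥A, F, x, _, sq⟩
  have hl : IsPt f l.l := l.fac_right
  let D' : Fin m × Fin i → Derivation k ↥A ↥A := fun t => Derivation.mk'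
    { toFun := fun a => ⟨D t a, hD t a a.2⟩
      map_add' := fun a b => Subtype.ext (by simp)
      map_smul' := fun c a => Subtype.ext (by
        show D t (algebraMap k F c * (a : F)) = algebraMap k F c * D t a
        rw [Derivation.leibniz, Derivation.map_algebraMap, smul_zero, add_zero, smul_eq_mul]) }
    fun a b => Subtype.ext (by
      show D t ((a : F) * b) = (a : F) * D t b + (b : F) * D t a
      rw [Derivation.leibniz, smul_eq_mul, smul_eq_mul])
  rw [val_comp hL s (algebraMap ↥A F) l.l hl x hx l.fac_left D' D fun t a => rfl]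
  exact (val hL s l.l hl D').2

section Stalk

/-- Scalars in the local rings. -/
@[reducible] def stalkAlgebra (f : X ⟶ Spec (CommRingCat.of k)) (p : X) : Algebra k (X.presheaf.stalk p) :=
  ((Scheme.ΓSpecIso (CommRingCat.of k)).inv ≫ f.appTop ≫ X.presheaf.germ ⊤ p trivial).hom.toAlgebra

theorem isOver_id (p : X) :
    letI := stalkAlgebra f p
    IsOver f (RingHom.id (X.presheaf.stalk p)) := by
  intro c
  refine ⟨(Scheme.ΓSpecIso (CommRingCat.of k)).hom c, ?_⟩
  show X.presheaf.germ ⊤ p trivial (f.appTop ((Scheme.ΓSpecIso _).inv ((Scheme.ΓSpecIso _).hom c))) = _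
  rw [Iso.hom_inv_id_apply]
  rfl

theorem stalkSpecializes_algebraMap {p q : X} (h : q ⤳ p) (c : k) :
    letI := stalkAlgebra f p
    letI := stalkAlgebra f q
    X.presheaf.stalkSpecializes h (algebraMap k (X.presheaf.stalk p) c) = algebraMap k (X.presheaf.stalk q) c :=
  TopCat.Presheaf.germ_stalkSpecializes_apply X.presheaf (U := ⊤) trivial h _

theorem isPt_fromSpecStalk (p : X) :
    letI := stalkAlgebra f p
    IsPt (O := X.presheaf.stalk p) f (X.fromSpecStalk p) := by
  letI := stalkAlgebra f p
  refine ext_of_isAffine ?_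
  rw [Scheme.Hom.comp_appTop, Scheme.fromSpecStalk_appTop]
  have e := Scheme.ΓSpecIso_inv_naturality (CommRingCat.ofHom (algebraMap k (X.presheaf.stalk p)))
  rw [← cancel_epi (Scheme.ΓSpecIso (CommRingCat.of k)).inv, ← e,
    show CommRingCat.ofHom (algebraMap k (X.presheaf.stalk p)) =
      (Scheme.ΓSpecIso (CommRingCat.of k)).inv ≫ f.appTop ≫ X.presheaf.germ ⊤ p trivial from rfl]
  simp only [Category.assoc]
  rw [Subsingleton.elim (homOfLE _).op (𝟙 _), CategoryTheory.Functor.map_id, Category.comp_id]
  rfl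

theorem val_fromSpecStalk (p : X) :
    letI := stalkAlgebra f p
    ∀ D : Fin m × Fin i → Derivation k (X.presheaf.stalk p) (X.presheaf.stalk p),
      val (O := X.presheaf.stalk p) hL s (X.fromSpecStalk p) (isPt_fromSpecStalk p) D =
        Lam hL (isOver_id p) m D ((CohB1.tensorPow L m).presheaf.germ ⊤ p trivial s) := by
  letI := stalkAlgebra f p
  intro D
  have hqp : X.fromSpecStalk p (closedPoint (X.presheaf.stalk p : Type u)) ⤳ p := by
    rw [Scheme.fromSpecStalk_closedPoint]
  have hg : (clMap (O := X.presheaf.stalk p) (X.fromSpecStalk p)).comp (X.presheaf.stalkSpecializes hqp).hom =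
      (RingHom.id _).comp (RingHom.id (X.presheaf.stalk p)) := by
    refine RingHom.ext fun a => ?_
    obtain ⟨U, hU, r, rfl⟩ := X.presheaf.germ_exist a
    show Scheme.stalkClosedPointTo (R := X.presheaf.stalk p) (X.fromSpecStalk p)
      (X.presheaf.stalkSpecializes hqp (X.presheaf.germ U p hU r)) = X.presheaf.germ U p hU r
    rw [Scheme.stalkClosedPointTo_fromSpecStalk, TopCat.Presheaf.stalkCongr_hom,
      TopCat.Presheaf.germ_stalkSpecializes_apply, TopCat.Presheaf.germ_stalkSpecializes_apply]
  rw [val]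
  refine (congrArg _ (TopCat.Presheaf.germ_stalkSpecializes_apply (CohB1.tensorPow L m).presheaf (U := ⊤)
    trivial hqp s).symm).trans ?_
  exact Lam_comp hL (isOver_id p) (RingHom.id _) hqp (isOver_clMap (O := X.presheaf.stalk p) (isPt_fromSpecStalk p)) hg m D D (fun t a => rfl) _

end Stalk

end Groth.Agent.AlmostR6
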